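import Mathlib
import Cfsg.Agent.H10.SL

/-! transvections inside a finite matrix monoid -/

set_option autoImplicit false
set_option linter.unusedSectionVars false

namespace Cfsg.Agent.H19.RU

open Matrix

variable {ι F : Type*} [Fintype ι] [DecidableEq ι] [Field F] [Finite F] {S : Submonoid (Matrix ι ι F)}
  {A B C : Matrix ι ι F} {p p' q q' : ι → F}

theorem inv_mem (hA : A ∈ S) (h : A * B = 1) : B ∈ S := by
  let a : (Matrix ι ι F)ˣ := ⟨A, B, h, mul_eq_one_comm.1 h⟩
  have h1 : a⁻¹ ∈ Submonoid.powers a := by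
    rw [mem_powers_iff_mem_zpowers]; exact Subgroup.inv_mem _ (Subgroup.mem_zpowers a)
  obtain ⟨k, hk⟩ := h1
  have : A ^ k = B := (Units.val_pow_eq_pow_val a k).symm.trans (congrArg Units.val hk)
  exact this ▸ S.pow_mem hA k

theorem mem_of_mul (hA : A ∈ S) (hB : B ∈ S) {B' : Matrix ι ι F} (h' : B * B' = 1) (h : C * B = A) : C ∈ S := by
  have : C = A * B' := by rw [← h, mul_assoc, h', mul_one]
  exact this ▸ S.mul_mem hA (inv_mem hB h')

theorem vv_mul (u v w x : ι → F) : vecMulVec u v * vecMulVec w x = (v ⬝ᵥ w) • vecMulVec u x := by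
  rw [vecMulVec_mul_vecMulVec, vecMulVec_smul]

theorem vv_mulVec (u v w : ι → F) : vecMulVec u v *ᵥ w = (v ⬝ᵥ w) • u := by
  rw [vecMulVec_mulVec, op_smul_eq_smul]

/-- the transvection with centre `p` and axis `q` lies in `S` -/
def Tv (S : Submonoid (Matrix ι ι F)) (p q : ι → F) : Prop := q ⬝ᵥ p = 0 ∧ 1 + vecMulVec p q ∈ S

theorem tv_inv (h : q ⬝ᵥ p = 0) : (1 + vecMulVec p q) * (1 - vecMulVec p q) = 1 := by
  simp [mul_sub, add_mul, vv_mul, h]

theorem tv_inv' (h : q ⬝ᵥ p = 0) : (1 - vecMulVec p q) * (1 + vecMulVec p q) = 1 := mul_eq_one_comm.1 (tv_inv h)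

theorem Tv.zero : Tv S 0 q := ⟨by simp, by simpa using S.one_mem⟩

theorem Tv.neg (h : Tv S p q) : Tv S (-p) q :=
  ⟨by simp [h.1], by rw [neg_vecMulVec, ← sub_eq_add_neg]; exact inv_mem h.2 (tv_inv h.1)⟩

theorem Tv.add (h : Tv S p q) (h' : Tv S p' q) : Tv S (p + p') q := by
  refine ⟨by simp [h.1, h'.1], ?_⟩
  have := S.mul_mem h.2 h'.2
  simp only [mul_add, add_mul, vv_mul, h'.1, mul_one, one_mul, zero_smul, add_zero] at this
  rwa [add_vecMulVec, ← add_assoc]

theorem Tv.sub (h : Tv S p q) (h' : Tv S p' q) : Tv S (p - p') q := by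
  rw [sub_eq_add_neg]; exact h.add h'.neg

theorem Tv.add' (h : Tv S p q) (h' : Tv S p q') : Tv S p (q + q') := by
  refine ⟨by simp [h.1, h'.1], ?_⟩
  have := S.mul_mem h.2 h'.2
  simp only [mul_add, add_mul, vv_mul, h.1, mul_one, one_mul, zero_smul, add_zero] at this
  rwa [vecMulVec_add, ← add_assoc]

theorem tv_smul (c : F) : Tv S (c • p) q ↔ Tv S p (c • q) := by
  simp [Tv, smul_vecMulVec, vecMulVec_smul]

theorem Tv.conj (h : Tv S p q) (hA : A ∈ S) (hB : A * B = 1) : Tv S (A *ᵥ p) (q ᵥ* B) := by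
  refine ⟨by rw [← dotProduct_mulVec, mulVec_mulVec, mul_eq_one_comm.1 hB, one_mulVec, h.1], ?_⟩
  have := S.mul_mem (S.mul_mem hA h.2) (inv_mem hA hB)
  rwa [mul_add, add_mul, mul_one, hB, mul_vecMulVec, vecMulVec_mul] at this

/-- an element fixing the axis acts on the centres -/
theorem Tv.act (h : Tv S p q) (hA : A ∈ S) (hB : A * B = 1) (hq : q ᵥ* A = q) : Tv S (A *ᵥ p) q := by
  have := h.conj hA hB
  rwa [← hq, vecMul_vecMul, hB, vecMul_one] at this

theorem Tv.comm (h : Tv S p q) (h' : Tv S p' q') (e : q ⬝ᵥ p' = 0) : Tv S ((q' ⬝ᵥ p) • p') q := by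
  have := (h.act h'.2 (tv_inv h'.1) (by rw [vecMul_add, vecMul_one, vecMul_vecMulVec, e, zero_smul, add_zero])).sub h
  rwa [add_mulVec, one_mulVec, vv_mulVec, add_sub_cancel_left] at this

/-- all transvections with axis `q` lie in `S` -/
def Ax (S : Submonoid (Matrix ι ι F)) : Submodule F (ι → F) where
  carrier := {q | ∀ p, q ⬝ᵥ p = 0 → Tv S p q}
  zero_mem' := fun p _ => ⟨by simp, by simpa using S.one_mem⟩
  smul_mem' := fun c q h p hp => by
    by_cases hc : c = 0
    · subst hc; exact ⟨by simp, by simpa using S.one_mem⟩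
    · exact (tv_smul c).1 (h _ (by simpa using hp))
  add_mem' := fun {q q'} h h' p hp => by
    by_cases hs : q' ∈ Submodule.span F {q}
    · obtain ⟨c, rfl⟩ := Submodule.mem_span_singleton.1 hs
      have e : q + c • q = (1 + c) • q := by rw [add_smul, one_smul]
      rw [e] at hp ⊢
      by_cases hc : 1 + c = 0
      · rw [hc, zero_smul]; exact ⟨by simp, by simpa using S.one_mem⟩
      · exact (tv_smul _).1 (h _ (by simpa using hp))
    · obtain ⟨f, hf, hf'⟩ := Submodule.exists_le_ker_of_notMem hs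
      obtain ⟨y, hy⟩ : ∃ y : ι → F, ∀ x, f x = x ⬝ᵥ y :=
        ⟨fun i => f (Pi.single i 1), fun x => by
          rw [LinearMap.pi_apply_eq_sum_univ]
          refine Finset.sum_congr rfl fun i _ => ?_
          rw [smul_eq_mul]; congr 2; ext j; simp [Pi.single_apply, eq_comm]⟩
      have h0 : q ⬝ᵥ y = 0 := by rw [← hy]; exact hf' (Submodule.mem_span_singleton_self q)
      rw [hy] at hf
      have h1 : q ⬝ᵥ ((q' ⬝ᵥ y)⁻¹ • y) = 0 := by simp [h0]
      have h2 : q' ⬝ᵥ ((q' ⬝ᵥ y)⁻¹ • y) = 1 := by simp [hf]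
      generalize (q' ⬝ᵥ y)⁻¹ • y = z at h1 h2
      have e : q' ᵥ* (1 + vecMulVec z q) = q + q' := by rw [vecMul_add, vecMul_one, vecMul_vecMulVec, h2, one_smul, add_comm]
      have := (h' ((1 + vecMulVec z q) *ᵥ p) (by rw [dotProduct_mulVec, e, hp])).conj
        (inv_mem (h z h1).2 (tv_inv h1)) (tv_inv' h1)
      rwa [e, mulVec_mulVec, tv_inv' h1, one_mulVec] at this

theorem ax_conj (h : q ∈ Ax S) (hA : A ∈ S) (hB : A * B = 1) : q ᵥ* A ∈ Ax S := fun p hp => by
  have := (h (A *ᵥ p) (by rwa [dotProduct_mulVec])).conj (inv_mem hA hB) (mul_eq_one_comm.1 hB)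
  rwa [mulVec_mulVec, mul_eq_one_comm.1 hB, one_mulVec] at this

/-- a cyclic vector of a regular nilpotent endomorphism generates -/
theorem cyc_top {V : Type*} [AddCommGroup V] [Module F V] [FiniteDimensional F V] (f : V →ₗ[F] V) {n : ℕ}
    (hn : Module.finrank F V = n + 1) (h0 : f ^ (n + 1) = 0) (W : Submodule F V) (hW : ∀ v ∈ W, f v ∈ W) {y : V}
    (hy : y ∈ W) (h1 : (f ^ n) y ≠ 0) : W = ⊤ := by
  have key : ∀ j, j ≤ n + 1 → j ≤ Module.finrank F (W.map (f ^ (n + 1 - j))) := by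
    intro j
    induction j with
    | zero => simp
    | succ j ih =>
      intro hj
      have e : n + 1 - j = n + 1 - (j + 1) + 1 := by omega
      have hle : ∀ k, W.map (f ^ (k + 1)) ≤ W.map (f ^ k) := fun k => by
        rintro _ ⟨v, hv, rfl⟩
        exact ⟨f v, hW v hv, by rw [pow_succ]; rfl⟩
      refine lt_of_le_of_lt (ih (by omega)) (Submodule.finrank_lt_finrank_of_lt ?_)
      rw [e]
      refine lt_of_le_of_ne (hle _) fun he => h1 ?_
      generalize hk : n + 1 - (j + 1) = k at he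
      have h2 : ∀ m, W.map (f ^ (k + m)) = W.map (f ^ k) := fun m => by
        induction m with
        | zero => rfl
        | succ m ihm =>
          rw [← add_assoc, pow_succ', Module.End.mul_eq_comp, Submodule.map_comp, ihm, ← Submodule.map_comp,
            ← Module.End.mul_eq_comp, ← pow_succ', he]
      have h3 := h2 (j + 1)
      rw [show k + (j + 1) = n + 1 by omega, h0, Submodule.map_zero] at h3
      have h4 : (f ^ k) y = 0 := by
        have : (f ^ k) y ∈ W.map (f ^ k) := ⟨y, hy, rfl⟩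
        rwa [← h3] at this
      rw [show n = j + k by omega, pow_add, Module.End.mul_apply, h4, map_zero]
  have := key (n + 1) le_rfl
  rw [Nat.sub_self, pow_zero, Module.End.one_eq_id, Submodule.map_id] at this
  exact Submodule.eq_top_of_finrank_eq (le_antisymm (Submodule.finrank_le W) (hn ▸ this))

theorem cyc_mulVec {N : Matrix ι ι F} {n : ℕ} (hn : Fintype.card ι = n + 1) (h0 : N ^ (n + 1) = 0)
    (W : Submodule F (ι → F)) (hW : ∀ v ∈ W, N *ᵥ v ∈ W) (hy : p ∈ W) (h1 : (N ^ n) *ᵥ p ≠ 0) : W = ⊤ :=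
  cyc_top (n := n) (Matrix.toLin' N) (by simp [hn]) (by rw [← toLin'_pow, h0, map_zero]) W hW hy
    (by rwa [← toLin'_pow])

theorem cyc_vecMul {N : Matrix ι ι F} {n : ℕ} (hn : Fintype.card ι = n + 1) (h0 : N ^ (n + 1) = 0)
    (W : Submodule F (ι → F)) (hW : ∀ v ∈ W, v ᵥ* N ∈ W) (hy : p ∈ W) (h1 : p ᵥ* (N ^ n) ≠ 0) : W = ⊤ :=
  cyc_mulVec (N := Nᵀ) hn (by rw [← transpose_pow, h0, transpose_zero]) W
    (fun v hv => by rw [mulVec_transpose]; exact hW v hv) hy (by rwa [← transpose_pow, mulVec_transpose])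

theorem ax_top {N : Matrix ι ι F} {n : ℕ} (hn : Fintype.card ι = n + 1) (h0 : N ^ (n + 1) = 0) (hN : 1 + N ∈ S)
    (hB : (1 + N) * B = 1) (hq : q ∈ Ax S) (h1 : q ᵥ* (N ^ n) ≠ 0) : Ax S = ⊤ :=
  cyc_vecMul hn h0 _ (fun v hv => by
    have := (Ax S).sub_mem (ax_conj hv hN hB) hv
    rwa [vecMul_add, vecMul_one, add_sub_cancel_left] at this) hq h1

/-- the matrices of a subgroup of `SL` -/
def sm (H : Subgroup (SpecialLinearGroup ι F)) : Submonoid (Matrix ι ι F) where
  carrier := {A | ∃ g ∈ H, (g : Matrix ι ι F) = A}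
  one_mem' := ⟨1, H.one_mem, rfl⟩
  mul_mem' := by
    rintro _ _ ⟨g, hg, rfl⟩ ⟨h, hh, rfl⟩
    exact ⟨g * h, H.mul_mem hg hh, rfl⟩

theorem top_of_ax {H : Subgroup (SpecialLinearGroup ι F)} (h : Ax (sm H) = ⊤) : H = ⊤ := by
  refine H10.SL_eq_top_of_transvection_mem H fun i j hij a => ?_
  have h1 : (Pi.single j 1 : ι → F) ∈ Ax (sm H) := h ▸ Submodule.mem_top
  obtain ⟨-, g, hg, e⟩ := h1 (Pi.single i a) (by simp [hij.symm])
  convert hg
  ext k l
  rw [e]
  simp [SpecialLinearGroup.transvection, Matrix.transvection, vecMulVec_apply, Matrix.single, Pi.single_apply, ite_and, eq_comm]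
  split_ifs <;> simp

end Cfsg.Agent.H19.RU
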