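import Mathlib
import Cfsg.Agent.H19.RU1

/-! a regular unipotent element and its conjugate by a transvection generate all transvections -/

set_option autoImplicit false
set_option linter.unusedSectionVars false

namespace Cfsg.Agent.H19.RU

open Matrix

variable {ι F : Type*} [Fintype ι] [DecidableEq ι] [Field F] [Finite F] {S : Submonoid (Matrix ι ι F)}

/-- a finite subset of a finite field closed under the ring operations -/
def subr (P : F → Prop) (h0 : P 0) (hadd : ∀ x y, P x → P y → P (x + y)) (hneg : ∀ x, P x → P (-x))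
    (hmul : ∀ x y, P x → P y → P (x * y)) {x : F} (hx : P x) (hx0 : x ≠ 0) : Subring F where
  carrier := {x | P x}
  zero_mem' := h0
  add_mem' := hadd _ _
  neg_mem' := hneg _
  mul_mem' := hmul _ _
  one_mem' := by
    have h : ∀ k : ℕ, P (x ^ (k + 1)) := fun k => by
      induction k with
      | zero => simpa using hx
      | succ k ih => rw [pow_succ]; exact hmul _ _ ih hx
    cases nonempty_fintype F
    have := h (Fintype.card F - 2)
    rwa [show Fintype.card F - 2 + 1 = Fintype.card F - 1 by have := Fintype.one_lt_card (α := F); omega,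
      FiniteField.pow_card_sub_one_eq_one x hx0] at this

theorem inv_pair {A A' B B' : Matrix ι ι F} (h : A * A' = 1) (h' : B * B' = 1) : A * B * (B' * A') = 1 := by
  rw [mul_assoc, ← mul_assoc B, h', one_mul, h]

structure Sq (S : Submonoid (Matrix ι ι F)) (U V : Matrix ι ι F) (y ψ : ℤ → ι → F) (γ : ℤ → F) (w : ℕ) : Prop where
  hU : U ∈ S
  hV : U * V = 1
  hy : ∀ k, y (k + 1) = U *ᵥ y k
  hψ : ∀ k, ψ (k + 1) = ψ k ᵥ* V
  hγ : ∀ j k, ψ j ⬝ᵥ y k = γ (k - j)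
  hs : (1 + vecMulVec (y 0) (ψ 0)) * (1 - vecMulVec (y 1) (ψ 1)) ∈ S
  hw : 2 ≤ w
  z : ∀ k : ℤ, 0 ≤ k → k ≤ w → γ k = 0
  ha : γ (-1) ≠ 0
  hc : γ (w + 1) ≠ 0

namespace Sq

variable {U V : Matrix ι ι F} {y ψ : ℤ → ι → F} {γ : ℤ → F} {w : ℕ} {α β : F} {j k : ℤ} {p : ι → F}

theorem hV' (h : Sq S U V y ψ γ w) : V * U = 1 := mul_eq_one_comm.1 h.hV

theorem z0 (h : Sq S U V y ψ γ w) (k : ℤ) : ψ k ⬝ᵥ y k = 0 := by rw [h.hγ, sub_self, h.z 0 le_rfl (by omega)]

theorem up (h : Sq S U V y ψ γ w) (t : Tv S p (ψ j)) : Tv S (U *ᵥ p) (ψ (j + 1)) := by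
  rw [h.hψ]; exact t.conj h.hU h.hV

theorem up' (h : Sq S U V y ψ γ w) (t : Tv S (α • y k) (ψ j)) : Tv S (α • y (k + 1)) (ψ (j + 1)) := by
  have := h.up t
  rwa [mulVec_smul, ← h.hy] at this

theorem down (h : Sq S U V y ψ γ w) (t : Tv S (α • y (k + 1)) (ψ (j + 1))) : Tv S (α • y k) (ψ j) := by
  have := t.conj (inv_mem h.hU h.hV) h.hV'
  rwa [h.hy, h.hψ, mulVec_smul, mulVec_mulVec, vecMul_vecMul, h.hV', one_mulVec, vecMul_one] at this

theorem s1 (h : Sq S U V y ψ γ w) (k : ℕ) :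
    (1 + vecMulVec (y k) (ψ k)) * (1 - vecMulVec (y (k + 1)) (ψ (k + 1))) ∈ S := by
  induction k with
  | zero => simpa using h.hs
  | succ k ih =>
    have := S.mul_mem (S.mul_mem h.hU ih) (inv_mem h.hU h.hV)
    convert this using 1
    push_cast
    rw [h.hy (k + 1), h.hψ (k + 1)]
    conv_lhs => rw [h.hy k, h.hψ k]
    rw [h.hy k, h.hψ k]
    simp only [← mul_vecMulVec, ← vecMulVec_mul]
    generalize vecMulVec (y k) (ψ k) = E
    have e1 := h.hV
    have e2 : ∀ X, V * (U * X) = X := fun X => by rw [← mul_assoc, h.hV', one_mul]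
    simp only [mul_add, add_mul, mul_sub, sub_mul, mul_one, one_mul, mul_assoc, e1, e2]

theorem s2 (h : Sq S U V y ψ γ w) (k : ℕ) :
    (1 + vecMulVec (y 0) (ψ 0)) * (1 - vecMulVec (y k) (ψ k)) ∈ S := by
  induction k with
  | zero => simpa [tv_inv (h.z0 0)] using S.one_mem
  | succ k ih =>
    have := S.mul_mem ih (h.s1 k)
    rwa [mul_assoc, ← mul_assoc (1 - _), tv_inv' (h.z0 k), one_mul] at this

theorem sinv (h : Sq S U V y ψ γ w) (j k : ℤ) : (1 + vecMulVec (y j) (ψ j)) * (1 - vecMulVec (y k) (ψ k)) *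
    ((1 + vecMulVec (y k) (ψ k)) * (1 - vecMulVec (y j) (ψ j))) = 1 := by
  rw [mul_assoc, ← mul_assoc (1 - _), tv_inv' (h.z0 k), one_mul, tv_inv (h.z0 j)]

theorem first (h : Sq S U V y ψ γ w) : Tv S ((γ (-1) * γ (-1)) • y 2) (ψ 0) := by
  have hw := h.hw
  have g0 : γ 0 = 0 := h.z 0 le_rfl (by omega)
  have g1 : γ 1 = 0 := h.z 1 (by omega) (by omega)
  have g2 : γ 2 = 0 := h.z 2 (by omega) (by omega)
  have m : ∀ i j k l : ℤ, vecMulVec (y i) (ψ j) * vecMulVec (y k) (ψ l) = γ (k - j) • vecMulVec (y i) (ψ l) :=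
    fun i j k l => by rw [vv_mul, h.hγ]
  have s0 := h.hs
  have s1 : (1 + vecMulVec (y 1) (ψ 1)) * (1 - vecMulVec (y 2) (ψ 2)) ∈ S := by simpa using h.s1 1
  have i0 := h.sinv 0 1
  have i1 := h.sinv 1 2
  have c1 : 1 + (γ (-1) • vecMulVec (y 1) (ψ 0) + γ (-1) • vecMulVec (y 2) (ψ 1) -
      (γ (-2) + γ (-1) * γ (-1)) • vecMulVec (y 2) (ψ 0)) ∈ S := by
    refine mem_of_mul (S.mul_mem s1 s0) (S.mul_mem s0 s1) (inv_pair i0 i1) ?_
    simp only [mul_add, add_mul, mul_sub, sub_mul, mul_one, one_mul, m, smul_mul_assoc, mul_smul_comm, mul_assoc]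
    norm_num [g0, g1, g2]
    module
  have i2 : (1 + (γ (-1) • vecMulVec (y 1) (ψ 0) + γ (-1) • vecMulVec (y 2) (ψ 1) -
      (γ (-2) + γ (-1) * γ (-1)) • vecMulVec (y 2) (ψ 0))) * (1 - (γ (-1) • vecMulVec (y 1) (ψ 0) +
      γ (-1) • vecMulVec (y 2) (ψ 1) - (γ (-2) + γ (-1) * γ (-1)) • vecMulVec (y 2) (ψ 0))) = 1 := by
    simp only [mul_add, add_mul, mul_sub, sub_mul, mul_one, one_mul, m, smul_mul_assoc, mul_smul_comm, mul_assoc]
    norm_num [g0, g1, g2]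
  refine ⟨by simp [h.hγ, g2], mem_of_mul (S.mul_mem c1 s0) (S.mul_mem s0 c1) (inv_pair i0 i2) ?_⟩
  simp only [smul_vecMulVec, mul_add, add_mul, mul_sub, sub_mul, mul_one, one_mul, m, smul_mul_assoc, mul_smul_comm,
    mul_assoc]
  norm_num [g0, g1, g2]
  module

theorem fwd (h : Sq S U V y ψ γ w) (k : ℕ) (hk : k ≤ w) (t : Tv S (α • y j) (ψ 0)) :
    Tv S ((γ (j - k) * α) • y k) (ψ 0) := by
  have e0 : ψ 0 ⬝ᵥ y k = 0 := by rw [h.hγ, sub_zero, h.z k (by omega) (by omega)]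
  have := t.sub (t.act (h.s2 k) (h.sinv 0 k) (by
    simp [← vecMul_vecMul, vecMul_add, vecMul_sub, vecMul_vecMulVec, h.z0, e0]))
  convert this using 1
  have e1 := t.1
  rw [dotProduct_smul] at e1
  simp only [← mulVec_mulVec, add_mulVec, sub_mulVec, one_mulVec, vv_mulVec, dotProduct_sub, dotProduct_smul, e1, e0, h.hγ k j]
  simp [mul_comm]

theorem bwd (h : Sq S U V y ψ γ w) (k : ℕ) (hk : k ≤ w) (t : Tv S (α • y (k + 1)) (ψ 0))
    (t' : Tv S (β • y w) (ψ 0)) : Tv S ((γ (w + 1) * α * β) • y k) (ψ 0) := by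
  have := t'.comm (h.down (j := -1) t) (by rw [dotProduct_smul, h.hγ, sub_zero, h.z k (by omega) (by omega), smul_zero])
  convert this using 1
  rw [dotProduct_smul, h.hγ, smul_smul, sub_neg_eq_add, smul_eq_mul]
  congr 1; ring

theorem fwd1 (h : Sq S U V y ψ γ w) (k : ℕ) (hk : k + 1 ≤ w) (t : Tv S (α • y k) (ψ 0)) :
    Tv S ((γ (-1) * α) • y (k + 1 : ℕ)) (ψ 0) := by
  simpa using h.fwd (k + 1) hk t

theorem fwdw (h : Sq S U V y ψ γ w) (t : Tv S (α • y 2) (ψ 0)) : Tv S ((γ (-1) ^ (w - 2) * α) • y w) (ψ 0) := by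
  have : ∀ k : ℕ, k + 2 ≤ w → Tv S ((γ (-1) ^ k * α) • y (k + 2 : ℕ)) (ψ 0) := fun k => by
    induction k with
    | zero => intro _; simpa using t
    | succ k ih =>
      intro hk
      have := h.fwd1 (k + 2) hk (ih (by omega))
      rwa [← mul_assoc, ← pow_succ'] at this
  have h2 := this (w - 2) (by have := h.hw; omega)
  rwa [Nat.sub_add_cancel h.hw] at h2

theorem all (h : Sq S U V y ψ γ w) (hgen : ∀ R : Subring F, γ (-1) ^ (w + 1) * γ (w + 1) ∈ R →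
    γ (-1) ^ (w - 1) * γ (-2) * γ (w + 1) ∈ R → R = ⊤) (k : ℕ) (hk : k ≤ w) (α : F) : Tv S (α • y k) (ψ 0) := by
  have ha := h.ha
  have hc := h.hc
  obtain ⟨v, rfl⟩ : ∃ v, w = v + 2 := ⟨w - 2, (Nat.sub_add_cancel h.hw).symm⟩
  have f1 := h.fwdw h.first
  let R := subr (fun x => Tv S ((x / (γ (-1) * γ ((v + 2 : ℕ) + 1))) • y (v + 2 : ℕ)) (ψ 0)) (by simpa using Tv.zero)
    (fun x y hx hy => by rw [add_div, add_smul]; exact hx.add hy)
    (fun x hx => by rw [neg_div, neg_smul]; exact hx.neg)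
    (fun x y hx hy => by
      have := h.fwd1 (v + 1) le_rfl (h.bwd (v + 1) (by omega) hx hy)
      convert this using 2
      field_simp)
    (x := γ (-1) ^ (v + 2 + 1) * γ ((v + 2 : ℕ) + 1)) (by
      convert f1 using 2
      rw [Nat.add_sub_cancel]; field_simp; ring) (mul_ne_zero (pow_ne_zero _ ha) hc)
  have dn : ∀ (k : ℕ) (α : F), k ≤ v + 2 → Tv S (α • y (k + 1)) (ψ 0) → Tv S ((α / γ (-1)) • y k) (ψ 0) :=
    fun k α hk t => by
      have := h.bwd k hk t R.one_mem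
      convert this using 2
      field_simp
  have t0 := dn 0 _ (by omega) (by simpa using dn 1 _ (by omega) (by simpa using h.first))
  have hR : R = ⊤ := hgen R (by
      show Tv _ _ _
      convert f1 using 2
      rw [Nat.add_sub_cancel]; field_simp; ring) (by
      show Tv _ _ _
      have := h.fwdw (by simpa using h.fwd 2 (by omega) t0)
      convert this using 2
      rw [Nat.add_sub_cancel, show v + 2 - 1 = v + 1 by omega]; field_simp; ring)
  have key : ∀ i : ℕ, i ≤ v + 2 → ∀ α : F, Tv S (α • y (v + 2 - i : ℕ)) (ψ 0) := fun i => by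
    induction i with
    | zero =>
      intro _ α
      have : α * (γ (-1) * γ ((v + 2 : ℕ) + 1)) ∈ R := hR ▸ Subring.mem_top _
      change Tv _ _ _ at this
      rwa [mul_div_cancel_right₀ _ (mul_ne_zero ha hc)] at this
    | succ i ih =>
      intro hi α
      have := ih (by omega) (α * γ (-1))
      rw [show v + 2 - i = v + 2 - (i + 1) + 1 by omega] at this
      have := dn (v + 2 - (i + 1)) _ (by omega) this
      rwa [mul_div_cancel_right₀ _ ha] at this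
  have := key (v + 2 - k) (by omega) α
  rwa [show v + 2 - (v + 2 - k) = k by omega] at this

end Sq

/-- centres of full root subgroups with a given axis -/
def Ct (S : Submonoid (Matrix ι ι F)) (q : ι → F) : Submodule F (ι → F) where
  carrier := {p | ∀ α : F, Tv S (α • p) q}
  zero_mem' := fun _ => by simpa using Tv.zero
  add_mem' := fun h h' α => by rw [smul_add]; exact (h α).add (h' α)
  smul_mem' := fun c p h α => by rw [smul_smul]; exact h _

theorem ct_trans {p p' q q' : ι → F} (h : p ∈ Ct S q) (h' : p' ∈ Ct S q') (e : q ⬝ᵥ p' = 0) (hne : q' ⬝ᵥ p ≠ 0) :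
    p' ∈ Ct S q := fun α => by
  have := (h (α / (q' ⬝ᵥ p))).comm (h' 1) (by simpa using e)
  rwa [one_smul, dotProduct_smul, smul_eq_mul, div_mul_cancel₀ _ hne] at this

theorem Sq.ax {U V N : Matrix ι ι F} {y ψ : ℤ → ι → F} {γ : ℤ → F} {w n : ℕ} (h : Sq S U V y ψ γ w)
    (hgen : ∀ R : Subring F, γ (-1) ^ (w + 1) * γ (w + 1) ∈ R → γ (-1) ^ (w - 1) * γ (-2) * γ (w + 1) ∈ R → R = ⊤)
    (hn : Fintype.card ι = n + 1) (h0 : N ^ (n + 1) = 0) (hU : U = 1 + N) (h1 : (N ^ n) *ᵥ y 0 ≠ 0)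
    (h2 : ψ 0 ᵥ* (N ^ n) ≠ 0) : Ax S = ⊤ := by
  have hw := h.hw
  have hc := h.hc
  have L0 : ∀ k : ℕ, k ≤ w → y k ∈ Ct S (ψ 0) := fun k hk => h.all hgen k hk
  have up : ∀ j p, p ∈ Ct S (ψ j) → U *ᵥ p ∈ Ct S (ψ (j + 1)) := fun j p t α => by
    rw [← mulVec_smul]; exact h.up (t α)
  have L1 : ∀ k : ℕ, k ≤ w → y (k + 1) ∈ Ct S (ψ 1) := fun k hk => by rw [h.hy]; exact up 0 _ (L0 k hk)
  have L2 : ∀ k : ℕ, k ≤ w → y (k + 1 + 1) ∈ Ct S (ψ 2) := fun k hk => by rw [h.hy]; exact up 1 _ (L1 k hk)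
  have gen : ∀ j p p0, p ∈ Ct S (ψ j) → y (w + 1) ∈ Ct S (ψ j) → p0 ∈ Ct S (ψ 0) → ψ j ⬝ᵥ p0 ≠ 0 →
      p ∈ Ct S (ψ 0) ⊔ Submodule.span F {y (w + 1)} := fun j p p0 t1 t2 t3 hne => by
    have := ct_trans t3 ((Ct S (ψ j)).sub_mem t1 ((Ct S (ψ j)).smul_mem (ψ 0 ⬝ᵥ p / γ (w + 1)) t2))
      (by rw [dotProduct_sub, dotProduct_smul, h.hγ, sub_zero, smul_eq_mul, div_mul_cancel₀ _ hc, sub_self]) hne
    rw [← sub_add_cancel p ((ψ 0 ⬝ᵥ p / γ (w + 1)) • y (w + 1))]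
    exact Submodule.add_mem_sup this (Submodule.smul_mem _ _ (Submodule.mem_span_singleton_self _))
  have top : Ct S (ψ 0) ⊔ Submodule.span F {y (w + 1)} = ⊤ := by
    refine cyc_mulVec hn h0 _ (fun v hv => ?_) (Submodule.mem_sup_left (L0 0 (by omega))) h1
    have e : N *ᵥ v = U *ᵥ v - v := by rw [hU, add_mulVec, one_mulVec, add_sub_cancel_left]
    rw [e]
    refine Submodule.sub_mem _ ?_ hv
    obtain ⟨a, ha, b, hb, rfl⟩ := Submodule.mem_sup.1 hv
    obtain ⟨c, rfl⟩ := Submodule.mem_span_singleton.1 hb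
    rw [mulVec_add, mulVec_smul, ← h.hy]
    refine Submodule.add_mem _ (gen 1 _ _ (up 0 _ ha) (L1 w le_rfl) (L0 0 (by omega)) (by simpa [h.hγ] using h.ha))
      (Submodule.smul_mem _ _ (gen 2 _ _ (L2 w le_rfl) ?_ (L0 1 (by omega)) (by simpa [h.hγ] using h.ha)))
    have := L2 (w - 1) (by omega)
    rwa [show ((w - 1 : ℕ) : ℤ) + 1 = w by omega] at this
  refine ax_top hn h0 (hU ▸ h.hU) (hU ▸ h.hV) (fun p hp => ?_) h2
  have : p ∈ Ct S (ψ 0) ⊔ Submodule.span F {y (w + 1)} := top ▸ Submodule.mem_top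
  obtain ⟨a, ha, b, hb, rfl⟩ := Submodule.mem_sup.1 this
  obtain ⟨c, rfl⟩ := Submodule.mem_span_singleton.1 hb
  have e := (ha 1).1
  rw [one_smul] at e
  rw [dotProduct_add, e, zero_add, dotProduct_smul, h.hγ, sub_zero, smul_eq_mul, mul_eq_zero] at hp
  rw [hp.resolve_right hc, zero_smul, add_zero]
  simpa using ha 1

end Cfsg.Agent.H19.RU
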