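import Mathlib
import Cfsg.Agent.H19.RU2

/-! `SL_n(q)`, `n ≥ 4`, is generated by two conjugate regular unipotent elements -/

set_option autoImplicit false
set_option linter.unusedSectionVars false

namespace Cfsg.Agent.H19.RU

open Matrix

variable {F : Type*} [Field F] [Finite F] {n : ℕ}

def J (n : ℕ) (F : Type*) [Field F] : Matrix (Fin n) (Fin n) F := of fun i j => if (i : ℕ) = j + 1 then 1 else 0

theorem J_mulVec (f : ℕ → F) (i : Fin n) : (J n F *ᵥ fun j => f j) i = if (i : ℕ) = 0 then 0 else f (i - 1) := by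
  simp only [mulVec, dotProduct, J, of_apply, ite_mul, one_mul, zero_mul]
  split_ifs with h
  · exact Finset.sum_eq_zero fun j _ => if_neg (by omega)
  · rw [Finset.sum_eq_single ⟨i - 1, by omega⟩ (fun j _ hj => if_neg fun e => hj (Fin.ext (by simp; omega))) (by simp)]
    exact if_pos (by simp; omega)

theorem J_pow (k : ℕ) (i j : Fin n) : (J n F ^ k) i j = if (i : ℕ) = j + k then 1 else 0 := by
  induction k generalizing i with
  | zero => simp [one_apply, Fin.ext_iff]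
  | succ k ih =>
    have := J_mulVec (fun l => if l = j + k then (1 : F) else 0) i
    rw [pow_succ', mul_apply]
    simp only [ih]
    refine this.trans ?_
    split_ifs <;> first | rfl | omega

theorem J_nil : J n F ^ n = 0 := by
  ext i j; rw [J_pow, if_neg (by omega)]; rfl

def uJ (n : ℕ) (F : Type*) [Field F] : SpecialLinearGroup (Fin n) F := ⟨1 + J n F, by
  rw [det_of_isLowerTriangular]
  · simp [J]
  · intro i j h
    have h' : i < j := h
    simp [J, one_apply, h'.ne]; omega⟩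

theorem uJ_coe : (uJ n F : Matrix (Fin n) (Fin n) F) = 1 + J n F := rfl

theorem uJ_mulVec (f : ℕ → F) : ((uJ n F : Matrix (Fin n) (Fin n) F) *ᵥ fun j => f j) =
    fun i : Fin n => f i + if (i : ℕ) = 0 then 0 else f (i - 1) := by
  ext i; rw [uJ_coe, add_mulVec, one_mulVec, Pi.add_apply, J_mulVec]

def yy (n : ℕ) (F : Type*) [Field F] (k : ℤ) : Fin n → F :=
  ((uJ n F ^ k : SpecialLinearGroup (Fin n) F) : Matrix (Fin n) (Fin n) F) *ᵥ fun i => ((0 : ℕ).choose i : F)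

theorem yy_succ (k : ℤ) : yy n F (k + 1) = (uJ n F : Matrix (Fin n) (Fin n) F) *ᵥ yy n F k := by
  rw [yy, yy, mulVec_mulVec, add_comm, _root_.zpow_add, _root_.zpow_one, Matrix.SpecialLinearGroup.coe_mul]

theorem yy_nat (k : ℕ) : yy n F k = fun i : Fin n => (k.choose i : F) := by
  induction k with
  | zero => simp [yy]
  | succ k ih =>
    push_cast
    rw [yy_succ, ih, uJ_mulVec fun i => (k.choose i : F)]
    ext ⟨i, hi⟩
    cases i with
    | zero => simp
    | succ i => simp [Nat.choose_succ_succ, add_comm]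

theorem yy_pred {k : ℤ} {v : Fin n → F} (h : (uJ n F : Matrix (Fin n) (Fin n) F) *ᵥ v = yy n F (k + 1)) :
    yy n F k = v := by
  have := congrArg ((((uJ n F)⁻¹ : SpecialLinearGroup (Fin n) F) : Matrix (Fin n) (Fin n) F) *ᵥ ·) h
  simp only [yy_succ, mulVec_mulVec, ← Matrix.SpecialLinearGroup.coe_mul, inv_mul_cancel, Matrix.SpecialLinearGroup.coe_one,
    one_mulVec] at this
  exact this.symm

theorem yy_neg_one : yy n F (-1) = fun i : Fin n => (-1) ^ (i : ℕ) := yy_pred (by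
  rw [uJ_mulVec fun i => (-1 : F) ^ i]
  refine Eq.trans ?_ (yy_nat 0).symm
  ext ⟨i, hi⟩
  cases i with
  | zero => simp
  | succ i => simp [pow_succ])

theorem yy_neg_two : yy n F (-2) = fun i : Fin n => (-1 : F) ^ (i : ℕ) * (((i : ℕ) : F) + 1) := yy_pred (by
  rw [uJ_mulVec fun i => (-1 : F) ^ i * (i + 1)]
  refine Eq.trans ?_ yy_neg_one.symm
  ext ⟨i, hi⟩
  cases i with
  | zero => simp
  | succ i => simp [pow_succ]; ring)

theorem det_tv {ι : Type*} [Fintype ι] [DecidableEq ι] {p q : ι → F} (h : q ⬝ᵥ p = 0) : (1 + vecMulVec p q).det = 1 := by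
  rw [vecMulVec_eq Unit, det_one_add_replicateCol_mul_replicateRow, h, add_zero]

theorem gen_of (m w : ℕ) (κ c : F) (hκ : κ ≠ 0) (γ : ℤ → F)
    (hγ : ∀ k, γ k = κ * yy (m + 2) F k (Fin.last _) + c * yy (m + 2) F k (Fin.last m).castSucc) (hw : 2 ≤ w)
    (z : ∀ k : ℤ, 0 ≤ k → k ≤ w → γ k = 0) (ha : γ (-1) ≠ 0) (hc : γ (w + 1) ≠ 0)
    (hgen : ∀ R : Subring F, γ (-1) ^ (w + 1) * γ (w + 1) ∈ R → γ (-1) ^ (w - 1) * γ (-2) * γ (w + 1) ∈ R → R = ⊤) :
    ∃ g, Subgroup.closure {uJ (m + 2) F, g * uJ (m + 2) F * g⁻¹} = ⊤ := by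
  let q : Fin (m + 2) → F := Pi.single (Fin.last _) κ + Pi.single (Fin.last m).castSucc c
  let ψ : ℤ → Fin (m + 2) → F := fun k =>
    q ᵥ* ((uJ (m + 2) F ^ (-k) : SpecialLinearGroup (Fin (m + 2)) F) : Matrix (Fin (m + 2)) (Fin (m + 2)) F)
  have h1 : ∀ j k, ψ j ⬝ᵥ yy (m + 2) F k = γ (k - j) := fun j k => by
    rw [hγ, ← dotProduct_mulVec, yy, mulVec_mulVec, ← Matrix.SpecialLinearGroup.coe_mul, ← _root_.zpow_add, neg_add_eq_sub, ← yy]
    simp [q]
  have h2 : ∀ k, ψ (k + 1) = ψ k ᵥ* ((uJ (m + 2) F)⁻¹ : SpecialLinearGroup (Fin (m + 2)) F) := fun k => by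
    simp only [ψ]
    rw [vecMul_vecMul, ← Matrix.SpecialLinearGroup.coe_mul, neg_add, _root_.zpow_add, _root_.zpow_neg_one]
  have h0 : ψ 0 ⬝ᵥ yy (m + 2) F 0 = 0 := by rw [h1, sub_self, z 0 le_rfl (by omega)]
  have hV : (uJ (m + 2) F : Matrix (Fin (m + 2)) (Fin (m + 2)) F) *
      ((uJ (m + 2) F)⁻¹ : SpecialLinearGroup (Fin (m + 2)) F) = 1 := by
    rw [← Matrix.SpecialLinearGroup.coe_mul, mul_inv_cancel, Matrix.SpecialLinearGroup.coe_one]
  let t : SpecialLinearGroup (Fin (m + 2)) F := ⟨_, det_tv h0⟩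
  have ht : ((t⁻¹ : SpecialLinearGroup (Fin (m + 2)) F) : Matrix (Fin (m + 2)) (Fin (m + 2)) F) =
      1 - vecMulVec (yy (m + 2) F 0) (ψ 0) := by
    refine (left_inv_eq_right_inv ?_ (tv_inv h0))
    show _ * (t : Matrix (Fin (m + 2)) (Fin (m + 2)) F) = 1
    rw [← Matrix.SpecialLinearGroup.coe_mul, inv_mul_cancel, Matrix.SpecialLinearGroup.coe_one]
  refine ⟨t, top_of_ax (Sq.ax (w := w) (n := m + 1) (N := J (m + 2) F) (y := yy (m + 2) F) (ψ := ψ)
    ⟨⟨_, Subgroup.subset_closure (by simp), rfl⟩, hV, yy_succ, h2, h1, ⟨t * uJ (m + 2) F * t⁻¹ * (uJ (m + 2) F)⁻¹,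
      Subgroup.mul_mem _ (Subgroup.subset_closure (by simp)) (Subgroup.inv_mem _ (Subgroup.subset_closure (by simp))), ?_⟩,
      hw, z, ha, hc⟩ hgen (by simp) J_nil uJ_coe ?_ ?_)⟩
  · have e1 := yy_succ (n := m + 2) (F := F) 0
    have e2 := h2 0
    rw [zero_add] at e1 e2
    rw [e1, e2, ← mul_vecMulVec, ← vecMulVec_mul (yy (m + 2) F 0) (ψ 0)]
    simp only [Matrix.SpecialLinearGroup.coe_mul, ht, mul_assoc]
    congr 1
    rw [sub_mul, mul_sub, one_mul, hV]
  · intro e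
    have := congrFun e (Fin.last _)
    rw [show yy (m + 2) F 0 = _ from yy_nat 0, mulVec, dotProduct, Fin.sum_univ_succ] at this
    simp [J_pow] at this
  · intro e
    have := congrFun e 0
    have e0 : ψ 0 = q := by simp only [ψ, neg_zero, _root_.zpow_zero, Matrix.SpecialLinearGroup.coe_one, vecMul_one]
    simp only [e0, q, add_vecMul, single_vecMul, Pi.add_apply, Pi.smul_apply, row_apply, J_pow] at this
    simp [hκ] at this

theorem exists_prim (F : Type*) [Field F] [Finite F] : ∃ ω : F, ω ≠ 0 ∧ ∀ x : F, x ≠ 0 → ∃ k : ℕ, ω ^ k = x := by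
  obtain ⟨g, hg⟩ := IsCyclic.exists_monoid_generator (α := Fˣ)
  refine ⟨g, g.ne_zero, fun x hx => ?_⟩
  obtain ⟨k, hk⟩ := hg (Units.mk0 x hx)
  exact ⟨k, by simpa using congrArg Units.val hk⟩

theorem top_of_prim {ω : F} (h : ∀ x : F, x ≠ 0 → ∃ k : ℕ, ω ^ k = x) {R : Subring F} (hR : ω ∈ R) : R = ⊤ := by
  refine top_le_iff.1 fun x _ => ?_
  by_cases hx : x = 0
  · exact hx ▸ R.zero_mem
  · obtain ⟨k, rfl⟩ := h x hx
    exact R.pow_mem hR k

theorem subring_inv {R : Subring F} {x : F} (hx : x ∈ R) : x⁻¹ ∈ R := by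
  by_cases h0 : x = 0
  · simpa [h0] using R.zero_mem
  cases nonempty_fintype F
  have := FiniteField.pow_card_sub_one_eq_one x h0
  rw [show Fintype.card F - 1 = Fintype.card F - 2 + 1 by have := Fintype.one_lt_card (α := F); omega, pow_succ] at this
  rw [← eq_inv_of_mul_eq_one_left this]
  exact R.pow_mem hx _

theorem gen_four (hn : 4 ≤ n) : ∃ g, Subgroup.closure {uJ n F, g * uJ n F * g⁻¹} = ⊤ := by
  obtain ⟨ω, h0, hω⟩ := exists_prim F
  obtain ⟨m, rfl⟩ : ∃ m, n = m + 2 := ⟨n - 2, by omega⟩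
  have key : ∀ κ : F, κ ≠ 0 → (∀ R : Subring F, κ ^ (m + 2) ∈ R → κ ^ (m + 1) * (m + 2) ∈ R → R = ⊤) →
      ∃ g, Subgroup.closure {uJ (m + 2) F, g * uJ (m + 2) F * g⁻¹} = ⊤ := fun κ hκ hg => by
    have e1 : yy (m + 2) F (m + 1) (Fin.last _) = 1 := by
      rw [show (m + 1 : ℤ) = (m + 1 : ℕ) by simp, yy_nat]; simp
    refine gen_of m m κ 0 hκ _ (fun _ => rfl) (by omega) (fun k h1 h2 => ?_) (by simp [yy_neg_one, hκ]) (by simp [e1, hκ])
      fun R h1 h2 => hg R ?_ ?_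
    · lift k to ℕ using h1
      simp [yy_nat, Nat.choose_eq_zero_of_lt (show k < m + 1 by omega)]
    · have := R.mul_mem h1 (R.pow_mem (R.pow_mem (R.neg_mem R.one_mem) (m + 1)) (m + 1))
      convert this using 1
      simp only [yy_neg_one, e1, zero_mul, add_zero, Fin.val_last, mul_pow]
      rcases neg_one_pow_eq_or F (m + 1) with e | e <;> rw [e] <;> rcases neg_one_pow_eq_or F (m + 1) with e | e <;>
        simp [e, pow_succ κ (m + 1)]
    · have := R.mul_mem h2 (R.pow_mem (R.pow_mem (R.neg_mem R.one_mem) (m + 1)) m)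
      convert this using 1
      obtain ⟨l, rfl⟩ : ∃ l, m = l + 1 := ⟨m - 1, by omega⟩
      simp only [yy_neg_one, yy_neg_two, e1, zero_mul, add_zero, Fin.val_last, mul_pow, Nat.add_sub_cancel]
      have e : ((-1 : F) ^ (l + 1 + 1)) ^ l * ((-1) ^ (l + 1 + 1)) ^ l * ((-1) ^ (l + 1 + 1) * (-1) ^ (l + 1 + 1)) = 1 := by
        rw [← mul_pow, ← mul_pow]; simp
      push_cast
      linear_combination (-κ ^ (l + 2) * (l + 3)) * e
  by_cases h4 : m = 2
  · subst h4
    refine key ω h0 fun R h1 h2 => top_of_prim hω ?_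
    by_cases h2' : (2 : F) = 0
    · cases nonempty_fintype F
      haveI : CharP F 2 := (CharP.charP_iff_prime_eq_zero Nat.prime_two).2 h2'
      obtain ⟨k, -, hk⟩ := FiniteField.card F 2
      obtain ⟨l, hl⟩ : 2 ∣ Fintype.card F := hk ▸ dvd_pow_self 2 k.ne_zero
      have := R.pow_mem h1 (l * l)
      rwa [← pow_mul, show (2 + 2) * (l * l) = Fintype.card F ^ 2 by rw [hl]; ring, FiniteField.pow_card_pow] at this
    · have := R.mul_mem (R.mul_mem h1 (subring_inv h2)) (natCast_mem R 4)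
      have h4 : (4 : F) ≠ 0 := by rw [show (4 : F) = 2 * 2 by norm_num]; exact mul_ne_zero h2' h2'
      convert this using 1
      push_cast
      rw [show (2 + 2 : F) = 4 by norm_num]
      field_simp
  by_cases h1 : ω = 1
  · exact key 1 one_ne_zero fun R _ _ => top_of_prim hω (h1 ▸ R.one_mem)
  obtain ⟨l, rfl⟩ : ∃ l, m = l + 1 := ⟨m - 1, by omega⟩
  have e0 : ((-1 : F) ^ (l + 1)) * (-1) ^ (l + 1) = 1 := by rw [← mul_pow]; simp
  have e1 : yy (l + 1 + 2) F (l + 1) (Fin.last _) = 0 := by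
    rw [show (l + 1 : ℤ) = (l + 1 : ℕ) by simp, yy_nat]; simp
  have e2 : yy (l + 1 + 2) F (l + 1) (Fin.last _).castSucc = 1 := by
    rw [show (l + 1 : ℤ) = (l + 1 : ℕ) by simp, yy_nat]; simp
  have e3 : (-1) ^ (l + 1) * (ω - 1) * yy (l + 1 + 2) F (-1) (Fin.last _) +
      (-1) ^ (l + 1) * ω * yy (l + 1 + 2) F (-1) (Fin.last _).castSucc = 1 := by
    simp only [yy_neg_one, Fin.val_last, Fin.val_castSucc, pow_succ _ (l + 1)]
    linear_combination e0
  refine gen_of (l + 1) l ((-1) ^ (l + 1) * (ω - 1)) ((-1) ^ (l + 1) * ω) (by simp [sub_eq_zero, h1]) _ (fun _ => rfl)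
    (by omega) (fun k h1 h2 => ?_) (by simp only [e3]; exact one_ne_zero) (by simp [e1, e2, h0])
    fun R h1 _ => top_of_prim hω ?_
  · lift k to ℕ using h1
    simp [yy_nat, Nat.choose_eq_zero_of_lt (show k < l + 1 by omega),
      Nat.choose_eq_zero_of_lt (show k < l + 1 + 1 by omega)]
  · have := R.mul_mem (R.pow_mem (R.neg_mem R.one_mem) (l + 1)) h1
    simp only [e1, e2, e3] at this
    convert this using 1
    linear_combination (-ω) * e0

theorem uJ_nil : IsNilpotent ((uJ n F : Matrix (Fin n) (Fin n) F) - 1) := ⟨n, by rw [uJ_coe, add_sub_cancel_left, J_nil]⟩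

theorem uJ_reg (hn : 1 ≤ n) : ((uJ n F : Matrix (Fin n) (Fin n) F) - 1) ^ (n - 1) ≠ 0 := fun e => by
  have := congrFun (congrFun e ⟨n - 1, by omega⟩) ⟨0, by omega⟩
  simp [uJ_coe, J_pow] at this

end Cfsg.Agent.H19.RU
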