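import Mathlib
import Cfsg.Agent.H19.RU3

/-! `SL_3(q)` is generated by two conjugate regular unipotent elements -/

set_option autoImplicit false
set_option linter.unusedSectionVars false
set_option linter.unusedSimpArgs false
set_option linter.unreachableTactic false
set_option linter.unusedTactic false
set_option linter.unnecessarySeqFocus false

namespace Cfsg.Agent.H19.RU

open Matrix

variable {F : Type*} [Field F] [Finite F] {S : Submonoid (Matrix (Fin 3) (Fin 3) F)}

theorem sub_proper {R : Subring F} (hR : R ≠ ⊤) : ∃ r d : ℕ, 2 ≤ r ∧ 2 ≤ d ∧ Nat.card F = r ^ d ∧ (∀ x ∈ R, x ^ r = x) ∧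
    ∀ x y : F, (x + y) ^ r = x ^ r + y ^ r := by
  let K : Subfield F := { R with inv_mem' := fun _ hx => subring_inv hx }
  cases nonempty_fintype K
  obtain ⟨p, hp⟩ := CharP.exists F
  obtain ⟨k, pp, hk⟩ := FiniteField.card K p
  haveI := Fact.mk pp
  have h1 : Nat.card F = Fintype.card K ^ Module.finrank K F := by
    rw [Module.natCard_eq_pow_finrank (K := K), Nat.card_eq_fintype_card]
  refine ⟨Fintype.card K, Module.finrank K F, Fintype.one_lt_card, ?_, h1, fun x hx => ?_, fun x y => ?_⟩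
  · by_contra hlt
    have h2 : Module.finrank K F = 1 := by have := Module.finrank_pos (R := K) (M := F); omega
    rw [h2, pow_one, ← Nat.card_eq_fintype_card] at h1
    have := (Function.Injective.bijective_of_nat_card_le (f := K.subtype) K.subtype.injective h1.le).2
    exact hR (top_le_iff.1 fun x _ => by obtain ⟨y, rfl⟩ := this x; exact y.2)
  · exact congrArg Subtype.val (FiniteField.pow_card (⟨x, hx⟩ : K))
  · rw [hk, add_pow_char_pow]

theorem prim_dvd {ω : F} (h0 : ω ≠ 0) (h : ∀ x : F, x ≠ 0 → ∃ k : ℕ, ω ^ k = x) {m : ℕ} (e : ω ^ m = 1) :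
    Nat.card F - 1 ∣ m := by
  rw [← Nat.card_units, ← IsCyclic.exponent_eq_card]
  refine Monoid.exponent_dvd_of_forall_pow_eq_one fun x => Units.ext ?_
  obtain ⟨k, hk⟩ := h x x.ne_zero
  rw [Units.val_pow_eq_pow_val, ← hk, ← pow_mul, mul_comm, pow_mul, e, one_pow, Units.val_one]

theorem fin3 {a b c : F} (ha : a ≠ 0) (hb : b ≠ 0) (hU : !![1, a, c; 0, 1, b; 0, 0, 1] ∈ S)
    {Y Y' : Matrix (Fin 3) (Fin 3) F} (hY : Y ∈ S) (hY' : Y * Y' = 1) (h20 : Y 2 0 ≠ 0)
    (h : ∀ x : F, ∃ z, !![1, 0, z; 0, 1, x; 0, 0, 1] ∈ S) : Ax S = ⊤ := by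
  have hi : !![1, a, c; 0, 1, b; 0, 0, 1] * !![1, -a, a * b - c; 0, 1, -b; 0, 0, 1] = 1 := by
    ext i j; fin_cases i <;> fin_cases j <;> simp [Matrix.mul_apply, Fin.sum_univ_three] <;> ring
  have h1 : ∀ x : F, ∃ z, Tv S ![z, x, 0] ![0, 0, 1] := fun x => by
    obtain ⟨z, hz⟩ := h x
    refine ⟨z, by simp, ?_⟩
    convert hz using 1
    ext i j; fin_cases i <;> fin_cases j <;> simp [vecMulVec_apply]
  have h2 : ∀ x : F, Tv S ![x, 0, 0] ![0, 0, 1] := fun x => by
    obtain ⟨z, hz⟩ := h1 (x / a)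
    have := (hz.act hU hi (by ext i; fin_cases i <;> simp [vecMul, dotProduct, Fin.sum_univ_three])).sub hz
    convert this using 1
    ext i; fin_cases i <;> simp [mulVec, dotProduct, Fin.sum_univ_three]
    field_simp
  have h3 : (![0, 0, 1] : Fin 3 → F) ∈ Ax S := fun p hp => by
    obtain ⟨z, hz⟩ := h1 (p 1)
    have := hz.add (h2 (p 0 - z))
    convert this using 1
    ext i; fin_cases i <;> simp_all [dotProduct, Fin.sum_univ_three]
  refine ax_top (n := 2) (N := !![0, a, c; 0, 0, b; 0, 0, 0]) (B := !![1, -a, a * b - c; 0, 1, -b; 0, 0, 1]) (by simp) ?_ ?_ ?_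
    (ax_conj h3 hY hY') fun e => ?_
  · ext i j; fin_cases i <;> fin_cases j <;> simp [pow_succ, Matrix.mul_apply, Fin.sum_univ_three]
  · convert hU using 1
    ext i j; fin_cases i <;> fin_cases j <;> simp
  · rw [← hi]; congr 1
    ext i j; fin_cases i <;> fin_cases j <;> simp
  · have := congrFun e 2
    simp [pow_succ, vecMul, dotProduct, Fin.sum_univ_three, Matrix.mul_apply, ha, hb, h20] at this

def P3 (F : Type*) [Field F] : Prop :=
  ∃ u g : Matrix.SpecialLinearGroup (Fin 3) F, IsNilpotent ((u : Matrix (Fin 3) (Fin 3) F) - 1) ∧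
    ((u : Matrix (Fin 3) (Fin 3) F) - 1) ^ (3 - 1) ≠ 0 ∧
      Subgroup.closure ({u, g * u * g⁻¹} : Set (Matrix.SpecialLinearGroup (Fin 3) F)) = ⊤

theorem mkP {a c β δ : F} (ha : a ≠ 0) (hβ : β ≠ 0)
    (h : ∀ S : Submonoid (Matrix (Fin 3) (Fin 3) F), !![1, a, c; 0, 1, a; 0, 0, 1] ∈ S → !![1, 0, 0; β, 1, 0; δ, β, 1] ∈ S →
      Ax S = ⊤) : P3 F := by
  let u : SpecialLinearGroup (Fin 3) F := ⟨!![1, a, c; 0, 1, a; 0, 0, 1], by simp [det_fin_three]⟩
  let v : SpecialLinearGroup (Fin 3) F := ⟨!![1, 0, 0; β, 1, 0; δ, β, 1], by simp [det_fin_three]⟩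
  let g : SpecialLinearGroup (Fin 3) F := ⟨!![0, 0, -a / β; 0, -1, 0; -β / a, c * β / a ^ 2 - δ / β, 0], by
    simp [det_fin_three]; field_simp⟩
  have e : g * u * g⁻¹ = v := by
    rw [mul_inv_eq_iff_eq_mul]
    refine Subtype.ext ?_
    show g.1 * u.1 = v.1 * g.1
    simp only [u, v, g]
    ext i j
    fin_cases i <;> fin_cases j <;> simp [Matrix.mul_apply, Fin.sum_univ_three] <;> field_simp <;> ring
  refine ⟨u, g, ⟨3, ?_⟩, fun e => ?_, top_of_ax (h _ ⟨u, Subgroup.subset_closure (by simp), rfl⟩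
    ⟨v, Subgroup.subset_closure (by simp [e]), rfl⟩)⟩
  · ext i j; fin_cases i <;> fin_cases j <;> simp [u, pow_succ, Matrix.mul_apply, Fin.sum_univ_three, one_apply]
  · have := congrFun (congrFun e 0) 2
    simp [u, pow_succ, Matrix.mul_apply, Fin.sum_univ_three, one_apply, ha] at this

theorem low_inv (β δ : F) : !![1, 0, 0; β, 1, 0; δ, β, 1] * !![1, 0, 0; -β, 1, 0; β * β - δ, -β, 1] = 1 := by
  ext i j; fin_cases i <;> fin_cases j <;> simp [Matrix.mul_apply, Fin.sum_univ_three] <;> ring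

theorem model {K : Type*} [Field K] (hK : Nat.card K = Nat.card F) {δ : K} (hδ : δ ≠ 0)
    (h : ∀ S : Submonoid (Matrix (Fin 3) (Fin 3) K), !![1, 1, 0; 0, 1, 1; 0, 0, 1] ∈ S → !![1, 0, 0; 1, 1, 0; δ, 1, 1] ∈ S →
      ∀ x : K, ∃ z, !![1, 0, z; 0, 1, x; 0, 0, 1] ∈ S) : P3 F := by
  haveI : Finite K := Nat.finite_of_card_ne_zero (hK ▸ Nat.card_pos.ne')
  cases nonempty_fintype K
  cases nonempty_fintype F
  let e : K ≃+* F := FiniteField.ringEquivOfCardEq (by simpa using hK)
  refine mkP (a := 1) (c := 0) (β := 1) (δ := e δ) one_ne_zero one_ne_zero fun S hU hV =>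
    fin3 one_ne_zero one_ne_zero hU hV (low_inv _ _) (by simpa using hδ) fun x => ?_
  obtain ⟨z, hz⟩ := h (S.comap (e : K →+* F).mapMatrix) (by
    rw [Submonoid.mem_comap]; convert hU using 1
    ext i j; fin_cases i <;> fin_cases j <;> simp) (by
    rw [Submonoid.mem_comap]; convert hV using 1
    ext i j; fin_cases i <;> fin_cases j <;> simp) (e.symm x)
  rw [Submonoid.mem_comap] at hz
  refine ⟨e z, ?_⟩
  convert hz using 1
  ext i j; fin_cases i <;> fin_cases j <;> simp

theorem word_mem {M : Type*} [Monoid M] {S : Submonoid M} {a b : M} (ha : a ∈ S) (hb : b ∈ S) (l : List Bool) :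
    (l.map fun c => cond c a b).prod ∈ S :=
  S.list_prod_mem fun x hx => by
    obtain ⟨c, -, rfl⟩ := List.mem_map.1 hx
    cases c <;> assumption

theorem col_pow {K : Type*} [CommRing K] {S : Submonoid (Matrix (Fin 3) (Fin 3) K)} {z x : K}
    (h : !![1, 0, z; 0, 1, x; 0, 0, 1] ∈ S) (k : ℕ) : !![1, 0, k * z; 0, 1, k * x; 0, 0, 1] ∈ S := by
  induction k with
  | zero => convert S.one_mem using 1; ext i j; fin_cases i <;> fin_cases j <;> simp
  | succ k ih =>
    convert S.mul_mem ih h using 1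
    ext i j; fin_cases i <;> fin_cases j <;> simp [Matrix.mul_apply, Fin.sum_univ_three] <;> ring

theorem p3_three (h : Nat.card F = 3) : P3 F :=
  model (K := ZMod 3) (δ := 1) (by simp [h]) one_ne_zero fun S ha hb x => by
    have h1 : !![1, 0, 2; 0, 1, 1; 0, 0, 1] ∈ S := by
      convert word_mem ha hb [false, true, true, false, true, false, true, true, false, false] using 1
      decide +kernel
    exact ⟨_, by simpa using col_pow h1 x.val⟩

local instance factSeven : Fact (Nat.Prime 7) := ⟨by norm_num⟩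

theorem p3_seven (h : Nat.card F = 7) : P3 F :=
  model (K := ZMod 7) (δ := 2) (by simp [h]) (by decide) fun S ha hb x => by
    have h1 : !![1, 0, 1; 0, 1, 1; 0, 0, 1] ∈ S := by
      convert word_mem ha hb [false, true, true, true, false, false, true, false, false, false, false, false, false, true,
        true, false, false] using 1
      decide +kernel
    exact ⟨_, by simpa using col_pow h1 x.val⟩

local instance factF4 : Fact (∀ r : ZMod 2, r ^ 2 ≠ 1 + 1 * r) := ⟨by decide⟩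

theorem p3_four (h : Nat.card F = 4) : P3 F :=
  model (K := QuadraticAlgebra (ZMod 2) 1 1) (δ := ⟨0, 1⟩)
    (by rw [h, Nat.card_congr (QuadraticAlgebra.equivProd _ _)]; simp) (by decide) fun S ha hb x => by
    have h1 : !![1, 0, 1; 0, 1, 1; 0, 0, 1] ∈ S := by
      convert word_mem ha hb [false, false, true, false, true, false, true, false, false, true, false, false, false, true,
        false] using 1
      decide +kernel
    have h2 : !![1, 0, 0; 0, 1, ⟨0, 1⟩; 0, 0, 1] ∈ S := by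
      convert word_mem ha hb [false, true, true, false, true, false, false, true, false, false, false, true, false, true,
        false] using 1
      decide +kernel
    refine ⟨x.re.val, ?_⟩
    convert S.mul_mem (col_pow h1 x.re.val) (col_pow h2 x.im.val) using 1
    obtain ⟨a, b⟩ := x
    revert a b
    decide +kernel

theorem p3_even (h2 : (2 : F) = 0) (h4 : Nat.card F ≠ 4) : P3 F := by
  obtain ⟨β, h0, hβ⟩ := exists_prim F
  refine mkP (a := 1) (c := 0) (β := β) (δ := 0) one_ne_zero h0 fun S hU hV => ?_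
  have hi : !![1, 1, 0; 0, 1, 1; 0, 0, 1] * !![1, -1, 1; 0, 1, -1; 0, 0, (1 : F)] = 1 := by
    ext i j; fin_cases i <;> fin_cases j <;> simp [Matrix.mul_apply, Fin.sum_univ_three]
  have k1 : ∀ a a' : F, Tv S ![a, 0, 0] ![0, 0, 1] → Tv S ![a', 0, 0] ![0, 0, 1] →
      Tv S ![a * a' * β ^ 2, a * a' * β ^ 3, 0] ![0, 0, 1] := fun a a' t t' => by
    have := t.comm (t'.conj hV (low_inv _ _)) (by simp [mulVec, dotProduct, Fin.sum_univ_three])
    convert this using 1
    ext i; fin_cases i <;> simp [mulVec, vecMul, dotProduct, Fin.sum_univ_three] <;> ring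
  have k2 : ∀ a b : F, Tv S ![a, b, 0] ![0, 0, 1] → Tv S ![b, 0, 0] ![0, 0, 1] := fun a b t => by
    have := (t.act hU hi (by ext i; fin_cases i <;> simp [vecMul, dotProduct, Fin.sum_univ_three])).sub t
    convert this using 1
    ext i; fin_cases i <;> simp [mulVec, dotProduct, Fin.sum_univ_three]
  have t1 : Tv S ![1, 0, 0] ![0, 0, 1] := ⟨by simp, by
    convert S.mul_mem hU hU using 1
    ext i j; fin_cases i <;> fin_cases j <;> simp [Matrix.mul_apply, Fin.sum_univ_three, vecMulVec_apply] <;>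
      linear_combination -h2⟩
  let R := subr (fun x => Tv S ![x / β ^ 3, 0, 0] ![0, 0, 1])
    (by convert Tv.zero (S := S) using 1; ext i; fin_cases i <;> simp)
    (fun x y hx hy => by convert hx.add hy using 1; ext i; fin_cases i <;> simp [add_div])
    (fun x hx => by convert hx.neg using 1; ext i; fin_cases i <;> simp [neg_div])
    (fun x y hx hy => by convert k2 _ _ (k1 _ _ hx hy) using 2; field_simp)
    (x := β ^ 3) (by rwa [div_self (pow_ne_zero _ h0)]) (pow_ne_zero _ h0)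
  have hR : R = ⊤ := by
    by_contra hne
    obtain ⟨r, d, hr, hd, hc, h1, -⟩ := sub_proper hne
    have h3 := h1 (β ^ 3) (show Tv _ _ _ by rwa [div_self (pow_ne_zero _ h0)])
    obtain ⟨s, rfl⟩ : ∃ s, r = s + 1 := ⟨r - 1, by omega⟩
    rw [pow_succ, mul_eq_right₀ (pow_ne_zero _ h0), ← pow_mul] at h3
    have h5 := prim_dvd h0 hβ h3
    have h6 := Nat.le_of_dvd (by omega) h5
    have h7 : (s + 1) ^ 2 ≤ Nat.card F := hc ▸ Nat.pow_le_pow_right (by omega) hd
    have h8 : s = 1 := by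
      have : (s + 1) ^ 2 ≤ 3 * s + 1 := by omega
      nlinarith
    subst h8
    omega
  refine fin3 one_ne_zero one_ne_zero hU (inv_mem hV (low_inv _ _)) (mul_eq_one_comm.1 (low_inv _ _)) (by simp [h0])
    fun x => ⟨x / β, ?_⟩
  have h3 : x ∈ R := hR ▸ Subring.mem_top _
  convert (k1 _ _ h3 t1).2 using 1
  ext i j; fin_cases i <;> fin_cases j <;> simp [vecMulVec_apply] <;> field_simp

theorem p3_odd (h2 : (2 : F) ≠ 0) (h3 : Nat.card F ≠ 3) (h7 : Nat.card F ≠ 7) : P3 F := by
  obtain ⟨l, h0, hl⟩ := exists_prim F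
  have hodd : Nat.card F % 2 = 1 := by
    cases nonempty_fintype F
    rw [Nat.card_eq_fintype_card]
    refine FiniteField.odd_card_of_char_ne_two fun e => h2 ?_
    exact_mod_cast (ringChar.spec F 2).2 (e ▸ dvd_rfl)
  have hq : 1 < Nat.card F := Finite.one_lt_card
  have h6 : l ^ 6 ≠ 1 := fun e => by
    have h5 := prim_dvd h0 hl e
    have h6 := Nat.le_of_dvd (by omega) h5
    have : Nat.card F = 5 := by omega
    rw [this] at h5; omega
  have h1 : 1 + l ≠ 0 := fun e => h6 (by rw [show l = -1 by linear_combination e]; norm_num)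
  have hgen : ∀ R : Subring F, l ^ 3 + (l ^ 3)⁻¹ ∈ R → R = ⊤ := fun R hR => by
    by_contra hne
    obtain ⟨r, d, hr, hd, hc, h1, h4⟩ := sub_proper hne
    have h3 := h1 _ hR
    rw [h4, inv_pow] at h3
    have hm : l ^ 3 ≠ 0 := pow_ne_zero _ h0
    have hm' : (l ^ 3) ^ r ≠ 0 := pow_ne_zero _ hm
    have h5 : ((l ^ 3) ^ r - l ^ 3) * ((l ^ 3) ^ r * l ^ 3 - 1) = 0 := by
      field_simp at h3
      linear_combination h3
    obtain ⟨s, rfl⟩ : ∃ s, r = s + 1 := ⟨r - 1, by omega⟩
    have h7 : (s + 1) ^ 2 ≤ Nat.card F := hc ▸ Nat.pow_le_pow_right (by omega) hd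
    have hs : s % 2 = 0 := by
      by_contra hs
      have : 2 ∣ (s + 1) ^ d := Dvd.dvd.pow (by omega) (by omega)
      omega
    have key : ∀ m, m = 3 * s ∨ m = 3 * (s + 2) → l ^ m = 1 → False := fun m hm e => by
      have h9 := prim_dvd h0 hl e
      have h6 := Nat.le_of_dvd (by omega) h9
      have h8 : s = 2 := by
        have : (s + 1) ^ 2 ≤ 3 * s + 7 := by omega
        have : s ≤ 3 := by nlinarith
        omega
      subst h8
      have h10 : d = 2 := by
        by_contra h10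
        have : (2 + 1) ^ 3 ≤ Nat.card F := hc ▸ Nat.pow_le_pow_right (by omega) (by omega)
        omega
      subst h10
      rw [hc] at h9
      omega
    rcases mul_eq_zero.1 h5 with e | e
    · rw [sub_eq_zero, pow_succ, mul_eq_right₀ hm, ← pow_mul] at e
      exact key _ (Or.inl rfl) e
    · rw [sub_eq_zero, ← pow_succ, ← pow_mul] at e
      exact key _ (Or.inr rfl) e
  have ha : -(1 + l) ^ 2 / l ≠ 0 := by simp [h0, h1]
  refine mkP (a := -(1 + l) ^ 2 / l) (c := (2 * l ^ 2 + l + 1) * (1 + l) / l ^ 2) (β := 1) (δ := l / (1 + l)) ha one_ne_zero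
    fun S hU hV => ?_
  obtain ⟨x, y, hs⟩ : ∃ x y, !![l, x, y; 0, (l ^ 2)⁻¹, x; 0, 0, l] ∈ S := by
    refine ⟨-(1 + l) ^ 2 / l + (2 * l ^ 2 + l + 1) * (1 + l) / l ^ 2, (2 * l ^ 2 + l + 1) * (1 + l) / l ^ 2, ?_⟩
    convert S.mul_mem (S.mul_mem hV hU) hV using 1
    ext i j; fin_cases i <;> fin_cases j <;> simp [Matrix.mul_apply, Fin.sum_univ_three] <;> field_simp <;> ring
  have hi : !![l, x, y; 0, (l ^ 2)⁻¹, x; 0, 0, l] * !![l⁻¹, -x * l, x * x - y / l ^ 2; 0, l ^ 2, -x * l; 0, 0, l⁻¹] = 1 := by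
    ext i j; fin_cases i <;> fin_cases j <;> simp [Matrix.mul_apply, Fin.sum_univ_three] <;> field_simp <;> ring
  let Q : F → F → Prop := fun a b => ∃ c, !![1, a, c; 0, 1, b; 0, 0, 1] ∈ S
  have qadd : ∀ a b a' b', Q a b → Q a' b' → Q (a + a') (b + b') := by
    rintro a b a' b' ⟨c, h⟩ ⟨c', h'⟩
    refine ⟨c + c' + a * b', ?_⟩
    convert S.mul_mem h h' using 1
    ext i j; fin_cases i <;> fin_cases j <;> simp [Matrix.mul_apply, Fin.sum_univ_three] <;> ring
  have qneg : ∀ a b, Q a b → Q (-a) (-b) := by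
    rintro a b ⟨c, h⟩
    refine ⟨a * b - c, inv_mem h ?_⟩
    ext i j; fin_cases i <;> fin_cases j <;> simp [Matrix.mul_apply, Fin.sum_univ_three] <;> ring
  have q1 : ∀ a b, Q a b → Q (l ^ 3 * a) ((l ^ 3)⁻¹ * b) := by
    rintro a b ⟨c, h⟩
    refine ⟨c + x * b / l - l ^ 2 * a * x, ?_⟩
    convert S.mul_mem (S.mul_mem hs h) (inv_mem hs hi) using 1
    ext i j; fin_cases i <;> fin_cases j <;> simp [Matrix.mul_apply, Fin.sum_univ_three] <;> field_simp <;> ring
  have q2 : ∀ a b, Q a b → Q ((l ^ 3)⁻¹ * a) (l ^ 3 * b) := by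
    rintro a b ⟨c, h⟩
    refine ⟨c + x * a / l - l ^ 2 * b * x, ?_⟩
    convert S.mul_mem (S.mul_mem (inv_mem hs hi) h) hs using 1
    ext i j; fin_cases i <;> fin_cases j <;> simp [Matrix.mul_apply, Fin.sum_univ_three] <;> field_simp <;> ring
  let R : Subring F :=
    { carrier := {r | ∀ a b, Q a b → Q (r * a) (r * b)}
      zero_mem' := fun a b h => by simpa using qadd _ _ _ _ h (qneg _ _ h)
      one_mem' := fun a b h => by simpa using h
      add_mem' := fun h h' a b t => by simpa [add_mul] using qadd _ _ _ _ (h a b t) (h' a b t)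
      neg_mem' := fun h a b t => by simpa using qneg _ _ (h a b t)
      mul_mem' := fun h h' a b t => by simpa [mul_assoc] using h _ _ (h' a b t) }
  have hR : ∀ r, r ∈ R := fun r => hgen R (fun a b t => by
    simpa [add_mul, add_comm] using qadd _ _ _ _ (q1 a b t) (q2 a b t)) ▸ Subring.mem_top r
  refine fin3 ha ha hU hV (low_inv _ _) (by simp [h0, h1]) fun z => ?_
  have t0 : Q _ _ := ⟨_, hU⟩
  generalize -(1 + l) ^ 2 / l = a at ha t0
  have t1 := hR (z * l ^ 3 / (a * (1 - l ^ 6))) _ _ (qadd _ _ _ _ (q1 _ _ t0) (qneg _ _ (hR (l ^ 3) _ _ t0)))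
  have h6' : 1 - l ^ 6 ≠ 0 := sub_ne_zero.2 h6.symm
  rw [add_neg_cancel, mul_zero] at t1
  have e : z * l ^ 3 / (a * (1 - l ^ 6)) * ((l ^ 3)⁻¹ * a + -(l ^ 3 * a)) = z := by
    field_simp
    ring
  rwa [e] at t1

theorem p3 (F : Type*) [Field F] [Finite F] : P3 F := by
  by_cases h3 : Nat.card F = 3
  · exact p3_three h3
  by_cases h4 : Nat.card F = 4
  · exact p3_four h4
  by_cases h7 : Nat.card F = 7
  · exact p3_seven h7
  by_cases h2 : (2 : F) = 0
  · exact p3_even h2 h4
  · exact p3_odd h2 h3 h7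

end Cfsg.Agent.H19.RU
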