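import Mathlib
import Cfsg.Agent.H19.RU3
import Cfsg.Agent.H10.SpTv

/-! unipotent radicals of point stabilisers inside subgroups of `Sp` -/

set_option autoImplicit false
set_option linter.unusedSectionVars false

namespace Cfsg.Agent.H19.RU

open Matrix Cfsg.Agent.H10

theorem add_cyc {F V : Type*} [Field F] [AddCommGroup V] [Module F V] (N : V →ₗ[F] V) (A : AddSubgroup V)
    (hA : ∀ v ∈ A, N v ∈ A) (d : ℕ) (h : ∀ v, N v = 0 → ∃ a ∈ A, (N ^ d) a = v) (v : V) (hv : (N ^ (d + 1)) v = 0) :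
    v ∈ A := by
  have hp : ∀ (k : ℕ), ∀ v ∈ A, (N ^ k) v ∈ A := fun k => by
    induction k with
    | zero => intro v hv; simpa using hv
    | succ k ih => intro v hv; rw [pow_succ', Module.End.mul_apply]; exact hA _ (ih v hv)
  have key : ∀ j, j ≤ d + 1 → ∀ v, (N ^ j) v = 0 → v ∈ A := fun j => by
    induction j with
    | zero => intro _ v hv; rw [show v = 0 by simpa using hv]; exact A.zero_mem
    | succ j ih =>
      intro hj v hv
      obtain ⟨a, ha, e⟩ := h ((N ^ j) v) (by rwa [pow_succ', Module.End.mul_apply] at hv)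
      have := ih (by omega) (v - (N ^ (d - j)) a) (by
        rw [map_sub, ← Module.End.mul_apply, ← pow_add, show j + (d - j) = d by omega, e, sub_self])
      simpa using A.add_mem this (hp (d - j) a ha)
  exact key _ le_rfl v hv

/-- multipliers of an additive subgroup of a field -/
def mulr {F : Type*} [Field F] (T : AddSubgroup F) : Subring F where
  carrier := {r | ∀ b ∈ T, r * b ∈ T}
  zero_mem' := fun b _ => by simpa using T.zero_mem
  one_mem' := fun b h => by simpa using h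
  add_mem' := fun h h' b t => by simpa [add_mul] using T.add_mem (h b t) (h' b t)
  neg_mem' := fun h b t => by simpa using h b t
  mul_mem' := fun h h' b t => by simpa [mul_assoc] using h _ (h' b t)

theorem mulr_top {F : Type*} [Field F] {T : AddSubgroup F} (h : mulr T = ⊤) {b : F} (hb : b ∈ T) (h0 : b ≠ 0) (c : F) :
    c ∈ T := by
  have : c / b ∈ mulr T := h ▸ Subring.mem_top _
  simpa [h0] using this b hb

variable {l : Type*} [Fintype l] [DecidableEq l] {F : Type*} [Field F] {H : Subgroup (symplecticGroup l F)}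
  {v w x x' : l ⊕ l → F} {c c' : F} {g : symplecticGroup l F}

local notation "𝔅" => spBilin _ _

def Qs (H : Subgroup (symplecticGroup l F)) (v x : l ⊕ l → F) (c : F) : Prop := ∃ h : 𝔅 x v = 0, spq x v c h ∈ H

theorem Qs.mul (h : Qs H v x c) (h' : Qs H v x' c') : Qs H v (x + x') (c + c' + 𝔅 x' x) :=
  ⟨_, spq_mul _ _ _ _ _ h.1 h'.1 ▸ H.mul_mem h.2 h'.2⟩

theorem Qs.self (a : F) : Qs H v (a • v) (-(2 * a)) :=
  ⟨by simp [spB_self], by rw [spq_smul, neg_add_cancel, stv_zero]; exact H.one_mem⟩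

theorem Qs.neg (h : Qs H v x c) : Qs H v (-x) (-c) := by
  refine ⟨by simp [h.1], ?_⟩
  convert H.inv_mem h.2 using 1
  refine eq_inv_of_mul_eq_one_right (sp_ext fun y => ?_)
  rw [spq_mul, spq_mulVec]
  simp [spB_self]

theorem Qs.conj (h : Qs H v x c) (hg : g ∈ H) : Qs H (g.1 *ᵥ v) (g.1 *ᵥ x) c :=
  ⟨_, spq_conj g _ _ _ h.1 ▸ H.mul_mem (H.mul_mem hg h.2) (H.inv_mem hg)⟩

theorem Qs.low (h : Qs H v x c) (hg : g ∈ H) (e : g.1 *ᵥ v = v) :
    Qs H v (g.1 *ᵥ x - x) (-𝔅 x (g.1 *ᵥ x)) := by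
  have := (e ▸ h.conj hg).mul h.neg
  simpa [sub_eq_add_neg] using this

theorem Qs.act (h : Qs H v x c) (h' : Qs H v x' c') (hg : g ∈ H) (e1 : 𝔅 v (g.1 *ᵥ v) = 0) (e2 : 𝔅 v (g.1 *ᵥ x') = 0) :
    Qs H v (𝔅 x (g.1 *ᵥ v) • g.1 *ᵥ x' + (𝔅 x (g.1 *ᵥ x') + c' * 𝔅 x (g.1 *ᵥ v)) • g.1 *ᵥ v)
      (-(𝔅 x (g.1 *ᵥ v) * (2 * 𝔅 x (g.1 *ᵥ x') + c' * 𝔅 x (g.1 *ᵥ v)))) := by
  have := h.low (h'.conj hg).2 (by rw [spq_mulVec, e1, e2]; simp)
  convert this using 1
  · rw [spq_mulVec]; abel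
  · simp only [spq_mulVec, map_add, map_smul, spB_self, smul_eq_mul]; ring

theorem Qs.swap {a : F} (h : Qs H v (a • w) c) (h' : Qs H w (a • v) 0) : Qs H v 0 c := by
  refine ⟨by simp, ?_⟩
  convert H.mul_mem h.2 h'.neg.2 using 1
  have e1 := h.1
  have e2 := h'.1
  simp only [map_smul, LinearMap.smul_apply, smul_eq_mul] at e1 e2
  refine sp_ext fun y => ?_
  simp only [sp_mul_mulVec, spq_mulVec, map_add, map_smul, map_neg, LinearMap.add_apply, LinearMap.smul_apply,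
    LinearMap.neg_apply, spB_self, smul_eq_mul, map_zero]
  match_scalars
  · ring
  · linear_combination (c * 𝔅 y v) * e1 + (a * 𝔅 y w) * e2
  · linear_combination (a * 𝔅 y v) * e1

/-- centres whose full unipotent radical lies in `H` -/
def Fl (H : Subgroup (symplecticGroup l F)) : Submodule F (l ⊕ l → F) where
  carrier := {v | ∀ x c, 𝔅 x v = 0 → Qs H v x c}
  zero_mem' := fun x c h => ⟨h, by
    convert H.one_mem using 1
    exact sp_ext fun y => by simp [spq_mulVec]⟩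
  smul_mem' := fun a v hv x c h => ⟨h, by
    convert (hv (a • x) (a * a * c) (by simpa using h)).2 using 1
    refine sp_ext fun y => ?_
    simp only [spq_mulVec, map_smul, smul_eq_mul]
    module⟩
  add_mem' := fun {v w} hv hw => by
    have key : ∀ g ∈ H, g.1 *ᵥ v = v + w → ∀ x c, 𝔅 x (v + w) = 0 → Qs H (v + w) x c := fun g hg e x c h => by
      have := (hv ((g⁻¹).1 *ᵥ x) c (by rw [sp_form_inv, e, h])).conj hg
      rwa [e, sp_mulVec_inv] at this
    by_cases h : 𝔅 v w = 0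
    · by_cases h' : ∀ x, 𝔅 x w = 0 → 𝔅 x v = 0
      · obtain ⟨a, rfl⟩ := exists_smul_of_perp h'
        intro x c hx
        refine ⟨hx, ?_⟩
        convert (hw ((a + 1) • x) ((a + 1) * (a + 1) * c) (by simpa [add_mul] using hx)).2 using 1
        refine sp_ext fun y => ?_
        simp only [spq_mulVec, map_smul, map_add, smul_eq_mul]
        module
      · push Not at h'
        obtain ⟨x, h1, h2⟩ := h'
        refine key _ (hw ((-(𝔅 x v)⁻¹) • x) 0 (by simp [h1])).2 ?_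
        rw [spq_mulVec, h, map_smul, spB_swap v x]
        simp [h2]
    · refine key _ (hw 0 (𝔅 v w)⁻¹ (by simp)).2 ?_
      rw [spq_mulVec]
      simp [h]

theorem fl_conj (h : v ∈ Fl H) (hg : g ∈ H) : g.1 *ᵥ v ∈ Fl H := fun x c hx => by
  have := (h ((g⁻¹).1 *ᵥ x) c (by rw [sp_form_inv, hx])).conj hg
  rwa [sp_mulVec_inv] at this

theorem fl_of (h : ∀ x, 𝔅 x v = 0 → ∃ c, Qs H v x c) (h' : ∀ c, Qs H v 0 c) : v ∈ Fl H := fun x c hx => by
  obtain ⟨d, hd⟩ := h x hx
  simpa using hd.mul (h' (c - d))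

theorem top_of_fl {m : ℕ} {H : Subgroup (symplecticGroup (Fin m) F)} (h : Fl H = ⊤) : H = ⊤ :=
  sp_eq_top_of_stv_mem H fun a c => ((h ▸ Submodule.mem_top : a ∈ Fl H) 0 c (by simp)).2

/-- the image of `H ∩ Q_v` in `v^⊥` -/
def Aq (H : Subgroup (symplecticGroup l F)) (v : l ⊕ l → F) : AddSubgroup (l ⊕ l → F) where
  carrier := {x | ∃ c, Qs H v x c}
  zero_mem' := ⟨_, by simpa using Qs.self (H := H) (v := v) 0⟩
  add_mem' := fun ⟨_, h⟩ ⟨_, h'⟩ => ⟨_, h.mul h'⟩
  neg_mem' := fun ⟨_, h⟩ => ⟨_, h.neg⟩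

end Cfsg.Agent.H19.RU
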