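import Mathlib
import Cfsg.Agent.H19.RS1

/-! an explicit regular unipotent element of `Sp` -/

set_option autoImplicit false
set_option linter.unusedSectionVars false
set_option linter.unusedSimpArgs false

namespace Cfsg.Agent.H19.RU

open Matrix Cfsg.Agent.H10

variable {F : Type*} [Field F] [Finite F] {n m : ℕ}

local notation "𝔅" => spBilin _ _

def sg (n : ℕ) (F : Type*) [Field F] (k : ℕ) : Fin n → F := fun i => if (i : ℕ) = k then 1 else 0

theorem dot_sg (v : Fin n → F) {k : ℕ} (h : k < n) : v ⬝ᵥ sg n F k = v ⟨k, h⟩ := by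
  simp only [dotProduct, sg, mul_ite, mul_one, mul_zero]
  rw [Finset.sum_eq_single ⟨k, h⟩ (fun j _ hj => if_neg fun e => hj (Fin.ext e)) (by simp), if_pos rfl]

theorem sg_dot (v : Fin n → F) {k : ℕ} (h : k < n) : sg n F k ⬝ᵥ v = v ⟨k, h⟩ := by rw [dotProduct_comm, dot_sg]

theorem sg_sg (j k : ℕ) : sg n F j ⬝ᵥ sg n F k = if j = k ∧ k < n then 1 else 0 := by
  by_cases h : k < n
  · rw [dot_sg _ h]; simp [sg, h, eq_comm]
  · rw [if_neg (by tauto)]
    exact Finset.sum_eq_zero fun i _ => by rw [sg, sg, if_neg (show ¬ (i : ℕ) = k by omega), mul_zero]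

theorem J_sg (k : ℕ) : J n F *ᵥ sg n F k = sg n F (k + 1) := by
  ext i
  refine (J_mulVec (fun i => if i = k then 1 else 0) i).trans ?_
  simp only [sg]
  split_ifs <;> first | rfl | omega

theorem Jp_sg (k j : ℕ) (h : j < n) : (J n F ^ k)ᵀ *ᵥ sg n F j = if k ≤ j then sg n F (j - k) else 0 := by
  ext i
  rw [mulVec, dot_sg _ h, transpose_apply, J_pow]
  by_cases hk : k ≤ j <;> simp only [hk, if_true, if_false, sg, Pi.zero_apply] <;> split_ifs <;> first | rfl | omega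

theorem Jt_sg (j : ℕ) (h : j + 1 < n) : (J n F)ᵀ *ᵥ sg n F (j + 1) = sg n F j := by simpa using Jp_sg (F := F) 1 _ h

theorem Jt_zero (h : 0 < n) : (J n F)ᵀ *ᵥ sg n F 0 = 0 := by simpa using Jp_sg (F := F) 1 _ h

theorem Jt_apply (a : Fin n → F) (i : Fin n) : ((J n F)ᵀ *ᵥ a) i = a ⬝ᵥ sg n F (i + 1) := by
  rw [← J_sg, dotProduct_mulVec, dot_sg _ i.2, mulVec_transpose]

theorem sg_ge {k : ℕ} (h : n ≤ k) : sg n F k = 0 := funext fun i => if_neg (by omega)

def Bi (n : ℕ) (F : Type*) [Field F] : Matrix (Fin n) (Fin n) F := ((uJ n F)⁻¹ : SpecialLinearGroup (Fin n) F)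

theorem Bi_mul : Bi n F * (1 + J n F) = 1 := by
  rw [Bi, ← uJ_coe, ← Matrix.SpecialLinearGroup.coe_mul, inv_mul_cancel, Matrix.SpecialLinearGroup.coe_one]

theorem mul_Bi : (1 + J n F) * Bi n F = 1 := mul_eq_one_comm.1 Bi_mul

theorem Bi_of {a b : Fin n → F} (h : a + J n F *ᵥ a = b) : Bi n F *ᵥ b = a := by
  have : (1 + J n F) *ᵥ a = b := by rw [add_mulVec, one_mulVec, h]
  rw [← this, mulVec_mulVec, Bi_mul, one_mulVec]

theorem Bi_sub : Bi n F - 1 = -(J n F * Bi n F) := by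
  rw [← mul_Bi (n := n) (F := F), add_mul, one_mul]; abel

theorem Bi_zero (k : ℕ) (b : Fin (n + 1) → F) : (Bi (n + 1) F ^ k *ᵥ b) 0 = b 0 := by
  induction k with
  | zero => simp
  | succ k ih =>
    have := congrFun (congrArg (· *ᵥ (Bi (n + 1) F ^ k *ᵥ b)) Bi_sub) 0
    simp only [sub_mulVec, one_mulVec, neg_mulVec, ← mulVec_mulVec, Pi.sub_apply, Pi.neg_apply] at this
    rw [pow_succ', ← mulVec_mulVec, ← ih, ← sub_eq_zero, this]
    simp [mulVec, dotProduct, J]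

theorem D_pow (k : ℕ) : (Bi n F - 1) ^ k = (-1 : F) ^ k • (J n F ^ k * Bi n F ^ k) := by
  have hc : Commute (J n F) (Bi n F) := by
    have h1 := Bi_mul (n := n) (F := F)
    have h2 := mul_Bi (n := n) (F := F)
    rw [mul_add, mul_one] at h1
    rw [add_mul, one_mul] at h2
    exact add_left_cancel (h2.trans h1.symm)
  rw [Bi_sub, ← neg_one_smul F, _root_.smul_pow, hc.mul_pow]

theorem J_top (v : Fin (n + 1) → F) : J (n + 1) F ^ n *ᵥ v = v 0 • sg (n + 1) F n := by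
  ext i
  rw [mulVec, dotProduct, Fin.sum_univ_succ, Finset.sum_eq_zero fun j _ => by
    rw [J_pow, if_neg (by simp; omega), zero_mul]]
  simp [J_pow, sg]

theorem D_top (b : Fin (n + 1) → F) : (Bi (n + 1) F - 1) ^ n *ᵥ b = ((-1) ^ n * b 0) • sg (n + 1) F n := by
  rw [D_pow, smul_mulVec, ← mulVec_mulVec, J_top, Bi_zero, smul_smul]

theorem J_Jt (b : Fin (n + 1) → F) (h : b 0 = 0) : J (n + 1) F *ᵥ ((J (n + 1) F)ᵀ *ᵥ b) = b := by
  ext i
  have := J_mulVec (fun j => b ⬝ᵥ sg (n + 1) F (j + 1)) i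
  simp only [← Jt_apply] at this
  rw [this]
  split_ifs with h0
  · rw [show i = 0 from Fin.ext h0, h]
  · rw [show (i : ℕ) - 1 + 1 = i by omega, dot_sg _ i.2]

theorem Jt_J (a : Fin (n + 1) → F) (h : a (Fin.last n) = 0) : (J (n + 1) F)ᵀ *ᵥ (J (n + 1) F *ᵥ a) = a := by
  ext i
  rw [Jt_apply, dotProduct_comm, dotProduct_mulVec, ← mulVec_transpose]
  by_cases hi : (i : ℕ) + 1 < n + 1
  · rw [Jt_sg _ hi, sg_dot _ i.2]
  · rw [sg_ge (by omega), show i = Fin.last n from Fin.ext (by simp; omega), h]; simp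

theorem D_top' (b : Fin (m + 2) → F) (h : b 0 = 0) :
    (Bi (m + 2) F - 1) ^ m *ᵥ b = ((-1) ^ m * b 1) • sg (m + 2) F (m + 1) := by
  have hc : Commute (J (m + 2) F) (Bi (m + 2) F) := by
    have h1 := Bi_mul (n := m + 2) (F := F)
    have h2 := mul_Bi (n := m + 2) (F := F)
    rw [mul_add, mul_one] at h1
    rw [add_mul, one_mul] at h2
    exact add_left_cancel (h2.trans h1.symm)
  conv_lhs => rw [← J_Jt b h]
  rw [D_pow, smul_mulVec, mulVec_mulVec, mul_assoc, ← (hc.pow_right m).eq, ← mul_assoc, ← pow_succ, ← mulVec_mulVec,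
    J_top, Bi_zero, smul_smul, Jt_apply, dot_sg _ (by simp)]
  rfl

theorem B_elim (a b a' b' : Fin n → F) : 𝔅 (Sum.elim a b) (Sum.elim a' b') = b ⬝ᵥ a' - a ⬝ᵥ b' := by
  simp [spBilin_apply_sum, dotProduct]

theorem J_elim (a b : Fin n → F) : (SymplecticGroup.symJ (Fin n) F).1 *ᵥ Sum.elim a b = Sum.elim (-b) a :=
  H10.J_mulVec _

theorem elim_add (a b a' b' : Fin n → F) : Sum.elim a b + Sum.elim a' b' = Sum.elim (a + a') (b + b') := by
  ext (i | i) <;> rfl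

theorem elim_sub (a b a' b' : Fin n → F) : Sum.elim a b - Sum.elim a' b' = Sum.elim (a - a') (b - b') := by
  ext (i | i) <;> rfl

theorem elim_smul (c : F) (a b : Fin n → F) : c • Sum.elim a b = Sum.elim (c • a) (c • b) := by
  ext (i | i) <;> rfl

theorem elim_cases (v : Fin n ⊕ Fin n → F) : ∃ a b, v = Sum.elim a b :=
  ⟨fun i => v (.inl i), fun i => v (.inr i), by ext (i | i) <;> rfl⟩

noncomputable def uS (m : ℕ) (F : Type*) [Field F] [Finite F] : symplecticGroup (Fin (m + 2)) F :=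
  ⟨fromBlocks (1 + J (m + 2) F)ᵀ 0 0 (Bi (m + 2) F), by
    rw [SymplecticGroup.mem_iff, Matrix.J, fromBlocks_multiply, fromBlocks_transpose, fromBlocks_multiply]
    simp only [Matrix.mul_zero, Matrix.zero_mul, add_zero, zero_add, transpose_zero, Matrix.mul_one, transpose_transpose,
      Bi_mul, Matrix.mul_neg, Matrix.neg_mul, ← transpose_mul, transpose_one, neg_zero]⟩ *
    stv (Sum.elim (sg (m + 2) F (m + 1)) 0) 1

theorem uS_elim (a b : Fin (m + 2) → F) : (uS m F).1 *ᵥ Sum.elim a b =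
    Sum.elim (a + (J (m + 2) F)ᵀ *ᵥ a + b (Fin.last _) • (sg (m + 2) F (m + 1) + sg (m + 2) F m)) (Bi (m + 2) F *ᵥ b) := by
  rw [uS, sp_mul_mulVec, stv_mulVec, B_elim, elim_smul, elim_add, fromBlocks_mulVec]
  simp [dot_sg _ (show m + 1 < m + 2 by omega), add_mulVec, mulVec_add, mulVec_smul, Jt_sg m (show m + 1 < m + 2 by omega)]
  rfl

theorem N_elim (a b : Fin (m + 2) → F) : ((uS m F).1 - 1) *ᵥ Sum.elim a b =
    Sum.elim ((J (m + 2) F)ᵀ *ᵥ a + b (Fin.last _) • (sg (m + 2) F (m + 1) + sg (m + 2) F m)) ((Bi (m + 2) F - 1) *ᵥ b) := by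
  rw [sub_mulVec, uS_elim, one_mulVec, elim_sub, sub_mulVec, one_mulVec]
  congr 1
  abel

theorem N_pow_left (k : ℕ) (a : Fin (m + 2) → F) :
    ((uS m F).1 - 1) ^ k *ᵥ Sum.elim a 0 = Sum.elim ((J (m + 2) F ^ k)ᵀ *ᵥ a) 0 := by
  induction k with
  | zero => simp
  | succ k ih => rw [pow_succ', ← mulVec_mulVec, ih, N_elim, pow_succ, transpose_mul, ← mulVec_mulVec]; simp

theorem N_pow (k : ℕ) (a b : Fin (m + 2) → F) :
    ∃ a', ((uS m F).1 - 1) ^ k *ᵥ Sum.elim a b = Sum.elim a' ((Bi (m + 2) F - 1) ^ k *ᵥ b) := by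
  induction k with
  | zero => exact ⟨a, by simp⟩
  | succ k ih =>
    obtain ⟨a', h⟩ := ih
    exact ⟨_, by rw [pow_succ', ← mulVec_mulVec, h, N_elim, mulVec_mulVec, ← pow_succ']⟩

theorem Bi_last : Bi (m + 2) F *ᵥ sg (m + 2) F (m + 1) = sg (m + 2) F (m + 1) :=
  Bi_of (by rw [J_sg, sg_ge le_rfl, add_zero])

theorem N_key (a : Fin (m + 2) → F) (β : F) : ((uS m F).1 - 1) ^ (m + 2) *ᵥ Sum.elim a (β • sg (m + 2) F (m + 1)) =
    β • Sum.elim (sg (m + 2) F 0) 0 := by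
  rw [pow_succ, ← mulVec_mulVec, N_elim, mulVec_smul, sub_mulVec, Bi_last, one_mulVec, sub_self, smul_zero, N_pow_left,
    mulVec_add, mulVec_mulVec, ← transpose_mul, ← pow_succ', J_nil, mulVec_smul, mulVec_add, Jp_sg _ _ (by omega),
    Jp_sg _ _ (by omega), elim_smul]
  simp [sg]

theorem N_odd (a b : Fin (m + 2) → F) : ((uS m F).1 - 1) ^ (2 * m + 3) *ᵥ Sum.elim a b =
    ((-1) ^ (m + 1) * b 0) • Sum.elim (sg (m + 2) F 0) 0 := by
  obtain ⟨a', h⟩ := N_pow (m + 1) a b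
  rw [show 2 * m + 3 = (m + 2) + (m + 1) by omega, pow_add, ← mulVec_mulVec, h, D_top, N_key]

theorem N_even (a b : Fin (m + 2) → F) (hb : b 0 = 0) : ((uS m F).1 - 1) ^ (2 * m + 2) *ᵥ Sum.elim a b =
    ((-1) ^ m * b 1) • Sum.elim (sg (m + 2) F 0) 0 := by
  obtain ⟨a', h⟩ := N_pow m a b
  rw [show 2 * m + 2 = (m + 2) + m by omega, pow_add, ← mulVec_mulVec, h, D_top' _ hb, N_key]

theorem N_nil : ((uS m F).1 - 1) ^ (2 * m + 3 + 1) = 0 := by
  refine Matrix.ext_iff_mulVec.2 fun v => ?_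
  obtain ⟨a, b, rfl⟩ := elim_cases v
  rw [pow_succ', ← mulVec_mulVec, N_odd, mulVec_smul, N_elim, Jt_zero (by omega)]
  simp

theorem N_ker {v : Fin (m + 2) ⊕ Fin (m + 2) → F} (h : ((uS m F).1 - 1) *ᵥ v = 0) :
    ∃ c : F, v = c • Sum.elim (sg (m + 2) F 0) 0 := by
  obtain ⟨a, b, rfl⟩ := elim_cases v
  rw [N_elim] at h
  have h1 : (J (m + 2) F)ᵀ *ᵥ a + b (Fin.last _) • (sg (m + 2) F (m + 1) + sg (m + 2) F m) = 0 :=
    funext fun i => congrFun h (.inl i)
  have h2 : Bi (m + 2) F *ᵥ b - b = 0 := by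
    rw [← one_mulVec b, mulVec_mulVec, mul_one, ← sub_mulVec]
    exact funext fun i => congrFun h (.inr i)
  have h3 : b (Fin.last _) = 0 := by
    have := congrFun h1 (Fin.last _)
    simpa [Jt_apply, sg_ge, sg] using this
  have h4 : J (m + 2) F *ᵥ b = 0 := by
    have := congrArg ((1 + J (m + 2) F) *ᵥ ·) (sub_eq_zero.1 h2)
    simp only [mulVec_mulVec, mul_Bi, one_mulVec, add_mulVec] at this
    exact left_eq_add.1 this
  have h5 : b = 0 := by rw [← Jt_J b h3, h4, mulVec_zero]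
  rw [h3, zero_smul, add_zero] at h1
  refine ⟨a 0, ?_⟩
  rw [h5, elim_smul, smul_zero]
  congr 1
  have := J_Jt (a - a 0 • sg (m + 2) F 0) (by simp [sg])
  rw [mulVec_sub, mulVec_smul, h1, Jt_zero (by omega)] at this
  rw [← sub_eq_zero, ← this]; simp

end Cfsg.Agent.H19.RU
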