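import Mathlib
import Cfsg.Agent.H19.RS2
import Cfsg.Agent.H11.Unit2
import Cfsg.Agent.H11.UBridge

/-! unipotent radicals of point stabilisers inside subgroups of unitary groups -/

set_option autoImplicit false
set_option linter.unusedSectionVars false

namespace Cfsg.Agent.H19.RU

open Cfsg.Agent.H11 Module

variable {F : Type*} [Field F] {V : Type*} [AddCommGroup V] [Module F V] {σ : F →+* F} {B : V →ₛₗ[σ] V →ₗ[F] F}
  {h : IsHerm B} {H : Subgroup (UIsom B)} {v w x x' : V} {c c' : F} {g : UIsom B}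

def Qu (h : IsHerm B) (H : Subgroup (UIsom B)) (v x : V) (c : F) : Prop :=
  ∃ (hv : B v v = 0) (hx : B v x = 0) (hc : c + σ c = B x x), h.eich hv hx hc ∈ H

theorem Qu.mul (t : Qu h H v x c) (t' : Qu h H v x' c') : Qu h H v (x + x') (c + c' + B x x') := by
  obtain ⟨hv, hx, hc, m⟩ := t
  obtain ⟨_, hx', hc', m'⟩ := t'
  exact ⟨_, _, _, h.eich_mul hv hx hc hx' hc' ▸ H.mul_mem m m'⟩

theorem Qu.neg (t : Qu h H v x c) : Qu h H v (-x) (σ c) := by
  obtain ⟨hv, hx, hc, m⟩ := t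
  exact ⟨_, _, _, h.eich_inv hv hx hc ▸ H.inv_mem m⟩

theorem Qu.conj (t : Qu h H v x c) (hg : g ∈ H) : Qu h H (g.1 v) (g.1 x) c := by
  obtain ⟨hv, hx, hc, m⟩ := t
  exact ⟨_, _, _, h.conj_eich g hv hx hc ▸ H.mul_mem (H.mul_mem hg m) (H.inv_mem hg)⟩

theorem Qu.self (hv : B v v = 0) (a : F) : Qu h H v (a • v) (σ a - a) := by
  refine ⟨hv, by simp [hv], by simp [hv, h.invol], ?_⟩
  convert H.one_mem using 1
  ext x
  simp only [h.eich_apply, map_smulₛₗ, LinearMap.smul_apply, smul_eq_mul, OneMemClass.coe_one, LinearEquiv.coe_one, id]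
  module

theorem Qu.smul {a : F} (ha : a ≠ 0) (t : Qu h H (a • v) x c) : Qu h H v (σ a • x) (σ a * a * c) := by
  obtain ⟨hv, hx, hc, m⟩ := t
  have h1 : B v v = 0 := by simpa [ha] using hv
  have h2 : B v x = 0 := by simpa [ha] using hx
  exact ⟨_, _, _, h.eich_smul_left a h1 h2 hc hv hx ▸ m⟩

theorem Qu.low (t : Qu h H v x c) (hg : g ∈ H) (e : g.1 v = v) : ∃ c, Qu h H v (g.1 x - x) c :=
  ⟨_, by rw [sub_eq_add_neg]; exact (e ▸ t.conj hg).mul t.neg⟩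

theorem Qu.act (t : Qu h H v x c) (t' : Qu h H v x' c') (hg : g ∈ H) (e1 : B (g.1 v) v = 0) (e2 : B (g.1 x') v = 0) :
    ∃ d, Qu h H v (B (g.1 x') x • g.1 v - B (g.1 v) x • g.1 x' - (c' * B (g.1 v) x) • g.1 v) d := by
  obtain ⟨_, _, _, m⟩ := t'.conj hg
  obtain ⟨d, hd⟩ := t.low m (by rw [h.eich_apply, e1, e2]; simp)
  refine ⟨d, ?_⟩
  convert hd using 1
  rw [h.eich_apply]; abel

def Au (h : IsHerm B) (H : Subgroup (UIsom B)) {v : V} (hv : B v v = 0) : AddSubgroup V where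
  carrier := {x | ∃ c, Qu h H v x c}
  zero_mem' := ⟨_, by simpa using Qu.self (h := h) (H := H) hv 0⟩
  add_mem' := fun ⟨_, h⟩ ⟨_, h'⟩ => ⟨_, h.mul h'⟩
  neg_mem' := fun ⟨_, h⟩ => ⟨_, h.neg⟩

def Fu (h : IsHerm B) (H : Subgroup (UIsom B)) (v : V) : Prop :=
  B v v = 0 ∧ ∀ x c, B v x = 0 → c + σ c = B x x → Qu h H v x c

theorem Fu.conj (t : Fu h H v) (hg : g ∈ H) : Fu h H (g.1 v) := ⟨by rw [g.2.1, t.1], fun x c hx hc => by
  obtain ⟨y, rfl⟩ := g.1.surjective x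
  exact (t.2 y c (by rwa [g.2.1] at hx) (by rwa [g.2.1] at hc)).conj hg⟩

theorem Fu.smul (t : Fu h H v) (a : F) : Fu h H (a • v) := ⟨by simp [t.1], fun x c hx hc => by
  by_cases ha : a = 0
  · subst ha
    refine ⟨by simp, hx, hc, ?_⟩
    convert H.one_mem using 1
    ext y; simp [h.eich_apply]
  have h2 : B v x = 0 := by simpa [ha] using hx
  obtain ⟨_, _, _, m⟩ := t.2 (σ a • x) (σ a * a * c) (by simp [h2]) (by simp [h.invol, ← hc]; ring)
  exact ⟨by simp [t.1], hx, hc, (h.eich_smul_left a t.1 h2 hc _ hx).symm ▸ m⟩⟩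

theorem fu_of (hv : B v v = 0) (hA : ∀ x, B v x = 0 → ∃ c, Qu h H v x c) (hw : B v w = 0) (hw' : B w w ≠ 0) :
    Fu h H v := ⟨hv, fun x c hx hc => by
  obtain ⟨d, hd⟩ := hA x hx
  obtain ⟨t, ht⟩ := exists_sub_conj h.ne h.invol (c := c - d) (by
    obtain ⟨_, _, hd', _⟩ := hd
    rw [map_sub]; linear_combination hc - hd')
  obtain ⟨c1, h1⟩ := hA w hw
  obtain ⟨c2, h2⟩ := hA ((t / B w w) • w) (by simp [hw])
  have := hd.mul ((h1.mul h2).mul (h2.mul h1).neg)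
  obtain ⟨_, _, e1, _⟩ := h1
  obtain ⟨_, _, e2, _⟩ := h2
  have e3 := h.symm w w
  convert this using 1
  · abel
  · simp only [map_add, map_neg, map_smulₛₗ, LinearMap.add_apply, LinearMap.smul_apply, smul_eq_mul, RingHom.id_apply,
      map_mul, map_div₀, h.invol, e3, map_sub] at e2 ⊢
    field_simp at e2 ⊢
    linear_combination (-B w w) * ht - (B w w) * e1 - e2⟩

theorem le_of_fu [Finite F] [FiniteDimensional F V] (hB : B.SeparatingLeft) (t : Fu h H v) (hg : g ∈ H)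
    (hne : B v (g.1 v) ≠ 0) : SIsom B ≤ H := by
  have key : ∀ x, B x x = 0 → x ≠ 0 → (Fu h H v ∧ Fu h H x ∨ ∃ c : F, c ≠ 0 ∧ x = c • v) := fun x hx hx0 =>
    h.form.rel_all hB (fun u v => Fu h H u ∧ Fu h H v ∨ ∃ c : F, c ≠ 0 ∧ v = c • u)
      (by
        rintro u v (⟨a, b⟩ | ⟨c, hc, rfl⟩)
        · exact .inl ⟨b, a⟩
        · exact .inr ⟨c⁻¹, inv_ne_zero hc, by simp [hc]⟩)
      (by
        rintro u v w (⟨a, b⟩ | ⟨c, hc, rfl⟩) (⟨a', b'⟩ | ⟨c', hc', rfl⟩)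
        · exact .inl ⟨a, b'⟩
        · exact .inl ⟨a, b.smul _⟩
        · exact .inl ⟨by simpa [hc] using a'.smul c⁻¹, b'⟩
        · exact .inr ⟨c' * c, mul_ne_zero hc' hc, smul_smul _ _ _⟩)
      (fun u c hc => .inr ⟨c, hc, rfl⟩)
      (by
        rintro u v v' hu hv hv' (⟨a, b⟩ | ⟨c, hc, rfl⟩) h0 h0'
        · obtain ⟨w, c, huw, hc, e⟩ := h.exists_eich_apply (v := (B u v' / B u v) • v) (v' := v') hu
            (by simp [hv, hv']) (by simp [h0]) (by simp [h0, h0'])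
          obtain ⟨_, _, _, m⟩ := a.2 w c huw hc
          exact .inl ⟨a, e ▸ (b.smul _).conj m⟩
        · exact absurd (by simp [hu]) h0)
      t.1 (t.conj hg).1 (.inl ⟨t, t.conj hg⟩) hne hx hx0
  rw [← h.eichSub_eq hB]
  refine h.eichSub_le fun u w c hu huw hc => ?_
  have : Fu h H u := by
    by_cases h0 : u = 0
    · simpa [h0] using t.smul 0
    · rcases key u hu h0 with a | ⟨c, -, rfl⟩
      · exact a.2
      · exact t.smul c
  exact (this.2 w c huw hc).2.2.2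

/-- generation of `SU` by three conjugates of a regular unipotent element -/
def PU (B : V →ₛₗ[σ] V →ₗ[F] F) (d : ℕ) (two : Prop) : Prop :=
  ∃ u ∈ SIsom B, ∃ g ∈ SIsom B, ∃ k ∈ SIsom B, (two → k = 1) ∧ ((u.1 : V →ₗ[F] V) - 1) ^ (d + 1) = 0 ∧
    ((u.1 : V →ₗ[F] V) - 1) ^ d ≠ 0 ∧ SIsom B ≤ Subgroup.closure {u, g * u * g⁻¹, k * u * k⁻¹}

theorem PU.su [Finite F] [FiniteDimensional F V] (h : IsHerm B) (hB : B.SeparatingLeft) {q d : ℕ} {two : Prop} (hq : QConj σ q)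
    (hn : finrank F V = d + 1) (t : PU B d two) : ∃ u g k : SU (d + 1) F q, (two → k = 1) ∧
      IsNilpotent ((u.1 : Matrix (Fin (d + 1)) (Fin (d + 1)) F) - 1) ∧
      ((u.1 : Matrix (Fin (d + 1)) (Fin (d + 1)) F) - 1) ^ d ≠ 0 ∧ Subgroup.closure {u, g * u * g⁻¹, k * u * k⁻¹} = ⊤ := by
  obtain ⟨u, hu, g, hg, k, hk, h0, h1, h2, h3⟩ := t
  obtain ⟨e, he⟩ := h.exists_equiv hB (hq.isHerm (Fin (d + 1))) (hermB_sep _) (by simp [hn])
  let ψ := (isomCongr (Q := fun x => B x x) (Q' := fun x => hermB (Fin (d + 1)) σ x x) e he fun x => he x x).symm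
  let φ : SU (d + 1) F q →* UIsom B := ψ.toMonoidHom.comp ((SIsom _).subtype.comp (suEquiv hq (d + 1)).toMonoidHom)
  have hφ : ∀ (a : SU (d + 1) F q), ((φ a).1 : V →ₗ[F] V) = e.symm.conj (Matrix.toLin' a.1.1) := fun a => by
    ext x; rfl
  have inj : Function.Injective φ := ψ.injective.comp (Subtype.val_injective.comp (suEquiv hq _).injective)
  have sur : ∀ b ∈ SIsom B, ∃ a, φ a = b := fun b hb => by
    have : ψ.symm b ∈ SIsom (hermB (Fin (d + 1)) σ) := by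
      rw [mem_sisom] at hb ⊢
      rw [← hb, ← LinearMap.det_conj (b.1 : V →ₗ[F] V) e]
      rfl
    exact ⟨(suEquiv hq _).symm ⟨_, this⟩, by simp [φ]⟩
  obtain ⟨u, rfl⟩ := sur u hu
  obtain ⟨g, rfl⟩ := sur g hg
  obtain ⟨k, rfl⟩ := sur k hk
  have hp : ∀ j : ℕ, (((φ u).1 : V →ₗ[F] V) - 1) ^ j = 0 ↔ ((u.1 : Matrix (Fin (d + 1)) (Fin (d + 1)) F) - 1) ^ j = 0 := fun j => by
    have e1 : ((φ u).1 : V →ₗ[F] V) - 1 = e.symm.conjRingEquiv (Matrix.toLinAlgEquiv' (u.1.1 - 1)) := by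
      rw [map_sub, map_sub, map_one, map_one, hφ]; rfl
    rw [e1, ← map_pow, ← map_pow, map_eq_zero_iff _ (RingEquiv.injective _), map_eq_zero_iff _ (AlgEquiv.injective _)]
  refine ⟨u, g, k, fun t => inj (by rw [h0 t, map_one]), ⟨_, (hp _).1 h1⟩, fun e => h2 ((hp _).2 e), top_le_iff.1 fun a _ => ?_⟩
  have : φ a ∈ SIsom B := by
    rw [mem_sisom, hφ, LinearEquiv.conj_apply, LinearMap.comp_assoc, LinearMap.det_conj, LinearMap.det_toLin', a.1.2]
  have := h3 this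
  rw [← Subgroup.mem_map_iff_mem inj, MonoidHom.map_closure]
  simpa [Set.image_insert_eq] using this

end Cfsg.Agent.H19.RU
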