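import Mathlib
import Cfsg.Agent.H19.RV1
import Cfsg.Agent.H19.RU4

/-! `SU_3(q)`, `q > 2`, is generated by two conjugate regular unipotent elements -/

set_option autoImplicit false
set_option linter.unusedSectionVars false
set_option linter.unusedSimpArgs false
set_option linter.unreachableTactic false
set_option linter.unusedTactic false
set_option linter.unnecessarySeqFocus false

namespace Cfsg.Agent.H19.RU

open Cfsg.Agent.H11 Module Matrix

variable {F : Type*} [Field F] [Finite F] {σ : F →+* F} {q : ℕ}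

def B3 (σ : F →+* F) : (Fin 3 → F) →ₛₗ[σ] (Fin 3 → F) →ₗ[F] F :=
  LinearMap.mk₂'ₛₗ σ (RingHom.id F) (fun u v => σ (u 0) * v 2 - σ (u 1) * v 1 + σ (u 2) * v 0)
    (fun _ _ _ => by simp; ring) (fun _ _ _ => by simp; ring) (fun _ _ _ => by simp; ring) (fun _ _ _ => by simp; ring)

theorem B3_apply (u v : Fin 3 → F) : B3 σ u v = σ (u 0) * v 2 - σ (u 1) * v 1 + σ (u 2) * v 0 := rfl

theorem B3_herm (hq : QConj σ q) : IsHerm (B3 σ) :=
  ⟨hq.ne_id, hq.invol, fun x y => by simp [B3_apply, hq.invol]; ring⟩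

theorem B3_sep : (B3 σ).SeparatingLeft := fun x hx => by
  have h0 := hx ![0, 0, 1]
  have h1 := hx ![0, 1, 0]
  have h2 := hx ![1, 0, 0]
  simp [B3_apply] at h0 h1 h2
  ext i; fin_cases i <;> simp [h0, h1, h2]

theorem Qu.ex {V : Type*} [AddCommGroup V] [Module F V] {B : V →ₛₗ[σ] V →ₗ[F] F} {h : IsHerm B} {H : Subgroup (UIsom B)}
    {v x x' : V} {c : F} (t : Qu h H v x c) (e : x' = x) : ∃ c, Qu h H v x' c := ⟨c, e ▸ t⟩

theorem mkPU3 (hq : QConj σ q) {α γ θ : F} (h0 : α ≠ 0) (hα : σ α = α) (hγ : γ + σ γ = α * α) (hθ : θ + σ θ = 1)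
    (hs : ∀ S : Submonoid (Matrix (Fin 3) (Fin 3) F), !![1, α, γ; 0, 1, α; 0, 0, 1] ∈ S → !![1, 0, 0; 1, 1, 0; θ, 1, 1] ∈ S →
      ∃ a x y b z c : F, !![a, x, y; 0, b, z; 0, 0, c] ∈ S ∧ a ≠ 0 ∧ ∀ R : Subring F, σ a * b ∈ R → R = ⊤) :
    PU (B3 σ) 2 True := by
  have h := B3_herm hq
  have hv : B3 σ ![1, 0, 0] ![1, 0, 0] = 0 := by simp [B3_apply]
  have hf : B3 σ ![0, 0, 1] ![0, 0, 1] = 0 := by simp [B3_apply]
  let u := h.eich hv (w := ![0, -α, 0]) (c := -γ) (by simp [B3_apply]) (by simp [B3_apply, hα]; linear_combination -hγ)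
  let v := h.eich hf (w := ![0, -1, 0]) (c := -θ) (by simp [B3_apply]) (by simp [B3_apply]; linear_combination -hθ)
  have hu : ∀ x, u.1 x = !![1, α, γ; 0, 1, α; 0, 0, 1] *ᵥ x := fun x => by
    ext i; fin_cases i <;> simp [u, h.eich_apply, B3_apply, hα, mulVec, dotProduct, Fin.sum_univ_three, vecHead, vecTail] <;> ring
  have hv' : ∀ x, v.1 x = !![1, 0, 0; 1, 1, 0; θ, 1, 1] *ᵥ x := fun x => by
    ext i; fin_cases i <;> simp [v, h.eich_apply, B3_apply, mulVec, dotProduct, Fin.sum_univ_three, vecHead, vecTail] <;> ring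
  obtain ⟨t, ht⟩ := exists_sub_conj h.ne h.invol (c := θ - γ / (α * α)) (by
    simp only [map_sub, map_div₀, map_mul, hα]; field_simp; linear_combination α ^ 2 * hθ - hγ)
  obtain ⟨d, hd⟩ := h.form.tv ![0, t, 0]
  let w : UIsom (B3 σ) := ⟨Matrix.toLin'OfInv (M := !![0, 0, -α; 0, -1, 0; -α⁻¹, 0, 0]) (M' := !![0, 0, -α; 0, -1, 0; -α⁻¹, 0, 0])
    (by ext i j; fin_cases i <;> fin_cases j <;> simp [Matrix.mul_apply, Fin.sum_univ_three, h0])
    (by ext i j; fin_cases i <;> fin_cases j <;> simp [Matrix.mul_apply, Fin.sum_univ_three, h0]), mem_uisom.2 fun x y => by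
      simp [B3_apply, mulVec, dotProduct, Fin.sum_univ_three, hα]; field_simp; ring⟩
  have hw : ∀ x, w.1 x = !![0, 0, -α; 0, -1, 0; -α⁻¹, 0, 0] *ᵥ x := fun x => rfl
  have hw' : w ∈ SIsom (B3 σ) := by
    rw [mem_sisom, show (w.1 : (Fin 3 → F) →ₗ[F] (Fin 3 → F)) = toLin' !![0, 0, -α; 0, -1, 0; -α⁻¹, 0, 0] from rfl,
      LinearMap.det_toLin', det_fin_three]
    simp [h0]
  let k := h.eich hf (w := ![0, t, 0]) (c := d) (by simp [B3_apply]) hd.symm
  have hk : ∀ x, k.1 x = !![1, 0, 0; -t, 1, 0; -d, -σ t, 1] *ᵥ x := fun x => by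
    ext i; fin_cases i <;> simp [k, h.eich_apply hf _ hd.symm, B3_apply, mulVec, dotProduct, Fin.sum_univ_three, vecHead,
      vecTail] <;> ring
  have e : k * w⁻¹ * u * (k * w⁻¹)⁻¹ = v := by
    rw [mul_inv_eq_iff_eq_mul, ← mul_assoc, eq_mul_inv_iff_mul_eq, mul_assoc, mul_assoc]
    refine Subtype.ext (LinearEquiv.ext fun x => ?_)
    have e1 : w⁻¹.1 (u.1 (w.1 x)) = !![1, 0, 0; 1, 1, 0; γ / (α * α), 1, 1] *ᵥ x := by
      refine w.1.injective ?_
      show w.1 (w.1.symm _) = _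
      rw [LinearEquiv.apply_symm_apply, hu, hw, hw]
      ext i; fin_cases i <;> simp [mulVec, dotProduct, Fin.sum_univ_three] <;> field_simp <;> ring
    show k.1 (w⁻¹.1 (u.1 (w.1 x))) = v.1 (k.1 x)
    rw [e1, hv', hk, hk]
    ext i; fin_cases i <;> simp [mulVec, dotProduct, Fin.sum_univ_three]
    · ring
    · linear_combination (x 0) * ht
  have hN : ((u.1 : (Fin 3 → F) →ₗ[F] (Fin 3 → F)) - 1) = toLinAlgEquiv' !![0, α, γ; 0, 0, α; 0, 0, 0] := by
    refine LinearMap.ext fun x => ?_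
    rw [LinearMap.sub_apply, LinearEquiv.coe_coe, hu, toLinAlgEquiv'_apply]
    ext i; fin_cases i <;> simp [mulVec, dotProduct, Fin.sum_univ_three] <;> ring
  refine ⟨u, h.eich_mem_sisom _ _ _, k * w⁻¹, mul_mem (h.eich_mem_sisom _ _ _) (Subgroup.inv_mem _ hw'), 1, one_mem _, fun _ => rfl,
    ?_, fun e => ?_, ?_⟩
  · rw [hN, ← map_pow, map_eq_zero_iff _ (AlgEquiv.injective _)]
    ext i j; fin_cases i <;> fin_cases j <;> simp [pow_succ, Matrix.mul_apply, Fin.sum_univ_three]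
  · rw [hN, ← map_pow, map_eq_zero_iff _ (AlgEquiv.injective _)] at e
    have := congrFun (congrFun e 0) 2
    simp [pow_succ, Matrix.mul_apply, Fin.sum_univ_three, h0] at this
  rw [e]
  generalize hH : (Subgroup.closure _ : Subgroup (UIsom (B3 σ))) = H
  have mu : u ∈ H := hH ▸ Subgroup.subset_closure (by simp)
  have mv : v ∈ H := hH ▸ Subgroup.subset_closure (by simp)
  let S : Submonoid (Matrix (Fin 3) (Fin 3) F) :=
    { carrier := {M | ∃ g ∈ H, ∀ x, g.1 x = M *ᵥ x}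
      one_mem' := ⟨1, one_mem _, fun x => by simp⟩
      mul_mem' := by
        rintro _ _ ⟨g, hg, e⟩ ⟨g', hg', e'⟩
        exact ⟨g * g', mul_mem hg hg', fun x => by rw [← mulVec_mulVec, ← e', ← e]; rfl⟩ }
  obtain ⟨a, x, y, b, z, c, ⟨s, ms, es⟩, ha, hR⟩ := hs S ⟨u, mu, hu⟩ ⟨v, mv, hv'⟩
  let T : AddSubgroup F := (Au h H hv).comap (LinearMap.toSpanSingleton F _ ![0, 1, 0]).toAddMonoidHom
  have hT : ∀ ξ, ξ ∈ T := mulr_top (b := -α) (hR _ fun ξ ⟨c, hc⟩ => by
      have h1 := hc.conj ms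
      rw [show s.1 ![1, 0, 0] = a • ![1, 0, 0] by rw [es]; ext i; fin_cases i <;> simp] at h1
      refine Qu.ex ((h1.smul ha).mul (Qu.self hv (-(σ a * ξ * x)))) ?_
      rw [es]
      ext i; fin_cases i <;> simp [mulVec, dotProduct, Fin.sum_univ_three] <;> ring)
    (Qu.ex (x := ![0, -α, 0]) ⟨hv, _, _, mu⟩ (by ext i; fin_cases i <;> simp)) (neg_ne_zero.2 h0)
  refine le_of_fu (h := h) B3_sep (fu_of (w := ![0, 1, 0]) hv (fun x hx => ?_) (by simp [B3_apply]) (by simp [B3_apply])) mv ?_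
  · obtain ⟨c, hc⟩ := hT (x 1)
    refine Qu.ex (hc.mul (Qu.self hv (x 0))) ?_
    ext i; fin_cases i <;> simp_all [B3_apply]
  · rw [hv']
    simp [B3_apply]
    rintro rfl
    simp at hθ

theorem pu3_gen (hq : QConj σ q) (h2 : q ≠ 2) (h5 : q ≠ 5) (h8 : q ≠ 8) : PU (B3 σ) 2 True := by
  obtain ⟨ω, w0, hω⟩ := exists_prim F
  have hq2 := hq.two_le
  obtain ⟨p, rfl⟩ : ∃ p, q = p + 1 := ⟨q - 1, by omega⟩
  have ord : ∀ k, (ω ^ p) ^ k = 1 → p + 2 ∣ k := fun k e => by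
    have := prim_dvd w0 hω (pow_mul ω p k ▸ e)
    rw [hq.card, show (p + 1) ^ 2 - 1 = p * (p + 2) from Nat.sub_eq_of_eq_add (by ring)] at this
    exact Nat.dvd_of_mul_dvd_mul_left (by omega) this
  have h0 : ω ^ p ≠ 0 := pow_ne_zero _ w0
  have hl : σ (ω ^ p) = (ω ^ p)⁻¹ := by
    have := hq.invol ω
    rw [hq.eq ω, pow_succ, map_mul, hq.eq ω, pow_succ] at this
    field_simp
    exact mul_right_cancel₀ w0 (by linear_combination this)
  generalize ω ^ p = l at ord h0 hl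
  have h1 : 1 + l ≠ 0 := fun e => by
    have := Nat.le_of_dvd two_pos (ord 2 (by rw [show l = -1 by linear_combination e]; norm_num))
    omega
  have h1' : l + 1 ≠ 0 := by rwa [add_comm]
  refine mkPU3 hq (α := -(1 + l) ^ 2 / l) (γ := (2 * l ^ 2 + l + 1) * (1 + l) / l ^ 2) (θ := l / (1 + l)) (by simp [h0, h1])
    (by simp [hl]; field_simp; ring) (by simp [hl, map_ofNat]; field_simp; ring) (by simp [hl]; field_simp; ring) fun S hU hV =>
    ⟨l, -(1 + l) ^ 2 / l + (2 * l ^ 2 + l + 1) * (1 + l) / l ^ 2, (2 * l ^ 2 + l + 1) * (1 + l) / l ^ 2, (l ^ 2)⁻¹,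
      -(1 + l) ^ 2 / l + (2 * l ^ 2 + l + 1) * (1 + l) / l ^ 2, l, ?_, h0, fun R hR => ?_⟩
  · convert S.mul_mem (S.mul_mem hV hU) hV using 1
    ext i j; fin_cases i <;> fin_cases j <;> simp [Matrix.mul_apply, Fin.sum_univ_three] <;> field_simp <;> ring
  by_contra hne
  obtain ⟨r, d, hr, hd, hc, h3, -⟩ := sub_proper hne
  have h4 := h3 (l ^ 3) (by convert subring_inv hR using 1; rw [hl]; field_simp)
  obtain ⟨s, rfl⟩ : ∃ s, r = s + 1 := ⟨r - 1, by omega⟩
  rw [pow_succ, mul_eq_right₀ (pow_ne_zero _ h0), ← pow_mul] at h4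
  have h6 := ord _ h4
  rw [hq.card] at hc
  by_cases h7 : d = 2
  · subst h7
    have : p = s := by have := Nat.pow_left_injective two_ne_zero hc; omega
    subst this
    have h9 : p + 2 ∣ 6 := (Nat.dvd_add_right h6).1 ⟨3, by ring⟩
    have := Nat.le_of_dvd (by omega) h9
    have : p ≤ 4 := by omega
    interval_cases p <;> omega
  · have h9 : (s + 1) ^ 3 ≤ (p + 1) ^ 2 := hc ▸ Nat.pow_le_pow_right (by omega) (by omega)
    have h10 : s + 1 ∣ (p + 1) ^ 2 := hc ▸ dvd_pow_self _ (by omega)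
    have h11 := Nat.le_of_dvd (by omega) h6
    have h12 : s ≤ 5 := by
      by_contra h12
      have : (p + 1) ^ 2 ≤ (3 * s) ^ 2 := Nat.pow_le_pow_left (by omega) 2
      have : (s + 1) ^ 3 ≤ (3 * s - 1) ^ 2 := h9.trans (Nat.pow_le_pow_left (by omega) 2)
      obtain ⟨t, rfl⟩ : ∃ t, s = t + 6 := ⟨s - 6, by omega⟩
      rw [show 3 * (t + 6) - 1 = 3 * t + 17 by omega] at this
      nlinarith [Nat.zero_le (t ^ 3), Nat.zero_le (t ^ 2)]
    have : p ≤ 13 := by omega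
    interval_cases s <;> interval_cases p <;> omega

theorem pu3_model (hq : QConj σ q) {K : Type*} [Field K] (hK : Nat.card K = q ^ 2) {α γ θ a x y b z c : K} (h0 : α ≠ 0)
    (hα : α ^ q = α) (hγ : γ + γ ^ q = α * α) (hθ : θ + θ ^ q = 1) (l : List Bool)
    (hl : (l.map fun c => cond c !![1, α, γ; 0, 1, α; 0, 0, 1] !![1, 0, 0; 1, 1, 0; θ, 1, 1]).prod = !![a, x, y; 0, b, z; 0, 0, c])
    (ha : a ≠ 0) (hμ : ∀ r : Fin (q + 1), 2 ≤ r.val → (a ^ q * b) ^ r.val ≠ a ^ q * b) : PU (B3 σ) 2 True := by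
  haveI : Finite K := Nat.finite_of_card_ne_zero (by rw [hK, ← hq.card]; exact Nat.card_pos.ne')
  cases nonempty_fintype K
  cases nonempty_fintype F
  let e : K ≃+* F := FiniteField.ringEquivOfCardEq (by simpa [← hK] using hq.card.symm)
  refine mkPU3 hq (α := e α) (γ := e γ) (θ := e θ) (by simpa using h0) (by rw [hq.eq, ← map_pow, hα])
    (by rw [hq.eq, ← map_pow, ← map_add, hγ, map_mul]) (by rw [hq.eq, ← map_pow, ← map_add, hθ, map_one]) fun S hU hV =>
    ⟨e a, e x, e y, e b, e z, e c, ?_, by simpa using ha, fun R hR => ?_⟩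
  · have := word_mem (S := S.comap (e : K →+* F).mapMatrix) (a := !![1, α, γ; 0, 1, α; 0, 0, 1])
      (b := !![1, 0, 0; 1, 1, 0; θ, 1, 1]) (by
        rw [Submonoid.mem_comap]; convert hU using 1
        ext i j; fin_cases i <;> fin_cases j <;> simp) (by
        rw [Submonoid.mem_comap]; convert hV using 1
        ext i j; fin_cases i <;> fin_cases j <;> simp) l
    rw [hl, Submonoid.mem_comap] at this
    convert this using 1
    ext i j; fin_cases i <;> fin_cases j <;> simp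
  by_contra hne
  obtain ⟨r, d, hr, hd, hc, h3, -⟩ := sub_proper hne
  have h4 := h3 _ hR
  rw [hq.eq, ← map_pow, ← map_mul, ← map_pow, e.injective.eq_iff] at h4
  have h5 : r ^ 2 ≤ q ^ 2 := by rw [← hq.card, hc]; exact Nat.pow_le_pow_right (by omega) hd
  exact hμ ⟨r, Nat.lt_succ_of_le ((Nat.pow_le_pow_iff_left two_ne_zero).1 h5)⟩ hr h4

local instance factFive : Fact (Nat.Prime 5) := ⟨by norm_num⟩
local instance factF25 : Fact (∀ r : ZMod 5, r ^ 2 ≠ 4 + 4 * r) := ⟨by decide⟩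

theorem pu3_five (hq : QConj σ 5) : PU (B3 σ) 2 True :=
  pu3_model hq (K := QuadraticAlgebra (ZMod 5) 4 4) (by rw [Nat.card_congr (QuadraticAlgebra.equivProd _ _)]; simp)
    (α := 1) (γ := ⟨0, 4⟩) (θ := ⟨3, 0⟩) (a := ⟨3, 1⟩) (x := ⟨1, 1⟩) (y := ⟨3, 4⟩) (b := ⟨4, 0⟩) (z := ⟨2, 1⟩) (c := ⟨4, 3⟩)
    (by decide) (by decide +kernel) (by decide +kernel) (by decide +kernel) [false, true, false, true, true, false, false]
    (by decide +kernel) (by decide) (by decide +kernel)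

/-- the field with eight elements -/
def E8 := Fin 8

namespace E8

instance : DecidableEq E8 := inferInstanceAs (DecidableEq (Fin 8))
instance : Fintype E8 := inferInstanceAs (Fintype (Fin 8))
def mk (n : ℕ) : E8 := Fin.ofNat 8 n
instance : Zero E8 := ⟨mk 0⟩
instance : One E8 := ⟨mk 1⟩
instance : Add E8 := ⟨fun a b => mk (Nat.xor a.val b.val)⟩
instance : Neg E8 := ⟨id⟩
instance : Mul E8 := ⟨fun a b => mk (Nat.shiftRight 2821848294356612419217921029917578219971947684264937521152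
  (Nat.mul 3 (Nat.add (Nat.mul 8 a.val) b.val)))⟩
instance : Inv E8 := ⟨fun a => mk (Nat.shiftRight 9272648 (Nat.mul 3 a.val))⟩
instance (p : E8 → Prop) [h : DecidablePred p] : Decidable (∀ a, p a) := @Nat.decidableForallFin 8 p h

instance : Field E8 := Field.ofMinimalAxioms E8 (by decide +kernel) (by decide +kernel) (by decide +kernel)
  (by decide +kernel) (by decide +kernel) (by decide +kernel) (by decide +kernel) (by decide +kernel)
  (by decide +kernel) ⟨0, 1, by decide⟩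

instance factF64 : Fact (∀ r : E8, r ^ 2 ≠ 1 + 1 * r) := ⟨by decide +kernel⟩

end E8

open E8 in
theorem pu3_eight (hq : QConj σ 8) : PU (B3 σ) 2 True :=
  pu3_model hq (K := QuadraticAlgebra E8 1 1)
    (by rw [Nat.card_congr (QuadraticAlgebra.equivProd _ _), Nat.card_prod, Nat.card_eq_fintype_card]; rfl)
    (α := ⟨mk 2, 0⟩) (γ := ⟨mk 2, mk 4⟩) (θ := ⟨mk 7, 1⟩) (a := ⟨1, mk 4⟩) (x := ⟨1, 1⟩) (y := ⟨1, mk 5⟩) (b := ⟨mk 6, mk 2⟩)
    (z := ⟨mk 5, mk 6⟩) (c := ⟨mk 6, mk 5⟩)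
    (by decide +kernel) (by decide +kernel) (by decide +kernel) (by decide +kernel)
    [false, true, false, true, true, false, false, false] (by decide +kernel) (by decide +kernel) (by decide +kernel)

theorem pu3 (hq : QConj σ q) (h2 : q ≠ 2) : PU (B3 σ) 2 True := by
  by_cases h5 : q = 5
  · subst h5; exact pu3_five hq
  by_cases h8 : q = 8
  · subst h8; exact pu3_eight hq
  exact pu3_gen hq h2 h5 h8

end Cfsg.Agent.H19.RU
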