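import Mathlib
import Cfsg.Agent.H19.Special

/-! Abstract root subgroups: basic theory (Timmesfeld, chapter II, section 2).

The basic lemmas are proved under a weak form `WR` of the axioms, which is all that is known at first for the
root subgroups of a quadratic pair. -/

namespace Cfsg.Agent.H19

open Cfsg
open scoped commutatorElement

variable {G : Type*} [Group G] {S : Set (Subgroup G)} {A B C D E : Subgroup G}

/-- weak root subgroup axioms: for a pair that is not a rank one pair the conjugates commute -/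
structure WR (S : Set (Subgroup G)) : Prop where
  comm : ∀ A ∈ S, Comm A A
  ne_bot : ∀ A ∈ S, A ≠ ⊥
  cj_mem : ∀ A ∈ S, ∀ B ∈ S, ∀ b ∈ B, cj b A ∈ S
  pair : ∀ A ∈ S, ∀ B ∈ S, IsRankOnePair A B ∨ ∀ a ∈ A, Comm B (cj a B)

namespace WR

theorem cj_mem_sup (hS : WR S) (hA : A ∈ S) (hB : B ∈ S) {x : G} (hx : x ∈ A ⊔ B) :
    ∀ C ∈ S, cj x C ∈ S := by
  refine sup_induction (p := fun x => ∀ C ∈ S, cj x C ∈ S) ?_ ?_ ?_ hx
  · intro a ha C hC; exact hS.cj_mem C hC A hA a ha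
  · intro a ha C hC; exact hS.cj_mem C hC B hB a ha
  · intro x y hx hy C hC; rw [cj_mul]; exact hx _ (hy _ hC)

theorem unip_mem (hS : WR S) (hA : A ∈ S) (hB : B ∈ S) (hC : C ∈ unipotentSubgroups A B) :
    C ∈ S := by
  obtain ⟨x, hx, rfl⟩ := RO.mem_unip.1 hC
  exact hS.cj_mem_sup hA hB hx A hA

/-- if an element `e` of a member `E` moves `B` to a partner of `B`, then `E` is a partner -/
theorem ro_of_cj (hS : WR S) (hE : E ∈ S) (hB : B ∈ S) {e : G} (he : e ∈ E)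
    (h : ¬ Comm B (cj e B)) : IsRankOnePair E B :=
  (hS.pair E hE B hB).resolve_right fun h' => h (h' e he)

/-- if `e ∈ E` acts on `B` like a non-trivial element of the partner `A` then `E` is unipotent in `⟨A, B⟩` -/
theorem unip_of_cj (hS : WR S) (h : IsRankOnePair A B) (hE : E ∈ S) (hB : B ∈ S) {e a : G}
    (he : e ∈ E) (ha : a ∈ A) (ha1 : a ≠ 1) (hea : cj e B = cj a B) :
    IsRankOnePair E B ∧ E ⊔ B = A ⊔ B ∧ E ∈ unipotentSubgroups A B := by
  have h1 : IsRankOnePair E B :=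
    hS.ro_of_cj hE hB he (by rw [hea]; exact RO.not_comm (RO.pair_cj h ha ha1))
  have he1 : e ≠ 1 := by
    rintro rfl
    exact ha1 (RO.eq_one h ha (by rw [← hea, cj_one]))
  have h2 : E ⊔ B = A ⊔ B := by rw [← RO.sup_cj h1 he he1, hea, RO.sup_cj h ha ha1]
  refine ⟨h1, h2, ?_⟩
  have h3 := RO.unip_of_unip h1 (RO.right_mem_unip h1) (RO.cj_right_mem_unip h1 he)
    (RO.pair_cj h1 he he1).ne
  have h4 := RO.unip_of_unip h (RO.right_mem_unip h) (RO.cj_right_mem_unip h ha)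
    (RO.pair_cj h ha ha1).ne
  rw [← h4, ← hea, h3]
  exact RO.left_mem_unip

/-- Timmesfeld II (2.3) -/
theorem not_mem_of_central (hS : WR S) (h : IsRankOnePair A B) (hB : B ∈ S) {z a : G}
    (hzA : ∀ x ∈ A, z * x = x * z) (hzB : ∀ x ∈ B, z * x = x * z) (ha : a ∈ A) (ha1 : a ≠ 1)
    (hE : E ∈ S) (hza : z * a ∈ E) : z = 1 := by
  have hz := commute_sup hzA hzB
  have e : cj (z * a) B = cj a B := by
    rw [hzA a ha, cj_mul, cj_eq_self_of_forall_commute hzB]
  obtain ⟨h1, h2, h3⟩ := hS.unip_of_cj h hE hB hza ha ha1 e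
  by_cases hEA : E = A
  · subst hEA
    have : z ∈ E := by simpa using E.mul_mem hza (E.inv_mem ha)
    exact RO.eq_one_of_commute h this hzB
  · have h4 := RO.of_unip h h3 RO.left_mem_unip hEA
    have h5 : z * a = 1 := RO.eq_one h4 hza (by
      rw [cj_mul, cj_of_mem ha, cj_eq_self_of_forall_commute hzA])
    have : z ∈ A := by rw [eq_inv_of_mul_eq_one_left h5]; exact A.inv_mem ha
    exact RO.eq_one_of_commute h this hzB

/-- trivial intersection -/
theorem eq_of_mem (hS : WR S) (h : IsRankOnePair A C) (hC : C ∈ S) (hB : B ∈ S) {a : G}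
    (ha : a ∈ A) (ha1 : a ≠ 1) (haB : a ∈ B) : A = B := by
  obtain ⟨-, -, h3⟩ := hS.unip_of_cj h hB hC haB ha ha1 rfl
  exact RO.unip_eq_of_mem h RO.left_mem_unip h3 ha ha1 haB

/-- an element centralizing a non-trivial element of a non-isolated member normalizes it -/
theorem cj_eq_of_commute (hS : WR S) (h : IsRankOnePair A C) (hC : C ∈ S) {g a : G}
    (hg : cj g A ∈ S) (ha : a ∈ A) (ha1 : a ≠ 1) (e : g * a = a * g) : cj g A = A := by
  refine (hS.eq_of_mem h hC hg ha ha1 ?_).symm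
  rw [mem_cj, mul_assoc, ← e]; simpa using ha

theorem le_unip (hS : WR S) (hA : A ∈ S) (hC : C ∈ S) (hD : D ∈ S) (h : IsRankOnePair C D)
    (hle : A ≤ C ⊔ D) : A ∈ unipotentSubgroups C D ∨ Comm A (C ⊔ D) := by
  by_cases hc : ∃ E ∈ unipotentSubgroups C D, IsRankOnePair A E
  · left
    obtain ⟨E, hE, hAE⟩ := hc
    obtain ⟨w, hw, -, e⟩ := RO.ex_swap hAE
    rw [← e]
    exact RO.cj_mem_unip hE ((sup_le hle (RO.unip_le hE) : A ⊔ E ≤ _) hw)
  · right
    push Not at hc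
    have hfix : ∀ a ∈ A, ∀ E ∈ unipotentSubgroups C D, cj a E = E := by
      intro a ha E hE
      have h1 := (hS.pair A hA E (hS.unip_mem hC hD hE)).resolve_left (hc E hE) a ha
      by_contra hne
      exact RO.not_comm (RO.of_unip h hE (RO.cj_mem_unip hE (hle ha)) (Ne.symm hne)) h1
    have key : ∀ {C D : Subgroup G}, IsRankOnePair C D →
        (∀ a ∈ A, ∀ E ∈ unipotentSubgroups C D, cj a E = E) → Comm A C := by
      intro C D h hfix a ha c hc
      have h1 : a * c * a⁻¹ ∈ C := by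
        rw [← hfix a ha C RO.left_mem_unip]; exact conj_mem_cj a hc
      have h2 : a * c * a⁻¹ = c := by
        apply RO.eq_of_cj_eq h h1 hc
        rw [cj_mul, cj_mul, cj_inv_eq_self (hfix a ha D (RO.right_mem_unip h)),
          hfix a ha _ (RO.cj_right_mem_unip h hc)]
      calc a * c = (a * c * a⁻¹) * a := by group
        _ = c * a := by rw [h2]
    exact (key h hfix).sup_right (key (RO.symm h) (by rw [RO.unip_symm h]; exact hfix))

end WR

/-! ### the commutator case -/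

/-- the commutator case in usable form -/
structure CC (S : Set (Subgroup G)) (A B : Subgroup G) : Prop where
  mem : ⁅A, B⁆ ∈ S
  commA : Comm ⁅A, B⁆ A
  commB : Comm ⁅A, B⁆ B
  surjB : ∀ a ∈ A, a ≠ 1 → ∀ c ∈ ⁅A, B⁆, ∃ b ∈ B, c = ⁅a, b⁆
  surjA : ∀ b ∈ B, b ≠ 1 → ∀ c ∈ ⁅A, B⁆, ∃ a ∈ A, c = ⁅a, b⁆

theorem comm_mul_right {a b b' : G} (h : ⁅a, b'⁆ * b = b * ⁅a, b'⁆) :
    ⁅a, b * b'⁆ = ⁅a, b⁆ * ⁅a, b'⁆ := by
  calc ⁅a, b * b'⁆ = ⁅a, b⁆ * (b * ⁅a, b'⁆) * b⁻¹ := by simp only [commutatorElement_def]; group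
    _ = ⁅a, b⁆ * (⁅a, b'⁆ * b) * b⁻¹ := by rw [h]
    _ = _ := by group

theorem comm_mul_left {a a' b : G} (h : ⁅a', b⁆ * a = a * ⁅a', b⁆) :
    ⁅a * a', b⁆ = ⁅a', b⁆ * ⁅a, b⁆ := by
  calc ⁅a * a', b⁆ = (a * ⁅a', b⁆) * a⁻¹ * ⁅a, b⁆ := by simp only [commutatorElement_def]; group
    _ = (⁅a', b⁆ * a) * a⁻¹ * ⁅a, b⁆ := by rw [h]
    _ = _ := by group

theorem comm_inv_right {a b : G} (h : ⁅a, b⁆ * b = b * ⁅a, b⁆) : ⁅a, b⁻¹⁆ = ⁅a, b⁆⁻¹ := by
  have h' : Commute ⁅a, b⁆ b := h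
  calc ⁅a, b⁻¹⁆ = b⁻¹ * ⁅a, b⁆⁻¹ * b := by simp only [commutatorElement_def]; group
    _ = b⁻¹ * (b * ⁅a, b⁆⁻¹) := by rw [mul_assoc, h'.inv_left.eq]
    _ = _ := by group

theorem comm_inv_left {a b : G} (h : ⁅a, b⁆ * a = a * ⁅a, b⁆) : ⁅a⁻¹, b⁆ = ⁅a, b⁆⁻¹ := by
  have h' : Commute ⁅a, b⁆ a := h
  calc ⁅a⁻¹, b⁆ = a⁻¹ * ⁅a, b⁆⁻¹ * a := by simp only [commutatorElement_def]; group
    _ = a⁻¹ * (a * ⁅a, b⁆⁻¹) := by rw [mul_assoc, h'.inv_left.eq]
    _ = _ := by group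

theorem cc_iff : RootCommutatorCase S A B ↔ CC S A B := by
  constructor
  · rintro ⟨h1, h2, h3, h4⟩
    have cA : Comm ⁅A, B⁆ A := fun c hc a ha => h2 c hc a (Subgroup.mem_sup_left ha)
    have cB : Comm ⁅A, B⁆ B := fun c hc a ha => h2 c hc a (Subgroup.mem_sup_right ha)
    refine ⟨h1, cA, cB, ?_, ?_⟩
    · intro a ha ha1 c hc
      rw [← h3 a ha ha1] at hc
      induction hc using Subgroup.closure_induction with
      | mem x hx => obtain ⟨b, hb, rfl⟩ := hx; exact ⟨b, hb, rfl⟩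
      | one => exact ⟨1, B.one_mem, by simp⟩
      | mul x y _ _ hx hy =>
        obtain ⟨b, hb, rfl⟩ := hx
        obtain ⟨b', hb', rfl⟩ := hy
        exact ⟨b * b', B.mul_mem hb hb',
          (comm_mul_right (cB _ (Subgroup.commutator_mem_commutator ha hb') b hb)).symm⟩
      | inv x _ hx =>
        obtain ⟨b, hb, rfl⟩ := hx
        exact ⟨b⁻¹, B.inv_mem hb,
          (comm_inv_right (cB _ (Subgroup.commutator_mem_commutator ha hb) b hb)).symm⟩
    · intro b hb hb1 c hc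
      rw [← h4 b hb hb1] at hc
      induction hc using Subgroup.closure_induction with
      | mem x hx => obtain ⟨a, ha, rfl⟩ := hx; exact ⟨a, ha, rfl⟩
      | one => exact ⟨1, A.one_mem, by simp⟩
      | mul x y _ _ hx hy =>
        obtain ⟨a, ha, rfl⟩ := hx
        obtain ⟨a', ha', rfl⟩ := hy
        exact ⟨a' * a, A.mul_mem ha' ha,
          (comm_mul_left (cA _ (Subgroup.commutator_mem_commutator ha hb) a' ha')).symm⟩
      | inv x _ hx =>
        obtain ⟨a, ha, rfl⟩ := hx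
        exact ⟨a⁻¹, A.inv_mem ha,
          (comm_inv_left (cA _ (Subgroup.commutator_mem_commutator ha hb) a ha)).symm⟩
  · intro h
    refine ⟨h.mem, fun c hc x hx => (h.commA.sup_right h.commB) c hc x hx, ?_, ?_⟩
    · intro a ha ha1
      apply le_antisymm
      · rw [Subgroup.closure_le]
        rintro _ ⟨b, hb, rfl⟩
        exact Subgroup.commutator_mem_commutator ha hb
      · intro c hc
        obtain ⟨b, hb, rfl⟩ := h.surjB a ha ha1 c hc
        exact Subgroup.subset_closure ⟨b, hb, rfl⟩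
    · intro b hb hb1
      apply le_antisymm
      · rw [Subgroup.closure_le]
        rintro _ ⟨a, ha, rfl⟩
        exact Subgroup.commutator_mem_commutator ha hb
      · intro c hc
        obtain ⟨a, ha, rfl⟩ := h.surjA b hb hb1 c hc
        exact Subgroup.subset_closure ⟨a, ha, rfl⟩

theorem CC.symm (h : CC S A B) : CC S B A := by
  have e : ⁅B, A⁆ = ⁅A, B⁆ := Subgroup.commutator_comm _ _
  refine ⟨e ▸ h.mem, e ▸ h.commB, e ▸ h.commA, ?_, ?_⟩
  · intro b hb hb1 c hc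
    rw [e] at hc
    obtain ⟨a, ha, e1⟩ := h.surjA b hb hb1 _ (Subgroup.inv_mem _ hc)
    exact ⟨a, ha, by rw [← commutatorElement_inv, ← e1, inv_inv]⟩
  · intro a ha ha1 c hc
    rw [e] at hc
    obtain ⟨b, hb, e1⟩ := h.surjB a ha ha1 _ (Subgroup.inv_mem _ hc)
    exact ⟨b, hb, by rw [← commutatorElement_inv, ← e1, inv_inv]⟩

theorem conj_eq_comm_mul (a b : G) : a * b * a⁻¹ = ⁅a, b⁆ * b := by
  rw [commutatorElement_def]; group

theorem cj_le_sup_commutator {a : G} (ha : a ∈ A) : cj a B ≤ B ⊔ ⁅A, B⁆ := by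
  intro x hx
  obtain ⟨b, hb, rfl⟩ := exists_of_mem_cj hx
  rw [conj_eq_comm_mul]
  exact Subgroup.mul_mem _ (Subgroup.mem_sup_right (Subgroup.commutator_mem_commutator ha hb))
    (Subgroup.mem_sup_left hb)

theorem wr_of_root (hS : IsRootSubgroupSet S) : WR S := by
  refine ⟨fun A hA => comm_self_iff.2 (hS.commutative A hA), hS.ne_bot,
    fun A hA B _ b _ => hS.conj_mem A hA b, fun A hA B hB => ?_⟩
  have hBB : Comm B B := comm_self_iff.2 (hS.commutative B hB)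
  rcases hS.pair A hA B hB with h | h | h
  · right
    intro a ha
    rw [(comm_iff.2 h).cj_eq ha]; exact hBB
  · exact Or.inl h
  · right
    intro a ha
    exact (hBB.sup_right (cc_iff.1 h).commB.symm).mono le_rfl (cj_le_sup_commutator ha)

namespace Root

theorem cj_mem (hS : IsRootSubgroupSet S) (hA : A ∈ S) (g : G) : cj g A ∈ S := hS.conj_mem A hA g

theorem comm (hS : IsRootSubgroupSet S) (hA : A ∈ S) : Comm A A :=
  comm_self_iff.2 (hS.commutative A hA)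

theorem cases (hS : IsRootSubgroupSet S) (hA : A ∈ S) (hB : B ∈ S) :
    Comm A B ∨ IsRankOnePair A B ∨ CC S A B := by
  rcases hS.pair A hA B hB with h | h | h
  exacts [Or.inl (comm_iff.2 h), Or.inr (Or.inl h), Or.inr (Or.inr (cc_iff.1 h))]

theorem cc_not_comm (hS : IsRootSubgroupSet S) (h : CC S A B) : ¬ Comm A B :=
  fun hc => hS.ne_bot _ h.mem (comm_iff.1 hc)

theorem cc_not_ro (hS : IsRootSubgroupSet S) (hB : B ∈ S) (h : CC S A B) :
    ¬ IsRankOnePair A B := by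
  intro hr
  obtain ⟨a, ha, ha1⟩ := exists_ne_one_of_ne_bot (RO.ne_bot_left hr)
  exact ha1 (RO.eq_one_of_comm_cj hr ha
    (((comm hS hB).sup_right h.commB.symm).mono le_rfl (cj_le_sup_commutator ha)))

theorem comm_cj_of_not_ro (hS : IsRootSubgroupSet S) (hA : A ∈ S) (hB : B ∈ S)
    (h : ¬ IsRankOnePair A B) {a : G} (ha : a ∈ A) : Comm B (cj a B) :=
  ((wr_of_root hS).pair A hA B hB).resolve_left h a ha

theorem cj_commutator_self {x : G} (hx : x ∈ A ⊔ B) : cj x ⁅A, B⁆ = ⁅A, B⁆ := by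
  refine cj_eq_self_of_mem_sup (fun a ha => ?_) (fun b hb => ?_) hx
  · exact cj_eq_self_iff.2 (Subgroup.normalizer_commutator_ge_left A B ha)
  · exact cj_eq_self_iff.2 (Subgroup.normalizer_commutator_ge_right A B hb)

/-- `[A, B] ∈ Σ` forces the commutator case -/
theorem cc_of_mem (hS : IsRootSubgroupSet S) (hA : A ∈ S) (hB : B ∈ S) (hC : ⁅A, B⁆ ∈ S) :
    CC S A B := by
  rcases cases hS hA hB with h | h | h
  · exact absurd (comm_iff.1 h) (hS.ne_bot _ hC)
  · exfalso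
    have hle : ⁅A, B⁆ ≤ A ⊔ B := by
      rw [Subgroup.commutator_le]
      intro a ha b hb
      have ha' : a ∈ A ⊔ B := Subgroup.mem_sup_left ha
      have hb' : b ∈ A ⊔ B := Subgroup.mem_sup_right hb
      exact Subgroup.mul_mem _ (Subgroup.mul_mem _ (Subgroup.mul_mem _ ha' hb')
        (Subgroup.inv_mem _ ha')) (Subgroup.inv_mem _ hb')
    obtain ⟨a, ha, ha1⟩ := exists_ne_one_of_ne_bot (RO.ne_bot_left h)
    rcases (wr_of_root hS).le_unip hC hA hB h hle with h1 | h1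
    · by_cases e : ⁅A, B⁆ = A
      · obtain ⟨b, hb, hb1⟩ := exists_ne_one_of_ne_bot (RO.ne_bot_right h)
        apply hb1
        apply RO.eq_one (RO.symm h) hb
        rw [← e, cj_commutator_self (Subgroup.mem_sup_right hb)]
      · exact ha1 (RO.eq_one (RO.of_unip h RO.left_mem_unip h1 (Ne.symm e)) ha
          (cj_commutator_self (Subgroup.mem_sup_left ha)))
    · exact ha1 (RO.eq_one_of_comm_cj h ha
        (((comm hS hB).sup_right (h1.mono le_rfl le_sup_right).symm).mono le_rfl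
          (cj_le_sup_commutator ha)))
  · exact h

theorem cc_cj (hS : IsRootSubgroupSet S) (hA : A ∈ S) (hB : B ∈ S) (h : CC S A B) (g : G) :
    CC S (cj g A) (cj g B) :=
  cc_of_mem hS (cj_mem hS hA g) (cj_mem hS hB g) (by rw [← cj_commutator]; exact cj_mem hS h.mem g)

/-- not isolated in the graph `𝓕(Σ)` -/
def NI (S : Set (Subgroup G)) (A : Subgroup G) : Prop := ∃ B ∈ S, IsRankOnePair A B

theorem ni_iff (hA : A ∈ S) : ¬ IsIsolatedIn (FAdj S) S A ↔ NI S A := by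
  constructor
  · intro h
    by_contra hc
    apply h
    refine ⟨hA, fun B => ⟨fun h' => hc ⟨B, h'.2.1, h'.2.2⟩, fun h' => hc ⟨B, h'.1, RO.symm h'.2.2⟩⟩⟩
  · rintro ⟨B, hB, h⟩ h'
    exact (h'.2 B).1 ⟨hA, hB, h⟩

theorem NI.cj (hS : IsRootSubgroupSet S) (h : NI S A) (g : G) : NI S (cj g A) := by
  obtain ⟨B, hB, h⟩ := h
  exact ⟨H19.cj g B, cj_mem hS hB g, RO.cj_pair h g⟩

theorem ti (hS : IsRootSubgroupSet S) (hA : NI S A) (hB : B ∈ S) {a : G} (ha : a ∈ A)
    (ha1 : a ≠ 1) (haB : a ∈ B) : A = B := by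
  obtain ⟨C, hC, h⟩ := hA
  exact (wr_of_root hS).eq_of_mem h hC hB ha ha1 haB

theorem central (hS : IsRootSubgroupSet S) (h : IsRankOnePair A B) (hB : B ∈ S) {z a : G}
    (hzA : ∀ x ∈ A, z * x = x * z) (hzB : ∀ x ∈ B, z * x = x * z) (ha : a ∈ A) (ha1 : a ≠ 1)
    (hE : E ∈ S) (hza : z * a ∈ E) : z = 1 :=
  (wr_of_root hS).not_mem_of_central h hB hzA hzB ha ha1 hE hza

theorem cc_inf (hS : IsRootSubgroupSet S) (h : CC S A B) {a : G} (ha : a ∈ A)
    (hc : a ∈ ⁅A, B⁆) : a = 1 := by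
  by_contra ha1
  apply hS.ne_bot _ h.mem
  rw [Subgroup.eq_bot_iff_forall]
  intro c hc'
  obtain ⟨b, hb, rfl⟩ := h.surjB a ha ha1 c hc'
  exact commutatorElement_eq_one_iff_mul_comm.2 (h.commB a hc b hb)

theorem cc_ne (hS : IsRootSubgroupSet S) (hA : A ∈ S) (h : CC S A B) : ⁅A, B⁆ ≠ A := by
  intro e
  obtain ⟨a, ha, ha1⟩ := exists_ne_one_of_ne_bot (hS.ne_bot A hA)
  exact ha1 (cc_inf hS h ha (e.symm ▸ ha))

/-- in the commutator case with `A` not isolated, non-trivial elements do not commute -/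
theorem cc_inj (hS : IsRootSubgroupSet S) (hA : A ∈ S) (hNI : NI S A) (h : CC S A B) {a b : G}
    (ha : a ∈ A) (ha1 : a ≠ 1) (hb : b ∈ B) (e : a * b = b * a) : b = 1 := by
  by_contra hb1
  have h1 : A = cj b A := ti hS hNI (cj_mem hS hA b) ha ha1 (by
    rw [mem_cj, mul_assoc, e]; simpa using ha)
  apply hS.ne_bot _ h.mem
  rw [Subgroup.eq_bot_iff_forall]
  intro c hc
  obtain ⟨a', ha', e'⟩ := h.surjA b hb hb1 c hc
  apply cc_inf hS h _ hc
  rw [e', commutatorElement_def, mul_assoc, mul_assoc]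
  apply A.mul_mem ha'
  rw [h1, ← mul_assoc]
  exact conj_mem_cj b (A.inv_mem ha')

theorem cj_sup_cc (h : CC S A B) {b : G} (hb : b ∈ B) : cj b A ⊔ ⁅A, B⁆ = A ⊔ ⁅A, B⁆ := by
  have e : ⁅B, A⁆ = ⁅A, B⁆ := Subgroup.commutator_comm _ _
  have h1 : cj b (A ⊔ ⁅A, B⁆) = A ⊔ ⁅A, B⁆ := by
    have key : ∀ b ∈ B, cj b (A ⊔ ⁅A, B⁆) ≤ A ⊔ ⁅A, B⁆ := by
      intro b hb
      rw [cj_sup, h.commB.symm.cj_eq hb]
      exact sup_le (e ▸ cj_le_sup_commutator hb) le_sup_right
    apply le_antisymm (key b hb)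
    have := cj_mono b (key b⁻¹ (B.inv_mem hb))
    rwa [cj_cj_inv] at this
  rw [← h1, cj_sup, h.commB.symm.cj_eq hb]

theorem sup_cj_cc (h : CC S A B) {b : G} (hb : b ∈ B) (hb1 : b ≠ 1) :
    A ⊔ cj b A = A ⊔ ⁅A, B⁆ := by
  apply le_antisymm
  · exact sup_le le_sup_left (Subgroup.commutator_comm B A ▸ cj_le_sup_commutator hb)
  · refine sup_le le_sup_left fun c hc => ?_
    obtain ⟨a, ha, rfl⟩ := h.surjA b hb hb1 c hc
    rw [commutatorElement_def, mul_assoc, mul_assoc]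
    refine Subgroup.mul_mem _ (Subgroup.mem_sup_left ha) (Subgroup.mem_sup_right ?_)
    rw [← mul_assoc]
    exact conj_mem_cj b (A.inv_mem ha)

theorem commutator_cj_cc (h : CC S A B) {b : G} (hb : b ∈ B) : ⁅cj b A, B⁆ = ⁅A, B⁆ := by
  conv_lhs => rw [← cj_of_mem hb, ← cj_commutator]
  exact h.commB.symm.cj_eq hb

/-- elements of `A [A, B]` outside `[A, B]` lie in conjugates of `A` -/
theorem cc_cover (h : CC S A B) {x : G} (hx : x ∈ A ⊔ ⁅A, B⁆) :
    x ∈ ⁅A, B⁆ ∨ ∃ b ∈ B, x ∈ cj b A := by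
  obtain ⟨a, ha, c, hc, rfl⟩ := h.commA.symm.mem_sup hx
  by_cases ha1 : a = 1
  · left; simpa [ha1] using hc
  · right
    obtain ⟨b, hb, e⟩ := h.symm.surjA a ha ha1 c (Subgroup.commutator_comm A B ▸ hc)
    refine ⟨b, hb, ?_⟩
    rw [← h.commA c hc a ha, e, ← conj_eq_comm_mul]
    exact conj_mem_cj b ha

/-- the members of `Σ` in `A [A, B]` -/
theorem cc_members (hS : IsRootSubgroupSet S) (hA : A ∈ S) (hNI : NI S A) (h : CC S A B)
    (hE : E ∈ S) (hle : E ≤ A ⊔ ⁅A, B⁆) : E = ⁅A, B⁆ ∨ ∃ b ∈ B, E = cj b A := by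
  by_cases hc : E ≤ ⁅A, B⁆
  · left
    obtain ⟨D, hD, hAD⟩ := hNI
    obtain ⟨e, he, he1⟩ := exists_ne_one_of_ne_bot (hS.ne_bot E hE)
    rcases cases hS h.mem hD with h1 | h1 | h1
    · exfalso
      obtain ⟨a, ha, ha1⟩ := exists_ne_one_of_ne_bot (hS.ne_bot A hA)
      obtain ⟨b, hb, e1⟩ := h.symm.surjA a ha ha1 e (Subgroup.commutator_comm A B ▸ hc he)
      refine he1 (central hS hAD hD (h.commA e (hc he)) (h1 e (hc he)) ha ha1 (cj_mem hS hA b) ?_)
      rw [e1, ← conj_eq_comm_mul]; exact conj_mem_cj b ha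
    · exact (ti hS ⟨D, hD, h1⟩ hE (hc he) he1 he).symm
    · have hDNI : NI S D := ⟨A, hA, RO.symm hAD⟩
      have h2 : CC S E D := by
        rcases cases hS hE hD with h2 | h2 | h2
        · exfalso
          obtain ⟨d, hd, hd1⟩ := exists_ne_one_of_ne_bot (hS.ne_bot D hD)
          exact he1 (cc_inj hS hD hDNI h1.symm hd hd1 (hc he) (h2 e he d hd).symm)
        · exact absurd (RO.eq_one_of_comm_cj h2 he
            (comm_cj_of_not_ro hS h.mem hD (cc_not_ro hS hD h1) (hc he))) he1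
        · exact h2
      apply le_antisymm hc
      intro c hcm
      obtain ⟨d, hd, hd1⟩ := exists_ne_one_of_ne_bot (hS.ne_bot D hD)
      obtain ⟨d', hd', e1⟩ := h1.surjB e (hc he) he1 _ (Subgroup.commutator_mem_commutator hcm hd)
      obtain ⟨e', he', e2⟩ := h2.surjA d hd hd1 _ (Subgroup.commutator_mem_commutator he hd')
      have e3 : ⁅c, d⁆ = ⁅e', d⁆ := e1.trans e2
      have : e'⁻¹ * c = 1 := by
        apply cc_inj hS hD hDNI h1.symm hd hd1 (Subgroup.mul_mem _ (Subgroup.inv_mem _ (hc he')) hcm)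
        rw [commutatorElement_def, commutatorElement_def, mul_left_inj] at e3
        calc d * (e'⁻¹ * c) = e'⁻¹ * (e' * d * e'⁻¹) * c := by group
          _ = e'⁻¹ * (c * d * c⁻¹) * c := by rw [e3]
          _ = _ := by group
      rw [← inv_mul_eq_one.1 this]; exact he'
  · right
    obtain ⟨x, hx, hxc⟩ := Set.not_subset.1 hc
    rcases cc_cover h (hle hx) with h1 | ⟨b, hb, h1⟩
    · exact absurd h1 hxc
    · exact ⟨b, hb, (ti hS (hNI.cj hS b) hE h1 (by rintro rfl; exact hxc (Subgroup.one_mem _))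
        hx).symm⟩

end Root

end Cfsg.Agent.H19
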