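import Mathlib
import Cfsg.Agent.H19.Root1

/-! Abstract root subgroups: the nilpotent configuration, connectivity of the opposition graph. -/

namespace Cfsg.Agent.H19

open Cfsg
open scoped commutatorElement

variable {G : Type*} [Group G] {S : Set (Subgroup G)} {A B C D E : Subgroup G}

/-- the elements of `R` whose commutators with `K` lie in `N` -/
def cenMod (R K N : Subgroup G) (hN : ∀ x ∈ R, cj x N = N) : Subgroup G where
  carrier := {x | x ∈ R ∧ ∀ k ∈ K, ⁅x, k⁆ ∈ N}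
  one_mem' := ⟨R.one_mem, fun k _ => by simp⟩
  mul_mem' := by
    rintro x y ⟨hx, hx'⟩ ⟨hy, hy'⟩
    refine ⟨R.mul_mem hx hy, fun k hk => ?_⟩
    rw [show ⁅x * y, k⁆ = x * ⁅y, k⁆ * x⁻¹ * ⁅x, k⁆ by simp only [commutatorElement_def]; group]
    refine N.mul_mem ?_ (hx' k hk)
    rw [← hN x hx]; exact conj_mem_cj x (hy' k hk)
  inv_mem' := by
    rintro x ⟨hx, hx'⟩
    refine ⟨R.inv_mem hx, fun k hk => ?_⟩
    rw [show ⁅x⁻¹, k⁆ = x⁻¹ * ⁅x, k⁆⁻¹ * x⁻¹⁻¹ by simp only [commutatorElement_def]; group,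
      ← hN x⁻¹ (R.inv_mem hx)]
    exact conj_mem_cj _ (N.inv_mem (hx' k hk))

theorem le_cenMod {R K N H : Subgroup G} (hN : ∀ x ∈ R, cj x N = N) (hH : H ≤ R)
    (h : ⁅H, K⁆ ≤ N) : H ≤ cenMod R K N hN :=
  fun _ hx => ⟨hH hx, fun _ hk => h (Subgroup.commutator_mem_commutator hx hk)⟩

theorem commutator_le_of_le_cenMod {R K N H : Subgroup G} {hN : ∀ x ∈ R, cj x N = N}
    (h : H ≤ cenMod R K N hN) : ⁅H, K⁆ ≤ N :=
  Subgroup.commutator_le.2 fun _ hx k hk => (h hx).2 k hk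

theorem commutator_sup_left_le {R K N P Q : Subgroup G} (hN : ∀ x ∈ R, cj x N = N) (hP : P ≤ R)
    (hQ : Q ≤ R) (h1 : ⁅P, K⁆ ≤ N) (h2 : ⁅Q, K⁆ ≤ N) : ⁅P ⊔ Q, K⁆ ≤ N :=
  commutator_le_of_le_cenMod (sup_le (le_cenMod hN hP h1) (le_cenMod hN hQ h2))

theorem commutator_sup_right_le {R K N P Q : Subgroup G} (hN : ∀ x ∈ R, cj x N = N) (hP : P ≤ R)
    (hQ : Q ≤ R) (h1 : ⁅K, P⁆ ≤ N) (h2 : ⁅K, Q⁆ ≤ N) : ⁅K, P ⊔ Q⁆ ≤ N := by
  rw [Subgroup.commutator_comm] at *
  exact commutator_sup_left_le hN hP hQ h1 h2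

theorem Comm.commutator_le {N : Subgroup G} (h : Comm A B) : ⁅A, B⁆ ≤ N := by
  rw [comm_iff.1 h]; exact bot_le

theorem commutator_le_of_le {R : Subgroup G} (hA : A ≤ R) (hB : B ≤ R) : ⁅A, B⁆ ≤ R :=
  (Subgroup.commutator_mono hA hB).trans (Subgroup.commutator_le_self R)

/-- the commutator subgroup of a group generated by two abelian subgroups -/
theorem commutator_sup_sup_le (hA : Comm A A) (hB : Comm B B) : ⁅A ⊔ B, A ⊔ B⁆ ≤ ⁅A, B⁆ := by
  have hN : ∀ x ∈ A ⊔ B, cj x ⁅A, B⁆ = ⁅A, B⁆ := fun x hx => Root.cj_commutator_self hx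
  refine commutator_sup_left_le hN le_sup_left le_sup_right ?_ ?_
  · exact commutator_sup_right_le hN le_sup_left le_sup_right hA.commutator_le le_rfl
  · exact commutator_sup_right_le hN le_sup_left le_sup_right
      (Subgroup.commutator_comm A B).ge hB.commutator_le

theorem CC.class_two (h : CC S A B) (hA : Comm A A) (hB : Comm B B) :
    Comm ⁅A ⊔ B, A ⊔ B⁆ (A ⊔ B) :=
  (h.commA.sup_right h.commB).mono (commutator_sup_sup_le hA hB) le_rfl

theorem Comm.class_two (h : Comm A A) : Comm ⁅A, A⁆ A := by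
  rw [comm_iff.1 h]; intro a ha b _; rw [Subgroup.mem_bot.1 ha]; simp

namespace Root

section Nilp

variable (hS : IsRootSubgroupSet S) (hA : A ∈ S) (hB : B ∈ S) (hC : C ∈ S) (hAB : CC S A B)
  (hBC : CC S B C) (hAC : Comm A C)
include hS hA hB hC hAB hBC hAC

theorem nilp_comm {b : G} (hb : b ∈ B) : Comm (A ⊔ cj b C) (cj b A ⊔ C) := by
  refine Comm.sup_left (Comm.sup_right ?_ hAC) (Comm.sup_right (hAC.symm.cj b) ?_)
  · exact comm_cj_of_not_ro hS hB hA (cc_not_ro hS hA hAB.symm) hb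
  · exact (comm_cj_of_not_ro hS hB hC (cc_not_ro hS hC hBC) hb).symm

theorem nilp_not_ro {b : G} (hb : b ∈ B) : ¬ IsRankOnePair A (cj b C) := by
  intro h
  obtain ⟨a, ha, ha1⟩ := exists_ne_one_of_ne_bot (hS.ne_bot A hA)
  have hc := (nilp_comm hS hA hB hC hAB hBC hAC hb).symm.mono le_sup_left le_rfl
  have hz := conj_mem_cj b ha
  have := central hS h (cj_mem hS hC b) (fun x hx => hc _ hz x (Subgroup.mem_sup_left hx))
    (fun x hx => hc _ hz x (Subgroup.mem_sup_right hx)) (A.inv_mem ha) (by simpa using ha1)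
    hAB.symm.mem (Subgroup.commutator_mem_commutator hb ha)
  exact ha1 (by simpa [mul_eq_one_iff_eq_inv] using this)

omit hS hA hB hC in
theorem nilp_comm_iff {b : G} (hb : b ∈ B) (hb1 : b ≠ 1) : Comm A (cj b C) ↔ Comm A ⁅C, B⁆ := by
  have := sup_cj_cc hBC.symm hb hb1
  constructor
  · intro h; exact (this ▸ hAC.sup_right h).mono le_rfl le_sup_right
  · intro h; exact (this ▸ hAC.sup_right h).mono le_rfl le_sup_right

omit hS hA hB hC hAC in
theorem nilp_sup {b : G} (hb : b ∈ B) (hb1 : b ≠ 1) :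
    (A ⊔ cj b C) ⊔ (cj b A ⊔ C) = (A ⊔ ⁅A, B⁆) ⊔ (C ⊔ ⁅C, B⁆) := by
  rw [← sup_cj_cc hAB hb hb1, ← sup_cj_cc hBC.symm hb hb1]
  ac_rfl

omit hS hA hB hC hAC in
theorem nilp_norm {r : G} (hr : r ∈ A ⊔ B ⊔ C) :
    cj r ((A ⊔ ⁅A, B⁆) ⊔ (C ⊔ ⁅C, B⁆)) = (A ⊔ ⁅A, B⁆) ⊔ (C ⊔ ⁅C, B⁆) := by
  refine cj_eq_self_of_mem_sup (fun x hx => cj_eq_self_of_mem_sup ?_ ?_ hx) ?_ hr
  · intro a ha; exact cj_of_mem (Subgroup.mem_sup_left (Subgroup.mem_sup_left ha))
  · intro b hb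
    rw [cj_sup, cj_sup, cj_sup, hAB.commB.symm.cj_eq hb, hBC.symm.commB.symm.cj_eq hb,
      cj_sup_cc hAB hb, cj_sup_cc hBC.symm hb]
  · intro a ha; exact cj_of_mem (Subgroup.mem_sup_right (Subgroup.mem_sup_left ha))

theorem nilp_class_two {b : G} (hb : b ∈ B) :
    Comm ⁅A ⊔ cj b C, A ⊔ cj b C⁆ (A ⊔ cj b C) := by
  have hC' := cj_mem hS hC b
  rcases cases hS hA hC' with h | h | h
  · exact (((comm hS hA).sup_right h).sup_left (h.symm.sup_right (comm hS hC'))).class_two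
  · exact absurd h (nilp_not_ro hS hA hB hC hAB hBC hAC hb)
  · exact h.class_two (comm hS hA) (comm hS hC')

theorem nilp_nilpotent : Group.IsNilpotent ↥(A ⊔ B ⊔ C) := by
  obtain ⟨b, hb, hb1⟩ := exists_ne_one_of_ne_bot (hS.ne_bot B hB)
  set D := ⁅A, B⁆ with hD
  set E := ⁅C, B⁆ with hE
  set R := A ⊔ B ⊔ C with hR
  set K := (A ⊔ D) ⊔ (C ⊔ E) with hK
  have hKn : ∀ r ∈ R, cj r K = K := fun r hr => nilp_norm hAB hBC hr
  have hAR : A ≤ R := le_sup_of_le_left le_sup_left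
  have hBR : B ≤ R := le_sup_of_le_left le_sup_right
  have hCR : C ≤ R := le_sup_right
  have hDR : D ≤ R := commutator_le_of_le hAR hBR
  have hER : E ≤ R := commutator_le_of_le hCR hBR
  have hAK : A ≤ K := le_sup_of_le_left le_sup_left
  have hDK : D ≤ K := le_sup_of_le_left le_sup_right
  have hCK : C ≤ K := le_sup_of_le_right le_sup_left
  have hEK : E ≤ K := le_sup_of_le_right le_sup_right
  have hKR : K ≤ R := sup_le (sup_le hAR hDR) (sup_le hCR hER)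
  have hRK : R = K ⊔ B := le_antisymm (sup_le (sup_le (le_sup_of_le_left hAK) le_sup_right)
    (le_sup_of_le_left hCK)) (sup_le hKR hBR)
  -- `K` has class at most two
  have hK2 : Comm ⁅K, K⁆ K := by
    have e := nilp_sup hAB hBC hb hb1
    have hXY := nilp_comm hS hA hB hC hAB hBC hAC hb
    have hX := nilp_class_two hS hA hB hC hAB hBC hAC hb
    have hY := nilp_class_two hS hC hB hA hBC.symm hAB.symm hAC.symm hb
    rw [sup_comm C] at hY
    set X := A ⊔ cj b C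
    set Y := cj b A ⊔ C
    have hP : Comm (⁅X, X⁆ ⊔ ⁅Y, Y⁆) (X ⊔ Y) :=
      (hX.sup_right (hXY.mono (Subgroup.commutator_le_self X) le_rfl)).sup_left
        ((hXY.symm.mono (Subgroup.commutator_le_self Y) le_rfl).sup_right hY)
    have hN : ∀ x ∈ X ⊔ Y, cj x (⁅X, X⁆ ⊔ ⁅Y, Y⁆) = ⁅X, X⁆ ⊔ ⁅Y, Y⁆ := fun x hx => hP.symm.cj_eq hx
    rw [hK, ← e]
    refine hP.mono (commutator_sup_left_le hN le_sup_left le_sup_right ?_ ?_) le_rfl
    · exact commutator_sup_right_le hN le_sup_left le_sup_right le_sup_left hXY.commutator_le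
    · exact commutator_sup_right_le hN le_sup_left le_sup_right hXY.symm.commutator_le le_sup_right
  have hK'n : ∀ r ∈ R, cj r ⁅K, K⁆ = ⁅K, K⁆ := fun r hr => by rw [cj_commutator, hKn r hr]
  have hDB : Comm D B := hAB.commB
  have hEB : Comm E B := hBC.symm.commB
  have hN4 : Comm ⁅D, E⁆ R := by
    rw [hRK]
    refine (hK2.mono (Subgroup.commutator_mono hDK hEK) le_rfl).sup_right ?_
    exact (hDB.sup_left hEB).mono (commutator_le_of_le le_sup_left le_sup_right) le_rfl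
  have hN4n : ∀ r ∈ R, cj r ⁅D, E⁆ = ⁅D, E⁆ := fun r hr => hN4.symm.cj_eq hr
  -- the action of `B` on the generators of `K'`
  have key : ∀ {A D E : Subgroup G}, A ≤ K → D ≤ K → E ≤ K → ⁅B, A⁆ ≤ D → Comm E B →
      ∀ {N : Subgroup G}, ⁅D, E⁆ ≤ N → ∀ (hN : ∀ r ∈ R, cj r N = N), ⁅A, E⁆ ≤ cenMod R B N hN := by
    intro A D E hAK hDK hEK hD hEB N hle hN
    rw [Subgroup.commutator_le]
    intro a ha e he
    have hx : ⁅a, e⁆ ∈ ⁅K, K⁆ := Subgroup.commutator_mem_commutator (hAK ha) (hEK he)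
    have hxR : ⁅a, e⁆ ∈ R := hKR (Subgroup.commutator_le_self K hx)
    refine ⟨hxR, fun b hb => ?_⟩
    have hd : ⁅b, a⁆ ∈ D := hD (Subgroup.commutator_mem_commutator hb ha)
    have e1 : b * ⁅a, e⁆ * b⁻¹ = ⁅a, e⁆ * ⁅⁅b, a⁆, e⁆ := by
      rw [← comm_mul_left (hK2 _ hx _ (hDK hd)), ← conj_eq_comm_mul, conjugate_commutatorElement]
      congr 1
      rw [← hEB e he b hb]; group
    have e2 : ⁅⁅a, e⁆, b⁆ = ⁅a, e⁆ * ⁅⁅b, a⁆, e⁆⁻¹ * ⁅a, e⁆⁻¹ := by
      calc ⁅⁅a, e⁆, b⁆ = ⁅a, e⁆ * (b * ⁅a, e⁆ * b⁻¹)⁻¹ := by rw [commutatorElement_def ⁅a, e⁆]; group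
        _ = _ := by rw [e1]; group
    rw [e2, ← hN _ hxR]
    exact conj_mem_cj _ (N.inv_mem (hle (Subgroup.commutator_mem_commutator hd he)))
  have h4 : ⁅⁅K, K⁆, R⁆ ≤ ⁅D, E⁆ := by
    rw [hRK]
    refine commutator_sup_right_le hN4n hKR hBR hK2.commutator_le ?_
    have hU : Comm (A ⊔ D) (A ⊔ D) := ((comm hS hA).sup_right hAB.commA.symm).sup_left
      (hAB.commA.sup_right (comm hS hAB.mem))
    have hV : Comm (C ⊔ E) (C ⊔ E) := ((comm hS hC).sup_right hBC.symm.commA.symm).sup_left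
      (hBC.symm.commA.sup_right (comm hS hBC.symm.mem))
    have h1 : ⁅A, E⁆ ≤ cenMod R B _ hN4n :=
      key hAK hDK hEK (Subgroup.commutator_comm _ _).le hEB le_rfl hN4n
    have h2 : ⁅D, C⁆ ≤ cenMod R B _ hN4n := by
      rw [Subgroup.commutator_comm]
      exact key hCK hEK hDK (Subgroup.commutator_comm _ _).le hDB
        (Subgroup.commutator_comm _ _).le hN4n
    have h3 : ⁅D, E⁆ ≤ cenMod R B _ hN4n :=
      le_cenMod hN4n (commutator_le_of_le hDR hER) (hN4.mono le_rfl hBR).commutator_le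
    have hP : ⁅A, E⁆ ⊔ ⁅D, C⁆ ⊔ ⁅D, E⁆ ≤ ⁅K, K⁆ := sup_le (sup_le (Subgroup.commutator_mono hAK hEK)
      (Subgroup.commutator_mono hDK hCK)) (Subgroup.commutator_mono hDK hEK)
    have hN : ∀ x ∈ K, cj x (⁅A, E⁆ ⊔ ⁅D, C⁆ ⊔ ⁅D, E⁆) = ⁅A, E⁆ ⊔ ⁅D, C⁆ ⊔ ⁅D, E⁆ :=
      fun x hx => (hK2.mono hP le_rfl).symm.cj_eq hx
    refine commutator_le_of_le_cenMod (((commutator_sup_sup_le hU hV).trans ?_).trans
      (sup_le (sup_le h1 h2) h3))
    refine commutator_sup_left_le hN hAK hDK ?_ ?_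
    · exact commutator_sup_right_le hN hCK hEK hAC.commutator_le (le_sup_of_le_left le_sup_left)
    · exact commutator_sup_right_le hN hCK hEK (le_sup_of_le_left le_sup_right) le_sup_right
  have h3 : ⁅⁅K, K⁆ ⊔ (D ⊔ E), R⁆ ≤ ⁅K, K⁆ := by
    refine commutator_sup_left_le hK'n (commutator_le_of_le hKR hKR) (sup_le hDR hER)
      (h4.trans (Subgroup.commutator_mono hDK hEK)) ?_
    rw [hRK]
    exact commutator_sup_right_le hK'n hKR hBR (Subgroup.commutator_mono (sup_le hDK hEK) le_rfl)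
      (hDB.sup_left hEB).commutator_le
  have hN2 : ∀ r ∈ R, cj r (⁅K, K⁆ ⊔ (D ⊔ E)) = ⁅K, K⁆ ⊔ (D ⊔ E) := by
    intro r hr
    apply cj_eq_self_iff.2
    exact Subgroup.le_normalizer_iff_commutator_le_left.2 (h3.trans le_sup_left) hr
  have h2 : ⁅R, R⁆ ≤ ⁅K, K⁆ ⊔ (D ⊔ E) := by
    have hKB : ⁅K, B⁆ ≤ ⁅K, K⁆ ⊔ (D ⊔ E) := by
      refine commutator_sup_left_le hN2 (sup_le hAR hDR) (sup_le hCR hER) ?_ ?_
      · exact commutator_sup_left_le hN2 hAR hDR (le_sup_of_le_right le_sup_left) hDB.commutator_le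
      · exact commutator_sup_left_le hN2 hCR hER (le_sup_of_le_right le_sup_right) hEB.commutator_le
    rw [hRK]
    refine commutator_sup_left_le hN2 hKR hBR ?_ ?_
    · exact commutator_sup_right_le hN2 hKR hBR le_sup_left hKB
    · exact commutator_sup_right_le hN2 hKR hBR (Subgroup.commutator_comm K B ▸ hKB)
        (comm hS hB).commutator_le
  refine (Subgroup.isNilpotent_iff_lowerCentralSeries _).2 ⟨4, ?_⟩
  rw [eq_bot_iff]
  refine le_trans (Subgroup.commutator_mono (le_trans (Subgroup.commutator_mono (le_trans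
    (Subgroup.commutator_mono h2 le_rfl) h3) le_rfl) h4) le_rfl) hN4.commutator_le

end Nilp

/-- a partner of `A` is a partner of one of two commuting members whose product meets `A` -/
theorem ro_or_ro (hS : IsRootSubgroupSet S) (hB : B ∈ S) (hC : C ∈ S) (hE : E ∈ S)
    (hAC : IsRankOnePair A C) (hBE : Comm B E) {a : G} (ha : a ∈ A) (ha1 : a ≠ 1)
    (haBE : a ∈ B ⊔ E) : IsRankOnePair B C ∨ IsRankOnePair E C := by
  by_contra hc
  push Not at hc
  obtain ⟨b, hb, e, he, rfl⟩ := hBE.mem_sup haBE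
  rcases cases hS hB hC with h1 | h1 | h1
  · apply ha1
    apply RO.eq_one_of_comm_cj hAC ha
    rw [hBE b hb e he, cj_mul, h1.cj_eq hb]
    exact comm_cj_of_not_ro hS hE hC hc.2 he
  · exact hc.1 h1
  rcases cases hS hE hC with h2 | h2 | h2
  · apply ha1
    apply RO.eq_one_of_comm_cj hAC ha
    rw [cj_mul, h2.cj_eq he]
    exact comm_cj_of_not_ro hS hB hC hc.1 hb
  · exact hc.2 h2
  · have hC' : C ≤ B ⊔ C ⊔ E := le_sup_of_le_left le_sup_right
    refine RO.not_le_nilpotent (RO.pair_cj hAC ha ha1) hC' (cj_le_of_le hC' ?_)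
      (nilp_nilpotent hS hB hC hE h1 h2.symm hBE)
    exact Subgroup.mul_mem _ (Subgroup.mem_sup_left (Subgroup.mem_sup_left hb))
      (Subgroup.mem_sup_right he)

/-! ### connectivity of `𝓕` -/

/-- joined by a path in the opposition graph -/
abbrev Conn (S : Set (Subgroup G)) (A B : Subgroup G) : Prop := Relation.ReflTransGen (FAdj S) A B

theorem Conn.symm (h : Conn S A B) : Conn S B A := by
  induction h with
  | refl => exact .refl
  | tail _ h2 ih => exact .head ⟨h2.2.1, h2.1, RO.symm h2.2.2⟩ ih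

theorem Conn.of_ro (hA : A ∈ S) (hB : B ∈ S) (h : IsRankOnePair A B) : Conn S A B :=
  Relation.ReflTransGen.single ⟨hA, hB, h⟩

theorem Conn.cj (hS : IsRootSubgroupSet S) (h : Conn S A B) (g : G) :
    Conn S (cj g A) (cj g B) := by
  induction h with
  | refl => exact .refl
  | tail _ h ih => exact .tail ih ⟨cj_mem hS h.1 g, cj_mem hS h.2.1 g, RO.cj_pair h.2.2 g⟩

theorem Conn.ni (h : Conn S A B) (hne : A ≠ B) : NI S A := by
  rcases h.cases_head with e | ⟨C, h1, -⟩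
  · exact absurd e hne
  · exact ⟨C, h1.2.1, h1.2.2⟩

theorem Conn.ex_cj (h : Conn S A B) : ∃ g : G, B = H19.cj g A := by
  induction h with
  | refl => exact ⟨1, (cj_one A).symm⟩
  | tail _ h2 ih =>
    obtain ⟨g, rfl⟩ := ih
    obtain ⟨w, -, e, -⟩ := RO.ex_swap h2.2.2
    exact ⟨w * g, by rw [cj_mul, e]⟩

theorem induction_top (hS : IsRootSubgroupSet S) {p : G → Prop} (h1 : p 1)
    (hmem : ∀ B ∈ S, ∀ b ∈ B, p b) (hmul : ∀ x y, p x → p y → p (x * y)) (g : G) : p g := by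
  have hg : g ∈ ⨆ A : S, (A : Subgroup G) := by
    have := hS.generates
    rw [iSup_subtype'] at this
    rw [this]; trivial
  exact Subgroup.iSup_induction (C := p) _ hg (fun A a ha => hmem A A.2 a ha) h1 hmul

theorem conn_cj (hS : IsRootSubgroupSet S) (hA : A ∈ S) (hNI : NI S A) (g : G) :
    Conn S A (cj g A) := by
  refine induction_top hS (p := fun g => Conn S A (cj g A)) (by rw [cj_one]) ?_ ?_ g
  · intro B hB b hb
    rcases cases hS hA hB with h | h | h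
    · rw [h.symm.cj_eq hb]
    · have h2 := RO.cj_pair h b
      rw [cj_of_mem hb] at h2
      exact (Conn.of_ro hA hB h).trans (Conn.of_ro hB (cj_mem hS hA b) (RO.symm h2))
    · obtain ⟨C, hC, hAC⟩ := hNI
      obtain ⟨a, ha, ha1⟩ := exists_ne_one_of_ne_bot (hS.ne_bot A hA)
      have hc : Comm (cj b A) ⁅A, B⁆ := by
        have := h.commA.symm.cj b
        rwa [h.commB.symm.cj_eq hb] at this
      rcases ro_or_ro hS (cj_mem hS hA b) hC h.mem hAC hc ha ha1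
        (by rw [cj_sup_cc h hb]; exact Subgroup.mem_sup_left ha) with h1 | h1
      · exact (Conn.of_ro hA hC hAC).trans (Conn.of_ro hC (cj_mem hS hA b) (RO.symm h1))
      · have h2 := RO.cj_pair h1 b
        rw [h.commB.symm.cj_eq hb] at h2
        exact (((Conn.of_ro hA hC hAC).trans (Conn.of_ro hC h.mem (RO.symm h1))).trans
          (Conn.of_ro h.mem (cj_mem hS hC b) h2)).trans
          (Conn.of_ro (cj_mem hS hC b) (cj_mem hS hA b) (RO.cj_pair (RO.symm hAC) b))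
  · intro x y hx hy
    rw [cj_mul]
    exact hx.trans (hy.cj hS x)

/-- every member has a partner -/
def AllNI (S : Set (Subgroup G)) : Prop := ∀ A ∈ S, NI S A

theorem allNI_of_class (hS : IsRootSubgroupClass S) (hA : A ∈ S) (h : NI S A) : AllNI S := by
  intro B hB
  obtain ⟨g, rfl⟩ := hS.2.2 A hA B hB
  exact h.cj hS.1 g

theorem conn_of_class (hS : IsRootSubgroupClass S) (h : AllNI S) (hA : A ∈ S) (hB : B ∈ S) :
    Conn S A B := by
  obtain ⟨g, rfl⟩ := hS.2.2 A hA B hB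
  exact conn_cj hS.1 hA (h A hA) g

theorem allNI_of_conn (h : IsConnectedFamily (FAdj S) S) (h2 : ∃ A ∈ S, ∃ B ∈ S, A ≠ B) :
    AllNI S := by
  obtain ⟨A, hA, B, hB, hne⟩ := h2
  intro C hC
  by_cases e : C = A
  · exact Conn.ni (h C hC B hB) (e ▸ hne)
  · exact Conn.ni (h C hC A hA) e

theorem class_of_conn (hS : IsRootSubgroupSet S) (h : IsConnectedFamily (FAdj S) S)
    (hA : A ∈ S) : IsRootSubgroupClass S :=
  ⟨hS, ⟨A, hA⟩, fun B hB C hC => Conn.ex_cj (h B hB C hC)⟩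

theorem cc_eq_one_right (hS : IsRootSubgroupSet S) (h : CC S A B) {b : G} (hb : b ∈ B)
    (e : ∀ a ∈ A, a * b = b * a) : b = 1 := by
  by_contra hb1
  apply hS.ne_bot _ h.mem
  rw [Subgroup.eq_bot_iff_forall]
  intro c hc
  obtain ⟨a, ha, rfl⟩ := h.surjA b hb hb1 c hc
  exact commutatorElement_eq_one_iff_mul_comm.2 (e a ha)

/-- Timmesfeld II (2.20), the rank one pair -/
theorem ro_of_cc_cc (hS : IsRootSubgroupSet S) (hA : A ∈ S) (hB : B ∈ S) (hD : D ∈ S)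
    (hAB : CC S A B) (hDC : CC S D ⁅A, B⁆) (e : ⁅D, ⁅A, B⁆⁆ = A) : IsRankOnePair B D := by
  by_contra hc
  obtain ⟨b, hb, hb1⟩ := exists_ne_one_of_ne_bot (hS.ne_bot B hB)
  obtain ⟨d, hd, hd1⟩ := exists_ne_one_of_ne_bot (hS.ne_bot D hD)
  have h1 := comm_cj_of_not_ro hS hB hD hc hb
  have hDA : Comm A D := by have := hDC.commA; rwa [e] at this
  have hBA : ⁅B, A⁆ = ⁅A, B⁆ := Subgroup.commutator_comm _ _
  apply hS.ne_bot _ hAB.mem
  rw [Subgroup.eq_bot_iff_forall]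
  intro c' hc'
  obtain ⟨a', ha', rfl⟩ := hAB.symm.surjB b hb hb1 c' (hBA ▸ hc')
  obtain ⟨c, hc, e1⟩ := hDC.surjB d hd hd1 a' (e.symm ▸ ha')
  obtain ⟨a, ha, e2⟩ := hAB.symm.surjB b⁻¹ (B.inv_mem hb) (by simpa using hb1) c (hBA ▸ hc)
  -- `x = b d b⁻¹` centralizes `D`, so `x a x⁻¹` centralizes `D`
  have hx : b * d * b⁻¹ ∈ cj b D := conj_mem_cj _ hd
  have e3 : (b * d * b⁻¹) * a * (b * d * b⁻¹)⁻¹ = ⁅b, a'⁆ * (a' * a) := by
    have f1 : b⁻¹ * a * b = c * a := by rw [e2, commutatorElement_def]; group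
    have f2 : d * c * d⁻¹ = a' * c := by rw [e1, commutatorElement_def]; group
    have f3 : d * a * d⁻¹ = a := by rw [← hDA a ha d hd]; group
    calc _ = b * (d * (b⁻¹ * a * b) * d⁻¹) * b⁻¹ := by group
      _ = b * ((d * c * d⁻¹) * (d * a * d⁻¹)) * b⁻¹ := by rw [f1]; group
      _ = b * a' * (c * a) * b⁻¹ := by rw [f2, f3]; group
      _ = _ := by rw [← f1, commutatorElement_def]; group
  refine cc_eq_one_right hS hDC hc' fun y hy => ?_
  have g1 : Commute y (b * d * b⁻¹) := h1 y hy _ hx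
  have g2 : Commute y a := (hDA a ha y hy).symm
  have g3 : Commute y (a' * a) := (hDA _ (A.mul_mem ha' ha) y hy).symm
  have g4 := ((g1.mul_right g2).mul_right g1.inv_right).mul_right g3.inv_right
  rw [e3, mul_inv_cancel_right] at g4
  exact g4

/-- the members of `A [A, B]` obtained from `B` meet trivially when `B` is not isolated -/
theorem cj_inf_cj_cc (hS : IsRootSubgroupSet S) (hB : B ∈ S) (hNI : NI S B) (h : CC S A B)
    {b b' x : G} (hb : b ∈ B) (hb' : b' ∈ B) (hx : x ∈ cj b A) (hx' : x ∈ cj b' A) (hx1 : x ≠ 1) :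
    b = b' := by
  obtain ⟨a, ha, rfl⟩ := exists_of_mem_cj hx
  have h1 := mem_cj.1 hx'
  have hbb : b'⁻¹ * b ∈ B := B.mul_mem (B.inv_mem hb') hb
  have h2 : ⁅b'⁻¹ * b, a⁆ = 1 := by
    apply cc_inf hS h
    · have := A.mul_mem h1 (A.inv_mem ha)
      rw [commutatorElement_def]; convert this using 1; group
    · rw [Subgroup.commutator_comm]; exact Subgroup.commutator_mem_commutator hbb ha
  by_contra hne
  apply hx1
  have := cc_inj hS hB hNI h.symm hbb (fun e => hne (inv_mul_eq_one.1 e).symm) ha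
    (commutatorElement_eq_one_iff_mul_comm.1 h2)
  simp [this]

end Root

end Cfsg.Agent.H19
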