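import Cfsg.Agent.H15.Words
set_option autoImplicit false
set_option maxRecDepth 100000

namespace Cfsg.Agent.H19.GE8
open Cfsg.Agent.H15 Cfsg.Agent.H14

def tb : Tb := (.node (nat_lit 16) (.node (nat_lit 8) (.node (nat_lit 4) (.leaf (nat_lit 0x2189d10430c618c3186300800821800082f041104208410821042006004038207c00001082104208410821004000007e08000000000000000000000)) (.leaf (nat_lit 0xc317f07e000bf80248a714e29c5380418ad1453009010014530a614c298018a46c8214038a500c0104288510a00841b830c82104208400a00c32064))) (.node (nat_lit 12) (.leaf (nat_lit 0x6427f07e01962306580901a3ac75806210c20750080523a8060ea1d43a8030e6fc1f800304a04e02c648c919201473326190028030c8190320640c8)) (.leaf (nat_lit 0x8531857e0fc1f800610f0a5f83f0002298b309710e15a0488700c0224b80112bfc1f80768ce1da3b40581021a00c952ea2183b03580f0140388610c)))) (.node (nat_lit 24) (.node (nat_lit 20) (.leaf (nat_lit 0x5c3f07e0fc0550999332664cc080042dcabff01322240380b02f0aa5480096e598544988f002a4c49880e028004a6fe0fc04408891022044006813))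 (.leaf (nat_lit 0x86d13a81bfc05dc0a01a2ee5dc1a803324b3ff07e0fc1f8009136133f80021915245d7f0135022064aa8320ae000c8acc030550998172a8550aa011))) (.node (nat_lit 28) (.leaf (nat_lit 0xe75d2b817fc1f801c7e033666ccd8033aeb3d1d1bc335f800b9fdfc01e4019b559e6640e9592b20540e07613401cda2cc0285e3f005b2f1f83f07e0)) (.leaf (nat_lit 0x31d9fc06f40cfe0fc1f810d7e02f8008ecfe0fc076bf07e0fc0064ae19d)))))
def wt : Wt := (.node (nat_lit 32) (.node (nat_lit 16) (.node (nat_lit 8) (.node (nat_lit 4) (.node (nat_lit 2) (.node (nat_lit 1) (.leaf [nat_lit 1, nat_lit 7, nat_lit 1, nat_lit 7]) (.leaf [nat_lit 2, nat_lit 7, nat_lit 2, nat_lit 7])) (.node (nat_lit 3) (.leaf [nat_lit 3, nat_lit 7, nat_lit 3, nat_lit 7]) (.leaf [nat_lit 4, nat_lit 7, nat_lit 4, nat_lit 7]))) (.node (nat_lit 6) (.node (nat_lit 5) (.leaf [nat_lit 5, nat_lit 7, nat_lit 5, nat_lit 7]) (.leaf [nat_lit 6, nat_lit 7, nat_lit 6, nat_lit 7])) (.node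 (nat_lit 7) (.leaf [nat_lit 2, nat_lit 0, nat_lit 2, nat_lit 0]) (.leaf [nat_lit 3, nat_lit 0, nat_lit 3, nat_lit 0])))) (.node (nat_lit 12) (.node (nat_lit 10) (.node (nat_lit 9) (.leaf [nat_lit 4, nat_lit 0, nat_lit 4, nat_lit 0]) (.leaf [nat_lit 5, nat_lit 0, nat_lit 5, nat_lit 0])) (.node (nat_lit 11) (.leaf [nat_lit 6, nat_lit 0, nat_lit 6, nat_lit 0]) (.leaf [nat_lit 7, nat_lit 0, nat_lit 7, nat_lit 0, nat_lit 7, nat_lit 0]))) (.node (nat_lit 14) (.node (nat_lit 13) (.leaf [nat_lit 3, nat_lit 1, nat_lit 3, nat_lit 1]) (.leaf [nat_lit 4, nat_lit 1, nat_lit 4, nat_lit 1])) (.node (nat_lit 15) (.leaf [nat_lit 5, nat_lit 1, nat_lit 5, nat_lit 1]) (.leaf [nat_lit 6, nat_lit 1, nat_lit 6, nat_lit 1]))))) (.node (nat_lit 24) (.node (nat_lit 20) (.node (nat_lit 18) (.node (nat_lit 17) (.leaf [nat_lit 7, nat_lit 1, nat_lit 7, nat_lit 1]) (.leaf [nat_lit 0, nat_lit 1, nat_lit 0, nat_lit 1,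 nat_lit 0, nat_lit 1])) (.node (nat_lit 19) (.leaf [nat_lit 0, nat_lit 2, nat_lit 0, nat_lit 2]) (.leaf [nat_lit 4, nat_lit 2, nat_lit 4, nat_lit 2]))) (.node (nat_lit 22) (.node (nat_lit 21) (.leaf [nat_lit 5, nat_lit 2, nat_lit 5, nat_lit 2]) (.leaf [nat_lit 6, nat_lit 2, nat_lit 6, nat_lit 2])) (.node (nat_lit 23) (.leaf [nat_lit 7, nat_lit 2, nat_lit 7, nat_lit 2]) (.leaf [nat_lit 1, nat_lit 2, nat_lit 1, nat_lit 2, nat_lit 1, nat_lit 2])))) (.node (nat_lit 28) (.node (nat_lit 26) (.node (nat_lit 25) (.leaf [nat_lit 0, nat_lit 3, nat_lit 0, nat_lit 3]) (.leaf [nat_lit 1, nat_lit 3, nat_lit 1, nat_lit 3])) (.node (nat_lit 27) (.leaf [nat_lit 5, nat_lit 3, nat_lit 5, nat_lit 3]) (.leaf [nat_lit 7, nat_lit 3, nat_lit 7, nat_lit 3]))) (.node (nat_lit 30) (.node (nat_lit 29) (.leaf [nat_lit 2, nat_lit 3, nat_lit 2, nat_lit 3, nat_lit 2, nat_lit 3]) (.leaf [nat_lit 0, nat_lit 4, nat_lit 0,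 nat_lit 4])) (.node (nat_lit 31) (.leaf [nat_lit 1, nat_lit 4, nat_lit 1, nat_lit 4]) (.leaf [nat_lit 2, nat_lit 4, nat_lit 2, nat_lit 4])))))) (.node (nat_lit 48) (.node (nat_lit 40) (.node (nat_lit 36) (.node (nat_lit 34) (.node (nat_lit 33) (.leaf [nat_lit 7, nat_lit 4, nat_lit 7, nat_lit 4]) (.leaf [nat_lit 3, nat_lit 4, nat_lit 3, nat_lit 4, nat_lit 3, nat_lit 4])) (.node (nat_lit 35) (.leaf [nat_lit 0, nat_lit 6, nat_lit 0, nat_lit 6]) (.leaf [nat_lit 1, nat_lit 6, nat_lit 1, nat_lit 6]))) (.node (nat_lit 38) (.node (nat_lit 37) (.leaf [nat_lit 2, nat_lit 6, nat_lit 2, nat_lit 6]) (.leaf [nat_lit 3, nat_lit 6, nat_lit 3, nat_lit 6, nat_lit 3, nat_lit 6])) (.node (nat_lit 39) (.leaf [nat_lit 0, nat_lit 5, nat_lit 0, nat_lit 5]) (.leaf [nat_lit 1, nat_lit 5, nat_lit 1, nat_lit 5])))) (.node (nat_lit 44) (.node (nat_lit 42) (.node (nat_lit 41) (.leaf [nat_lit 2, nat_lit 5, nat_lit 2,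 nat_lit 5]) (.leaf [nat_lit 3, nat_lit 5, nat_lit 3, nat_lit 5])) (.node (nat_lit 43) (.leaf [nat_lit 7, nat_lit 5, nat_lit 7, nat_lit 5]) (.leaf [nat_lit 4, nat_lit 5, nat_lit 4, nat_lit 5, nat_lit 4, nat_lit 5]))) (.node (nat_lit 46) (.node (nat_lit 45) (.leaf [nat_lit 4, nat_lit 6, nat_lit 4, nat_lit 6]) (.leaf [nat_lit 4, nat_lit 4])) (.node (nat_lit 47) (.leaf [nat_lit 5, nat_lit 6, nat_lit 5, nat_lit 6]) (.leaf [nat_lit 5, nat_lit 5]))))) (.node (nat_lit 56) (.node (nat_lit 52) (.node (nat_lit 50) (.node (nat_lit 49) (.leaf [nat_lit 7, nat_lit 6, nat_lit 7, nat_lit 6]) (.leaf [nat_lit 4, nat_lit 3, nat_lit 4, nat_lit 3, nat_lit 4, nat_lit 3])) (.node (nat_lit 51) (.leaf [nat_lit 6, nat_lit 3, nat_lit 6, nat_lit 3, nat_lit 6, nat_lit 3]) (.leaf [nat_lit 3, nat_lit 2, nat_lit 3, nat_lit 2, nat_lit 3, nat_lit 2]))) (.node (nat_lit 54) (.node (nat_lit 53) (.leaf [nat_lit 2, nat_lit 1,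 nat_lit 2, nat_lit 1, nat_lit 2, nat_lit 1]) (.leaf [nat_lit 2, nat_lit 2])) (.node (nat_lit 55) (.leaf [nat_lit 6, nat_lit 4, nat_lit 6, nat_lit 4]) (.leaf [nat_lit 5, nat_lit 4, nat_lit 5, nat_lit 4, nat_lit 5, nat_lit 4])))) (.node (nat_lit 60) (.node (nat_lit 58) (.node (nat_lit 57) (.leaf [nat_lit 1, nat_lit 0, nat_lit 1, nat_lit 0, nat_lit 1, nat_lit 0]) (.leaf [nat_lit 1, nat_lit 1])) (.node (nat_lit 59) (.leaf [nat_lit 0, nat_lit 0]) (.leaf [nat_lit 0, nat_lit 7, nat_lit 0, nat_lit 7, nat_lit 0, nat_lit 7]))) (.node (nat_lit 62) (.node (nat_lit 61) (.leaf [nat_lit 0, nat_lit 1, nat_lit 2, nat_lit 3, nat_lit 4, nat_lit 5, nat_lit 6, nat_lit 0, nat_lit 1, nat_lit 2, nat_lit 3, nat_lit 4, nat_lit 5, nat_lit 6, nat_lit 0, nat_lit 1, nat_lit 2, nat_lit 3, nat_lit 4, nat_lit 5, nat_lit 6, nat_lit 0, nat_lit 1, nat_lit 2, nat_lit 3, nat_lit 4, nat_lit 5, nat_lit 6, nat_lit 0, nat_lit 1,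 nat_lit 2, nat_lit 3, nat_lit 4, nat_lit 5, nat_lit 6, nat_lit 0, nat_lit 1, nat_lit 2, nat_lit 3, nat_lit 4, nat_lit 5, nat_lit 6, nat_lit 0, nat_lit 1, nat_lit 2, nat_lit 3, nat_lit 4, nat_lit 5, nat_lit 6, nat_lit 0, nat_lit 1, nat_lit 2, nat_lit 3, nat_lit 4, nat_lit 5, nat_lit 6, nat_lit 0, nat_lit 1, nat_lit 2, nat_lit 3, nat_lit 4, nat_lit 5, nat_lit 6]) (.leaf [nat_lit 6, nat_lit 6])) (.node (nat_lit 63) (.leaf [nat_lit 3, nat_lit 3]) (.leaf [nat_lit 7, nat_lit 7])))))))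
noncomputable def P : TCP where
  lk := tlk tb (nat_lit 3) (nat_lit 11) (nat_lit 11) (nat_lit 2047)
  inv := invT (nat_lit 31204079050816) (nat_lit 8)
  wt := wt.get
  gens := [nat_lit 0, nat_lit 1, nat_lit 2, nat_lit 3, nat_lit 4, nat_lit 5, nat_lit 6, nat_lit 7]
  N := nat_lit 30
  n := nat_lit 1
  eps := nat_lit 8
  VM := nat_lit 31
  Wv := nat_lit 5
  MAXB := nat_lit 2016
  JM := nat_lit 255
  Wj := nat_lit 8
  Hm := nat_lit 127
def ls : List Nat := [nat_lit 0, nat_lit 1, nat_lit 2, nat_lit 3, nat_lit 4, nat_lit 5, nat_lit 6, nat_lit 7, nat_lit 8]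
noncomputable def ap : Nat → Nat → Nat := tlk tb (nat_lit 3) (nat_lit 11) (nat_lit 11) (nat_lit 31)
def bases : List (List Nat × Nat) := [([0, 0], 1), ([0, 1], 3), ([0, 2], 2), ([0, 3], 2), ([0, 4], 2), ([0, 5], 2), ([0, 6], 2), ([0, 7], 3), ([1, 1], 1), ([1, 2], 3), ([1, 3], 2), ([1, 4], 2), ([1, 5], 2), ([1, 6], 2), ([1, 7], 2), ([2, 2], 1), ([2, 3], 3), ([2, 4], 2), ([2, 5], 2), ([2, 6], 2), ([2, 7], 2), ([3, 3], 1), ([3, 4], 3), ([3, 5], 2), ([3, 6], 3), ([3, 7], 2), ([4, 4], 1), ([4, 5], 3), ([4, 6], 2), ([4, 7], 2), ([5, 5], 1), ([5, 6], 2), ([5, 7], 2), ([6, 6], 1), ([6, 7], 2), ([7, 7], 1), ([0, 1, 2, 3, 4, 5, 6], 9)]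
theorem c0 : RowsGood P ls 0 30 :=
  rowsGood_of (Js := [nat_lit 0x700090028302020202020202, nat_lit 0x5555476cd5a3365c98f161801680520c0030000580187860000b0030d0c0001600616180002c00c2430000580183860000b0030501, nat_lit 0x55551db3568cd97263c500288093c8180000f0051b18161412100100, nat_lit 0x5554b6fd5a3365c98e0048010772422201e1c010026, nat_lit 0x2aa91d9ab466cb92003f00e6f302e2c2a01003228, nat_lit 0x55533bf568cd96003800d813a013801003c3634, nat_lit 0xaaa5366ad19a003100c5f440101004642403e, nat_lit 0x5e4e4c4a48, nat_lit 0x54d6fd5a20024008635801005a56545250, nat_lit 0x625c014c4a48, nat_lit 0x298d9aa001b0067f6400605c014c4a48, nat_lit 0x68626600013634, nat_lit 0x131b20012004813a68380100013634, nat_lit 0x2e622a6a000128, nat_lit 0x25be00100035f302e2c016a000128, nat_lit 0x2a98d9aa001f0085f00466e, nat_lit 0x22621e1c6c0001, nat_lit 0x15e5be00170045f242220011c6c0001, nat_lit 0x54df7ebca00240086f7072000142763e,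 nat_lit 0x621412107400, nat_lit 0xbf5e5be001e0055f0118160112107400, nat_lit 0x29befd6001b0067744720001424078, nat_lit 0x25be001000381003c76, nat_lit 0x137de0012004790172000142403e, nat_lit 0x6fbf5e5be00250065f000e5e08, nat_lit 0x15e5be0017004813a01386600013678, nat_lit 0xbf5e5be001e00581301838004c34, nat_lit 0x800409000a06047a, nat_lit 0x7e003278, nat_lit 0x64006e7c]) (by decide +kernel)
theorem f0 : RowsGood P ls 0 30 :=
  c0
theorem good : RowsGood P (List.range (P.eps + 1)) 0 P.N :=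
  (f0 : RowsGood P ls 0 30)
theorem idx {G : Type*} [Group G] {E : ℕ → G} {inv : ℕ → ℕ} (hi : ∀ l, E (inv l) = (E l)⁻¹)
    {B : List (List ℕ × ℕ)} (hB : ∀ p ∈ B, lprod E p.1 ^ p.2 = 1) (σ : List (List ℕ))
    {hs ks : List (List ℕ)} (hc : certOk P wt bases inv B σ hs ks = true) :
    (gp E hs).relIndex (gp E ks) ≠ 0 ∧ (gp E hs).relIndex (gp E ks) ≤ 1 :=
  tc_gp hi hB rfl (fun _ h => invT_of_le h) good σ hc

end Cfsg.Agent.H19.GE8
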