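import Cfsg.Agent.H10.Am0

/-! Piece `t2`: the case `2^k . A₅` does not occur. -/

set_option autoImplicit false
set_option linter.unusedVariables false

namespace Cfsg.Agent.H10.Am

open Subgroup Equiv

universe u

set_option synthInstance.maxSize 2000 in
set_option synthInstance.maxHeartbeats 400000 in
theorem t2_A : ∀ β : Perm (Fin 5), β * β * β = 1 → β ≠ 1 → ∀ σ : Perm (Fin 5), σ * σ = 1 →
    σ * β * σ⁻¹ = β⁻¹ → Perm.sign σ = 1 → ∀ μ : Perm (Fin 5), μ * μ = 1 → μ * σ * μ⁻¹ = σ →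
    μ * β * (μ * β) * (μ * β) = 1 → μ = 1 := by decide +kernel

set_option synthInstance.maxSize 2000 in
set_option synthInstance.maxHeartbeats 400000 in
theorem t2_B : ∀ σ : Perm (Fin 5), σ * σ = 1 → σ ≠ 1 → Perm.sign σ = 1 → ∃ δ : Perm (Fin 5),
    δ * δ * δ = 1 ∧ δ ≠ 1 ∧ σ * (δ * σ * δ⁻¹) = δ * δ * σ * δ⁻¹ * δ⁻¹ := by decide +kernel

theorem t2_C : ∀ β : Perm (Fin 5), β * β * β = 1 → β ≠ 1 → β.support.card = 3 := by decide +kernel

theorem t2_lin {K : Type*} [CommGroup K] (h2 : ∀ x : K, x * x = 1) {F0 F1 F2 F3 A1 A2 A3 B1 B2 B3 : K}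
    (c1 : F1 * A1 * B1 = 1) (c2 : F2 * A2 * B2 = 1) (c3 : F3 * A3 * B3 = 1) (r1 : F0 * A1 * B3 = 1)
    (r2 : F0 * A2 * B1 = 1) (r3 : F0 * A3 * B2 = 1) : F0 * F1 * (F2 * F3) = 1 := by
  have : F0 * F1 * (F2 * F3) * ((F0 * F0) * (A1 * A1) * (A2 * A2) * (A3 * A3) * (B1 * B1) * (B2 * B2) *
      (B3 * B3)) = (F1 * A1 * B1) * (F2 * A2 * B2) * (F3 * A3 * B3) * (F0 * A1 * B3) * (F0 * A2 * B1) *
      (F0 * A3 * B2) := by ac_rfl
  simpa only [h2, c1, c2, c3, r1, r2, r3, mul_one] using this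

theorem t2_core {L : Type*} [Group L] (π : L →* alternatingGroup (Fin 5)) (hs : Function.Surjective π)
    (hc : ∀ x ∈ π.ker, ∀ y ∈ π.ker, x * y = y * x) (h2 : ∀ x ∈ π.ker, x * x = 1) {b s x y : L}
    (b3 : b * b * b = 1) (b1 : π b ≠ 1) (cb : ∀ g, g * b = b * g → g ∈ zpowers b) (ss : s * s = 1)
    (s1 : π s ≠ 1) (hy : y ∈ π.ker) (hx : x = y * (s * y * s⁻¹)) :
    ∃ d, s * (d * x * d⁻¹) * s⁻¹ = d * x * d⁻¹ ∧ x * (d * x * d⁻¹) * (d * d * x * (d * d)⁻¹) = 1 := by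
  have nm : ∀ {x}, x ∈ π.ker → ∀ g, g * x * g⁻¹ ∈ π.ker := fun hx g => π.normal_ker.conj_mem _ hx g
  have eq : ∀ {g h x : L}, x ∈ π.ker → π g = π h → g * x * g⁻¹ = h * x * h⁻¹ := fun {g h x} hx e => by
    have k : h⁻¹ * g ∈ π.ker := by rw [MonoidHom.mem_ker, map_mul, map_inv, e, inv_mul_cancel]
    calc g * x * g⁻¹ = h * (h⁻¹ * g * x) * g⁻¹ := by group
      _ = _ := by rw [hc _ k _ hx]; group
  have fb : ∀ x ∈ π.ker, x * (b * x * b⁻¹) * (b * b * x * (b * b)⁻¹) = 1 := fun x hx => by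
    have hw := mul_mem (mul_mem hx (nm hx b)) (nm hx (b * b))
    have e : b * (x * (b * x * b⁻¹) * (b * b * x * (b * b)⁻¹)) * b⁻¹ =
        x * (b * x * b⁻¹) * (b * b * x * (b * b)⁻¹) := by
      calc _ = (b * x * b⁻¹) * (b * b * x * (b * b)⁻¹) * ((b * b * b) * x * (b * b * b)⁻¹) := by group
        _ = _ := by
          rw [b3, one_mul, inv_one, mul_one, hc _ (mul_mem (nm hx b) (nm hx (b * b))) _ hx]
          group
    generalize x * (b * x * b⁻¹) * (b * b * x * (b * b)⁻¹) = w at hw e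
    obtain ⟨n, hn⟩ := cb w (mul_inv_eq_iff_eq_mul.1 e).symm
    have w3 : w ^ 3 = 1 := by
      rw [← hn, ← zpow_natCast, ← zpow_mul, mul_comm, zpow_mul, zpow_natCast, pow_three, ← mul_assoc,
        b3, one_zpow]
    rwa [pow_three, h2 w hw, mul_one] at w3
  have tc : ∀ {γ : alternatingGroup (Fin 5)}, γ * γ * γ = 1 → γ ≠ 1 → Perm.IsThreeCycle γ.1 :=
    fun {γ} e n => card_support_eq_three_iff.1
      (t2_C γ.1 (congrArg Subtype.val e) fun e => n (Subtype.ext e))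
  have fg : ∀ g, π g * π g * π g = 1 → π g ≠ 1 → ∀ x ∈ π.ker,
      x * (g * x * g⁻¹) * (g * g * x * (g * g)⁻¹) = 1 := fun g e n x hx => by
    obtain ⟨α, hα⟩ := isConj_iff.1 (alternatingGroup.isThreeCycle_isConj (by simp)
      (tc (γ := π b) (by simp only [← map_mul, b3, map_one]) b1) (tc e n))
    obtain ⟨k, rfl⟩ := hs α
    rw [eq (h := k * b * k⁻¹) hx (by simp [hα]), eq (g := g * g) (h := k * (b * b) * k⁻¹) hx (by
      simp only [map_mul, map_inv, ← hα]; group)]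
    have := fb _ (nm hx k⁻¹)
    calc _ = k * (k⁻¹ * x * k⁻¹⁻¹ * (b * (k⁻¹ * x * k⁻¹⁻¹) * b⁻¹) *
          (b * b * (k⁻¹ * x * k⁻¹⁻¹) * (b * b)⁻¹)) * k⁻¹ := by group
      _ = 1 := by rw [this]; group
  have σ2 : π s * π s = 1 := by rw [← map_mul, ss, map_one]
  obtain ⟨δ, d3, d1, dv⟩ := t2_B (π s).1 (congrArg Subtype.val σ2) (fun e => s1 (Subtype.ext e))
    (Perm.mem_alternatingGroup.1 (π s).2)
  have hδ : δ ∈ alternatingGroup (Fin 5) := by
    have := congrArg Perm.sign d3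
    rw [map_mul, map_mul, Int.units_mul_self, one_mul, map_one] at this
    exact Perm.mem_alternatingGroup.2 this
  obtain ⟨d, hd⟩ := hs ⟨δ, hδ⟩
  have D3 : π d * π d * π d = 1 := by rw [hd]; exact Subtype.ext d3
  have D1 : π d ≠ 1 := by rw [hd]; exact fun e => d1 (congrArg Subtype.val e)
  have DV : π s * (π d * π s * (π d)⁻¹) = π d * π d * π s * (π d)⁻¹ * (π d)⁻¹ := by
    rw [hd]; exact Subtype.ext dv
  generalize hσ : π s = σ at σ2 DV s1
  generalize hδ' : π d = ε at D3 D1 DV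
  have i1 : σ⁻¹ = σ := inv_eq_of_mul_eq_one_right σ2
  have i2 : ε⁻¹ = ε * ε := inv_eq_of_mul_eq_one_left D3
  have E : σ * ε * (σ * ε) * (σ * ε) = 1 := by
    calc _ = σ * (ε * σ * ε⁻¹) * (ε * ε * σ * ε⁻¹ * ε⁻¹) * (ε * ε * ε) := by group
      _ = ε * ε * (σ * σ) * ε⁻¹ * ε⁻¹ := by rw [DV, D3]; group
      _ = 1 := by rw [σ2]; group
  have E1 : σ * ε ≠ 1 := fun e => by
    have : ε = σ := by rw [← i1]; exact (inv_eq_of_mul_eq_one_right e).symm
    rw [this, σ2, one_mul] at D3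
    exact s1 D3
  letI : CommGroup π.ker :=
    { (inferInstance : Group π.ker) with mul_comm := fun a b => Subtype.ext (hc _ a.2 _ b.2) }
  let f : L → π.ker := fun g => ⟨g * y * g⁻¹, nm hy g⟩
  have R : ∀ g a p q, π g * π g * π g = 1 → π g ≠ 1 → π p = π g * π a → π q = π g * π g * π a →
      f a * f p * f q = 1 := fun g a p q e n e1 e2 => Subtype.ext (by
    show a * y * a⁻¹ * (p * y * p⁻¹) * (q * y * q⁻¹) = 1
    rw [eq (g := p) (h := g * a) hy (by rw [e1, map_mul]),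
      eq (g := q) (h := g * g * a) hy (by rw [e2, map_mul, map_mul]), ← fg g e n _ (nm hy a)]
    group)
  have cjn : ∀ {γ} (α : alternatingGroup (Fin 5)), γ * γ * γ = 1 →
      α * γ * α⁻¹ * (α * γ * α⁻¹) * (α * γ * α⁻¹) = 1 := fun {γ} α e => by
    rw [conj_mul, conj_mul, e]; group
  have Cv : ∀ v, f v * f (v * d) * f (v * (d * d)) = 1 := fun v =>
    R (v * d * v⁻¹) v _ _ (by simp only [map_mul, map_inv, hδ']; exact cjn _ D3)
      (by simpa only [map_mul, map_inv, hδ', ne_eq, conj_eq_one_iff] using D1)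
      (by simp only [map_mul, map_inv]; group) (by simp only [map_mul, map_inv]; group)
  have Rv : ∀ k w, π (w * (d * d)) = π (k * (s * d) * k⁻¹) * π (k * (s * d) * k⁻¹) → ∀ v,
      π (v * d) = π (k * (s * d) * k⁻¹) → f 1 * f (v * d) * f (w * (d * d)) = 1 := fun k w e v e' =>
    R (k * (s * d) * k⁻¹) 1 _ _ (by simp only [map_mul, map_inv, hδ', hσ]; exact cjn _ E)
      (by simpa only [map_mul, map_inv, hδ', hσ, ne_eq, conj_eq_one_iff] using E1)
      (by rw [e', map_one, mul_one]) (by rw [e, map_one, mul_one])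
  have P1 : σ * ε * (σ * ε) = ε * ε * σ * (ε * ε)⁻¹ * (ε * ε) := by
    calc _ = σ * (ε * σ * ε⁻¹) * (ε * ε) := by group
      _ = _ := by rw [DV]; group
  have key := t2_lin (fun a : π.ker => Subtype.ext (h2 _ a.2)) (Cv s) (Cv (d * s * d⁻¹))
    (Cv (d * d * s * (d * d)⁻¹))
    (Rv 1 _ (by simp only [map_mul, map_inv, hδ', hσ, map_one, one_mul, inv_one, mul_one, P1]) _
      (by simp))
    (Rv d _ (by
      simp only [map_mul, map_inv, hδ', hσ]
      rw [conj_mul, P1]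
      calc _ = (ε * ε * ε) * σ * (ε * ε) := by rw [D3, one_mul]
        _ = (ε * ε * ε) * σ * (ε * ε) * (ε * ε * ε)⁻¹ := by rw [D3]; group
        _ = _ := by group) _ (by simp only [map_mul, map_inv]; group))
    (Rv (d * d) _ (by
      simp only [map_mul, map_inv, hδ', hσ]
      rw [conj_mul, P1]
      calc _ = (ε * ε * ε) * (ε * σ * ε⁻¹ * (ε * ε)) * (ε * ε * ε)⁻¹ := by rw [D3]; group
        _ = _ := by group) _ (by simp only [map_mul, map_inv]; group))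
  have key' : 1 * y * 1⁻¹ * (s * y * s⁻¹) * (d * s * d⁻¹ * y * (d * s * d⁻¹)⁻¹ *
      (d * d * s * (d * d)⁻¹ * y * (d * d * s * (d * d)⁻¹)⁻¹)) = 1 := congrArg Subtype.val key
  have hxk : x ∈ π.ker := hx ▸ mul_mem hy (nm hy s)
  have c12 : ε * σ * ε⁻¹ * σ = ε * ε * σ * (ε * ε)⁻¹ := by
    have : (σ * (ε * σ * ε⁻¹))⁻¹ = (ε * ε * σ * ε⁻¹ * ε⁻¹)⁻¹ := by rw [DV]
    simp only [mul_inv_rev, inv_inv, i1] at this
    calc _ = ε * (σ * ε⁻¹) * σ := by group
      _ = _ := by rw [this]; group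
  rw [one_mul, inv_one, mul_one, ← hx, eq (g := d * d * s * (d * d)⁻¹) (h := d * s * d⁻¹ * s) hy (by
    simp only [map_mul, map_inv, hδ', hσ, c12])] at key'
  have fx : d * s * d⁻¹ * x * (d * s * d⁻¹)⁻¹ = x := by
    have e : x * (d * s * d⁻¹ * x * (d * s * d⁻¹)⁻¹) = x * x := by
      rw [h2 x hxk, ← key']
      congr 1
      rw [hx]; group
    exact mul_left_cancel e
  refine ⟨d⁻¹, ?_, fg d⁻¹ ?_ ?_ x hxk⟩
  · conv_rhs => rw [← fx]
    group
  · rw [map_inv, hδ', ← mul_inv_rev, ← mul_inv_rev, ← mul_assoc, D3, inv_one]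
  · rwa [map_inv, hδ', ne_eq, inv_eq_one]

theorem t2 {C : Type u} [Group C] [Finite C] {b s m t : C} (tc : ∀ g, Commute g t) (tt : t*t=1)
    (t1 : t ≠ 1) (hb : orderOf b = 3)
    (cb : ∀ g, g*b*g⁻¹*b⁻¹ ∈ zpowers t → g ∈ zpowers b ⊔ zpowers t) (ss : s*s=1)
    (sb : s*b*s⁻¹=b⁻¹) (mm : m*m=t) (ms : m*s*m⁻¹=t*s) (mb : (m*b)^3=1) (N : Subgroup C) [N.Normal]
    (tN : t ∈ N) (hc : ∀ x ∈ N, ∀ y ∈ N, x*y*x⁻¹*y⁻¹ ∈ zpowers t) (h2 : ∀ x ∈ N, x*x ∈ zpowers t)
    (e : C ⧸ N ≃* alternatingGroup (Fin 5)) : False := by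
  have zt : ∀ x ∈ zpowers t, x * x = 1 ∧ ∀ g, g * x = x * g := by
    rintro _ ⟨n, rfl⟩
    exact ⟨by show t ^ n * t ^ n = 1; rw [← (Commute.refl t).mul_zpow, tt, one_zpow],
      fun g => ((tc g).zpow_right n).eq⟩
  haveI : (zpowers t).Normal := ⟨fun x hx g => by rwa [(zt x hx).2 g, mul_inv_cancel_right]⟩
  let π0 : C →* alternatingGroup (Fin 5) := e.toMonoidHom.comp (QuotientGroup.mk' N)
  have k0 : ∀ g, π0 g = 1 ↔ g ∈ N := fun g => e.map_eq_one_iff.trans (QuotientGroup.eq_one_iff g)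
  let q := QuotientGroup.mk' (zpowers t)
  have kq : ∀ g, q g = 1 ↔ g ∈ zpowers t := fun g => QuotientGroup.eq_one_iff g
  have sq : Function.Surjective q := QuotientGroup.mk'_surjective _
  let π : C ⧸ zpowers t →* alternatingGroup (Fin 5) :=
    QuotientGroup.lift _ π0 fun x hx => (k0 x).2 (zpowers_le.2 tN hx)
  have πq : ∀ g, π (q g) = π0 g := fun g => rfl
  have b3 : b * b * b = 1 := by rw [mul_assoc, ← pow_three, ← hb, pow_orderOf_eq_one]
  have b1 : π0 b ≠ 1 := fun e => by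
    have := (zt _ (h2 b ((k0 b).1 e))).1
    rw [← mul_assoc, b3, one_mul] at this
    rw [this, orderOf_one] at hb
    omega
  have β3 : π0 b * π0 b * π0 b = 1 := by simp only [← map_mul, b3, map_one]
  have σβ : π0 s * π0 b * (π0 s)⁻¹ = (π0 b)⁻¹ := by simp only [← map_mul, ← map_inv, sb]
  have s1 : π0 s ≠ 1 := fun e => by
    rw [e, one_mul, inv_one, mul_one, ← mul_eq_one_iff_eq_inv] at σβ
    rw [σβ, one_mul] at β3
    exact b1 β3
  have πt : π0 t = 1 := (k0 t).2 tN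
  have mb' : m * b * (m * b) * (m * b) = 1 := by rw [mul_assoc, ← pow_three, mb]
  have mN : m ∈ N := (k0 m).1 (Subtype.ext (t2_A (π0 b).1 (congrArg Subtype.val β3)
    (fun e => b1 (Subtype.ext e)) (π0 s).1
    (congrArg Subtype.val (show π0 s * π0 s = 1 by rw [← map_mul, ss, map_one]))
    (congrArg Subtype.val σβ) (Perm.mem_alternatingGroup.1 (π0 s).2) (π0 m).1
    (congrArg Subtype.val (show π0 m * π0 m = 1 by rw [← map_mul, mm, πt]))
    (congrArg Subtype.val (show π0 m * π0 s * (π0 m)⁻¹ = π0 s by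
      rw [← map_inv, ← map_mul, ← map_mul, ms, map_mul, πt, one_mul]))
    (congrArg Subtype.val (show π0 m * π0 b * (π0 m * π0 b) * (π0 m * π0 b) = 1 by
      simp only [← map_mul, mb', map_one]))))
  have ti : t⁻¹ = t := inv_eq_of_mul_eq_one_right tt
  have sm : s * m * s⁻¹ = t * m := by
    have : m * s = t * s * m := by rw [← ms]; group
    calc s * m * s⁻¹ = t⁻¹ * (t * s * m) * s⁻¹ := by group
      _ = _ := by rw [← this, ti]; group
  have dm : m⁻¹ = t * (b * m * b⁻¹ * (s * (b * m * b⁻¹) * s⁻¹)) := by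
    have e1 : s * (b * m * b⁻¹) * s⁻¹ = t * (b⁻¹ * m * b) := by
      calc _ = (s * b * s⁻¹) * (s * m * s⁻¹) * (s * b * s⁻¹)⁻¹ := by group
        _ = (b⁻¹ * t) * m * b := by rw [sb, sm]; group
        _ = _ := by rw [(tc b⁻¹).eq]; group
    have i2 : b⁻¹ = b * b := inv_eq_of_mul_eq_one_left b3
    rw [e1, ← mul_assoc (b * m * b⁻¹), (tc (b * m * b⁻¹)).eq, mul_assoc t, ← mul_assoc t t, tt, one_mul]
    refine inv_eq_of_mul_eq_one_right ?_
    calc _ = m * b * (m * (b⁻¹ * b⁻¹)) * (m * b) := by group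
      _ = 1 := by rw [← mb', i2, show b * b * (b * b) = b * b * b * b by group, b3, one_mul]
  have yN : b * m * b⁻¹ ∈ N := Normal.conj_mem inferInstance _ mN b
  generalize b * m * b⁻¹ = y at dm yN
  obtain ⟨d, e1, e2⟩ := t2_core π (fun α => by
      obtain ⟨g, hg⟩ := (e.surjective.comp (QuotientGroup.mk'_surjective N)) α
      exact ⟨q g, hg⟩)
    (fun x hx y hy => by
      obtain ⟨x, rfl⟩ := sq x
      obtain ⟨y, rfl⟩ := sq y
      have := (kq _).2 (hc x ((k0 x).1 hx) y ((k0 y).1 hy))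
      simp only [map_mul, map_inv] at this
      rwa [mul_inv_eq_one, mul_inv_eq_iff_eq_mul] at this)
    (fun x hx => by
      obtain ⟨x, rfl⟩ := sq x
      rw [← map_mul]; exact (kq _).2 (h2 x ((k0 x).1 hx)))
    (b := q b) (s := q s) (x := q m⁻¹) (y := q y) (by simp only [← map_mul, b3, map_one]) b1
    (fun g hg => by
      obtain ⟨g, rfl⟩ := sq g
      have h1 : g ∈ zpowers b ⊔ zpowers t := cb g ((kq _).1 (by
        simp only [map_mul, map_inv, hg]; group))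
      have h3 : zpowers b ⊔ zpowers t ≤ (zpowers (q b)).comap q :=
        sup_le (zpowers_le.2 (mem_zpowers _)) fun x hx => by
          rw [mem_comap, (kq x).2 hx]; exact one_mem _
      exact h3 h1)
    (by rw [← map_mul, ss, map_one]) s1 ((k0 y).2 yN)
    (by rw [dm, map_mul, (kq t).2 (mem_zpowers t), one_mul]; simp only [map_mul, map_inv])
  obtain ⟨d, rfl⟩ := sq d
  have nn : m⁻¹ * m⁻¹ = t := by rw [← mul_inv_rev, mm, ti]
  have nN : m⁻¹ ∈ N := inv_mem mN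
  generalize m⁻¹ = n at *
  have cn : ∀ g, g * n * g⁻¹ * (g * n * g⁻¹) = t := fun g => by
    rw [conj_mul, nn, (tc g).eq, mul_inv_cancel_right]
  have f1 := zt (s * (d * n * d⁻¹) * s⁻¹ * (d * n * d⁻¹)⁻¹) ((kq _).1 (by
    simp only [map_mul, map_inv] at e1 ⊢; rw [e1, mul_inv_cancel]))
  have f2 := zt (n * (d * n * d⁻¹) * (d * d * n * (d * d)⁻¹)) ((kq _).1 (by
    simpa only [map_mul, map_inv] using e2))
  have g1 := cn d
  have g2 := cn (d * d)
  have pN : d * n * d⁻¹ ∈ N := Normal.conj_mem inferInstance _ nN d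
  generalize d * n * d⁻¹ = p at *
  generalize d * d * n * (d * d)⁻¹ = r at *
  have f3 := zt _ (hc y yN p pN)
  obtain ⟨κ, hκ⟩ : ∃ κ, κ = y * p * y⁻¹ * p⁻¹ := ⟨_, rfl⟩
  obtain ⟨τ, hτ⟩ : ∃ τ, τ = s * p * s⁻¹ * p⁻¹ := ⟨_, rfl⟩
  rw [← hκ] at f3
  rw [← hτ] at f1
  have a1 : y * p * y⁻¹ = κ * p := by rw [hκ]; group
  have a2 : s * p * s⁻¹ = τ * p := by rw [hτ]; group
  have si : s⁻¹ = s := inv_eq_of_mul_eq_one_right ss
  have a3 : s * y * s⁻¹ * p * (s * y * s⁻¹)⁻¹ = κ * p := by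
    calc _ = s * y * (s⁻¹ * p * s⁻¹⁻¹) * y⁻¹ * s⁻¹ := by group
      _ = s * (y * τ) * p * y⁻¹ * s⁻¹ := by rw [si, a2, ← si]; rw [si]; group
      _ = (s * τ) * (y * p * y⁻¹) * s⁻¹ := by rw [f1.2 y]; group
      _ = τ * (s * κ) * p * s⁻¹ := by rw [a1, f1.2 s]; group
      _ = (τ * κ) * (s * p * s⁻¹) := by rw [f3.2 s]; group
      _ = κ * (τ * τ) * p := by rw [a2, f3.2 τ]; group
      _ = _ := by rw [f1.1, mul_one]
  have a4 : n * p * n⁻¹ = p := by
    calc n * p * n⁻¹ = t * (y * (s * y * s⁻¹ * p * (s * y * s⁻¹)⁻¹) * y⁻¹) * t⁻¹ := by rw [dm]; group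
      _ = t * ((y * κ) * p * y⁻¹) * t⁻¹ := by rw [a3]; group
      _ = t * (κ * (y * p * y⁻¹)) * t⁻¹ := by rw [f3.2 y]; group
      _ = p := by rw [a1, ← mul_assoc κ, f3.1, one_mul, ← (tc p).eq, mul_inv_cancel_right]
  have a5 : n * p = p * n := mul_inv_eq_iff_eq_mul.1 a4
  have a6 : n * p * (n * p) = 1 := by
    calc _ = n * (p * n) * p := by group
      _ = n * n * (p * p) := by rw [← a5]; group
      _ = 1 := by rw [nn, g1, tt]
  apply t1
  calc t = (n * p * (n * p)) * (r * r) := by rw [a6, g2, one_mul]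
    _ = (n * p) * ((n * p * r) * r) := by group
    _ = (n * p) * (r * (n * p * r)) := by rw [f2.2 r]
    _ = 1 := by rw [← f2.1]; group

end Cfsg.Agent.H10.Am
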