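import Cfsg.Agent.H15.Words
set_option autoImplicit false
set_option maxRecDepth 100000

namespace Cfsg.Agent.H19.GU7
open Cfsg.Agent.H15 Cfsg.Agent.H14

def tb : Tb := (.node (nat_lit 68) (.node (nat_lit 32) (.node (nat_lit 16) (.node (nat_lit 8) (.node (nat_lit 4) (.leaf (nat_lit 0x28807e00103000801840a203101880c006201f80040800a20200080104042020030403e0000000184040041010808404000000f8000040000000000000000000)) (.leaf (nat_lit 0x9013e00307006b83060e3070020030008303f80081840c0032048c180163060028c0be0000a00100242062081828c14004302f800810010304102000800e304))) (.node (nat_lit 12) (.leaf (nat_lit 0x901be0030b1858c2cc20612003004800c405f800014414211185103c81440a0021017e00011184801460c40e008102400a404f80003c00800e184041441a408)) (.leaf (nat_lit 0x31423e00008187885c03030a20a943c008508f80005c81c0082070c2402c50e002941fe00015003805081a40d084084c000507f801030026d072061030818007)))) (.node (nat_lit 24) (.node (nat_lit 20) (.leaf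 (nat_lit 0x29833e0001e0060074a26513289843400050bf80104882441240c942c82400b0031427e0000900e0428a2261710d9444002509f80006c8204102858068012019)) (.leaf (nat_lit 0x3183be0000e013043c04a511112185c00260ef800090a2c41f28b008c01c0220031837e0000d20a8880042515187907800860df800081c3a00d28a145003e41d))) (.node (nat_lit 28) (.leaf (nat_lit 0x31843e00010015146ce3622908888a0004610f8000a4a3451a5138040c462270001843e0002828c9464e2402728c804000660ff8010608304250079460c42618)) (.leaf (nat_lit 0x9c53e000307958c58c3e02f00a00b800c713f80004ca3c22c0169878c3c3150021c4fe0002c68a004cc3a61d0158c5000a611f80107002231c30e209885461c))))) (.node (nat_lit 48) (.node (nat_lit 40) (.node (nat_lit 36) (.leaf (nat_lit 0x11c5be0003731198bc06c01628d08d0000716f8000d4c4462e31100d0c440160019c57e0052129090c402a03328c18b400c714f800050064115018988046062c)) (.leaf (nat_lit 0x11c67e0003b313989d23401959b046800a717f80149802e42611d1c708727260019c5fe0052501d0c6002e72521c1c9400c716f80005807263001c08dc22e235)))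 (.node (nat_lit 44) (.leaf (nat_lit 0xa077e0003f70f98ace5603e00e80f400a71bf8014a803673341514c463843c0031c6be0001a29898a4e6411b41b90ec00c719f80006407862849408ecc5011b)) (.leaf (nat_lit 0x1207fe0004681f148c08a01f317890c00081ff80011207a522397010cc7a01f001a07be0062d316910003c042396948400c81df80007408211e0201cb047e520)))) (.node (nat_lit 56) (.node (nat_lit 52) (.leaf (nat_lit 0x12087e0063331998a8c66021399a10800a820f8041040405323149cc8890841001a083e006313148c8404042a223a10000c81ff80007c0905240238918240244)) (.leaf (nat_lit 0x3208fe000233a3a1192901243949128006823f800134e6c84501198d944ec49003208be00022026211009624a39a8490004822f800128e688436248088092123))) (.node (nat_lit 60) (.leaf (nat_lit 0x3209fe000274201ced4821286a68ca400a825f80014004a53a09320e8c9e83a002a093e00639012253849e7471931130006824f8018e009e847012013864a44b)) (.node (nat_lit 64) (.leaf (nat_lit 0x324afe0002b02b1cfc0aa254096094800492bf80015205e73e02980ace7c25100024afe000528171cf507a05129700ac00a828f8018f0050a4251e2100e7832a))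 (.leaf (nat_lit 0x124bbe0005a9289cd00b202e02c04bc00492df801d08e8493c3a100b40ae733002a4b3e00f32016190527684122b1cc800692cf801d0127632d01624f08aa731))))))) (.node (nat_lit 104) (.node (nat_lit 84) (.node (nat_lit 76) (.node (nat_lit 72) (.leaf (nat_lit 0x1a4c3e0074741b9ce0060639198916c00c92ff8000bc0be73702f04c0e8c45a001a4bfe0005d9299cd805e7453a2916400c92ef8000b80b873502d89690a4130)) (.leaf (nat_lit 0x1a4d7e0074b031296c06a0614258ce000c934f8000d12b6a5a5ae04d44c0337000a4d3e00060424bd65a6874901a2cd800a930f804558060a5e41b917c66445c))) (.node (nat_lit 80) (.leaf (nat_lit 0x2a4e3e0006301c297c27295e29d1988004938f801d392bc8395af80e109c66100324dbe0003672aa9760ac74d61db98000a935f801d3006ab611311d6d098339)) (.leaf (nat_lit 0x1a8fbe012538a2a14c07c853429919400ca3df8000f40d08520338998e8813f00128f7e000668a1a1440ca03d03204f800c93af8000e8ca065032825410c6950)))) (.node (nat_lit 92) (.node (nat_lit 88) (.leaf (nat_lit 0xa90be0085742bad5d0ae857021255c00aa3ff80412007e06a7a691a4682468001a8ffe008557a6a15407f4551a0119c00ca3ef8000f80d28549aa04fd0a8466))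 (.leaf (nat_lit 0x1a913e0085b525252c08884c5338d1c00ca43f80010c0de94a03705104d8346001a90fe0006da32b9240868591358d14002a43f8001b28c8f6b035a190086758))) (.node (nat_lit 96) (.leaf (nat_lit 0x2a91be01269023253d49c34842f99bc006a46f804da949c948023213d0bc66e0032917e000459aea5364d485d42e99b400aa44f8049a0088c6e52511bd4d0348)) (.node (nat_lit 100) (.leaf (nat_lit 0x3293fe0004f3b1c1a4ec726a3a821c400aa4bf8001c4096c6f0a625b92c454f001292fe008614b729316de04b038153800ca49f8001260cf16d9342180294d4d)) (.leaf (nat_lit 0x1ad4be009677b0259c0a55674ad8d5400cb51f8001440ea966a3305484e8354001ad47e013659aca5940a29651390d4c002b51f8001d26b00730391d600a2864)))))) (.node (nat_lit 120) (.node (nat_lit 112) (.node (nat_lit 108) (.leaf (nat_lit 0x1ad63e00077b3941600b12730aca1ac008b56f8049790d40568aec58ced4676002ad53e0115f02a3d8e8d23564b499d400ab52f8045700a40768b011d52b8356)) (.leaf (nat_lit 0x2ad6be0147502d2d894c235c23c957c006b5af8051d94c2b5c02d21888f055e0032d67e00059ab6c1828ec96d23b957400cb58f8001600f317703c29d02b486c)))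 (.node (nat_lit 116) (.leaf (nat_lit 0x23193e0007bc3d01926f516b4b9a5cc006c64f8051caad737a03201e82ca9720032d8be00062438d1d50e36765389d8c002b61f8025c16f0c706bca5c00c2970)) (.leaf (nat_lit 0x331afe0006bbbbc1b2cfb47b1b6a5dc008c68f804db92ec0689b6d5c40fa56a002b19be0136f03355c6aea36823e15a400cc64f8001900f827baba25b02cc974)))) (.node (nat_lit 128) (.node (nat_lit 124) (.leaf (nat_lit 0x335cfe00073cbd85d2cf737753da9ec004d72f8055eaee747293981c94f4a7a002b1b3e0167c03661e58e0c7c1b7a5e4006c6cf8059f58e0d7d03659e06dc978)) (.leaf (nat_lit 0x2183180ff000410033e01f0004085f80085076867c00100007f807c03e0027f000b5dbe0157853eb1e2aef77d03b21f400ad74f8055e40e9a7cb3e2de46eaa7c))) (.node (nat_lit 132) (.leaf (nat_lit 0x21e01a3bf0008a7c03e01f00043fc0000a77f586fc000fe086f807c0050a3800009dffe01f00042fc03e00084f807c0000a67e609fc000fc083f807c03e01f00)) (.node (nat_lit 136) (.leaf (nat_lit 0xa20dc57f0010ffc03e01f00f807c0000888260a7c0023bf00f807c00113f00002a205411f00040fc03e002880c17c00004881f807c00111f00f807c03e01f00))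 (.leaf (nat_lit 0x2a4bde7df00017fc03e01f00f807c0000a92e79efc0005df00f807c03e01f00000a619a3ff00115fc03e01f00f807c0000a984482fc03e01f00f800617e01f00))))))))
def wt : Wt := (.node (nat_lit 27) (.node (nat_lit 13) (.node (nat_lit 6) (.node (nat_lit 3) (.node (nat_lit 1) (.leaf [nat_lit 0, nat_lit 6, nat_lit 0, nat_lit 6]) (.node (nat_lit 2) (.leaf [nat_lit 1, nat_lit 6, nat_lit 1, nat_lit 6]) (.leaf [nat_lit 2, nat_lit 6, nat_lit 2, nat_lit 6]))) (.node (nat_lit 4) (.leaf [nat_lit 4, nat_lit 6, nat_lit 4, nat_lit 6]) (.node (nat_lit 5) (.leaf [nat_lit 0, nat_lit 3, nat_lit 0, nat_lit 3]) (.leaf [nat_lit 1, nat_lit 3, nat_lit 1, nat_lit 3])))) (.node (nat_lit 9) (.node (nat_lit 7) (.leaf [nat_lit 4, nat_lit 3, nat_lit 4, nat_lit 3]) (.node (nat_lit 8) (.leaf [nat_lit 6, nat_lit 3, nat_lit 6, nat_lit 3, nat_lit 6, nat_lit 3]) (.leaf [nat_lit 0, nat_lit 5, nat_lit 0, nat_lit 5]))) (.node (nat_lit 11) (.node (nat_lit 10) (.leaf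 [nat_lit 1, nat_lit 5, nat_lit 1, nat_lit 5]) (.leaf [nat_lit 2, nat_lit 5, nat_lit 2, nat_lit 5])) (.node (nat_lit 12) (.leaf [nat_lit 6, nat_lit 5, nat_lit 6, nat_lit 5, nat_lit 6, nat_lit 5]) (.leaf [nat_lit 0, nat_lit 2, nat_lit 0, nat_lit 2]))))) (.node (nat_lit 20) (.node (nat_lit 16) (.node (nat_lit 14) (.leaf [nat_lit 4, nat_lit 2, nat_lit 4, nat_lit 2]) (.node (nat_lit 15) (.leaf [nat_lit 6, nat_lit 2, nat_lit 6, nat_lit 2]) (.leaf [nat_lit 3, nat_lit 2, nat_lit 3, nat_lit 2, nat_lit 3, nat_lit 2]))) (.node (nat_lit 18) (.node (nat_lit 17) (.leaf [nat_lit 3, nat_lit 5, nat_lit 3, nat_lit 5]) (.leaf [nat_lit 3, nat_lit 3])) (.node (nat_lit 19) (.leaf [nat_lit 0, nat_lit 4, nat_lit 0, nat_lit 4]) (.leaf [nat_lit 2, nat_lit 4, nat_lit 2, nat_lit 4])))) (.node (nat_lit 23) (.node (nat_lit 21) (.leaf [nat_lit 6, nat_lit 4, nat_lit 6, nat_lit 4]) (.node (nat_lit 22) (.leaf [nat_lit 5, nat_lit 4, nat_lit 5, nat_lit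 4, nat_lit 5, nat_lit 4]) (.leaf [nat_lit 3, nat_lit 1, nat_lit 3, nat_lit 1]))) (.node (nat_lit 25) (.node (nat_lit 24) (.leaf [nat_lit 6, nat_lit 1, nat_lit 6, nat_lit 1]) (.leaf [nat_lit 2, nat_lit 1, nat_lit 2, nat_lit 1, nat_lit 2, nat_lit 1])) (.node (nat_lit 26) (.leaf [nat_lit 2, nat_lit 2]) (.leaf [nat_lit 3, nat_lit 4, nat_lit 3, nat_lit 4])))))) (.node (nat_lit 41) (.node (nat_lit 34) (.node (nat_lit 30) (.node (nat_lit 28) (.leaf [nat_lit 3, nat_lit 6, nat_lit 3, nat_lit 6, nat_lit 3, nat_lit 6]) (.node (nat_lit 29) (.leaf [nat_lit 5, nat_lit 6, nat_lit 5, nat_lit 6, nat_lit 5, nat_lit 6]) (.leaf [nat_lit 5, nat_lit 1, nat_lit 5, nat_lit 1]))) (.node (nat_lit 32) (.node (nat_lit 31) (.leaf [nat_lit 4, nat_lit 1, nat_lit 4, nat_lit 1, nat_lit 4, nat_lit 1]) (.leaf [nat_lit 2, nat_lit 0, nat_lit 2, nat_lit 0])) (.node (nat_lit 33) (.leaf [nat_lit 3, nat_lit 0, nat_lit 3, nat_lit 0]) (.leaf [nat_lit 6, nat_lit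 0, nat_lit 6, nat_lit 0])))) (.node (nat_lit 37) (.node (nat_lit 35) (.leaf [nat_lit 1, nat_lit 0, nat_lit 1, nat_lit 0, nat_lit 1, nat_lit 0]) (.node (nat_lit 36) (.leaf [nat_lit 1, nat_lit 1]) (.leaf [nat_lit 4, nat_lit 4]))) (.node (nat_lit 39) (.node (nat_lit 38) (.leaf [nat_lit 4, nat_lit 0, nat_lit 4, nat_lit 0]) (.leaf [nat_lit 5, nat_lit 0, nat_lit 5, nat_lit 0])) (.node (nat_lit 40) (.leaf [nat_lit 2, nat_lit 1, nat_lit 4, nat_lit 5, nat_lit 0, nat_lit 6, nat_lit 2, nat_lit 1, nat_lit 4, nat_lit 5, nat_lit 0, nat_lit 6, nat_lit 2, nat_lit 1, nat_lit 4, nat_lit 5, nat_lit 0, nat_lit 6, nat_lit 2, nat_lit 1, nat_lit 4, nat_lit 5, nat_lit 0, nat_lit 6, nat_lit 2, nat_lit 1, nat_lit 4, nat_lit 5, nat_lit 0, nat_lit 6]) (.leaf [nat_lit 0, nat_lit 0]))))) (.node (nat_lit 48) (.node (nat_lit 44) (.node (nat_lit 42) (.leaf [nat_lit 5, nat_lit 3, nat_lit 5, nat_lit 3]) (.node (nat_lit 43) (.leaf [nat_lit 2, nat_lit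 3, nat_lit 2, nat_lit 3, nat_lit 2, nat_lit 3]) (.leaf [nat_lit 5, nat_lit 2, nat_lit 5, nat_lit 2]))) (.node (nat_lit 46) (.node (nat_lit 45) (.leaf [nat_lit 4, nat_lit 5, nat_lit 4, nat_lit 5, nat_lit 4, nat_lit 5]) (.leaf [nat_lit 1, nat_lit 2, nat_lit 1, nat_lit 2, nat_lit 1, nat_lit 2])) (.node (nat_lit 47) (.leaf [nat_lit 2, nat_lit 1, nat_lit 5, nat_lit 4, nat_lit 6, nat_lit 3, nat_lit 2, nat_lit 1, nat_lit 5, nat_lit 4, nat_lit 6, nat_lit 3, nat_lit 2, nat_lit 1, nat_lit 5, nat_lit 4, nat_lit 6, nat_lit 3, nat_lit 2, nat_lit 1, nat_lit 5, nat_lit 4, nat_lit 6, nat_lit 3]) (.leaf [nat_lit 5, nat_lit 5])))) (.node (nat_lit 51) (.node (nat_lit 49) (.leaf [nat_lit 3, nat_lit 6, nat_lit 4, nat_lit 5, nat_lit 1, nat_lit 2, nat_lit 3, nat_lit 6, nat_lit 4, nat_lit 5, nat_lit 1, nat_lit 2, nat_lit 3, nat_lit 6, nat_lit 4, nat_lit 5, nat_lit 1, nat_lit 2, nat_lit 3, nat_lit 6, nat_lit 4, nat_lit 5, nat_lit 1, nat_lit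 2]) (.node (nat_lit 50) (.leaf [nat_lit 6, nat_lit 6]) (.leaf [nat_lit 0, nat_lit 1, nat_lit 0, nat_lit 1, nat_lit 0, nat_lit 1]))) (.node (nat_lit 53) (.node (nat_lit 52) (.leaf [nat_lit 6, nat_lit 4, nat_lit 5, nat_lit 1, nat_lit 2, nat_lit 3, nat_lit 6, nat_lit 4, nat_lit 5, nat_lit 1, nat_lit 2, nat_lit 3, nat_lit 6, nat_lit 4, nat_lit 5, nat_lit 1, nat_lit 2, nat_lit 3, nat_lit 6, nat_lit 4, nat_lit 5, nat_lit 1, nat_lit 2, nat_lit 3]) (.leaf [nat_lit 5, nat_lit 0, nat_lit 6, nat_lit 2, nat_lit 1, nat_lit 4, nat_lit 5, nat_lit 0, nat_lit 6, nat_lit 2, nat_lit 1, nat_lit 4, nat_lit 5, nat_lit 0, nat_lit 6, nat_lit 2, nat_lit 1, nat_lit 4, nat_lit 5, nat_lit 0, nat_lit 6, nat_lit 2, nat_lit 1, nat_lit 4, nat_lit 5, nat_lit 0, nat_lit 6, nat_lit 2, nat_lit 1, nat_lit 4])) (.node (nat_lit 54) (.leaf [nat_lit 4, nat_lit 6, nat_lit 3, nat_lit 2, nat_lit 1, nat_lit 5, nat_lit 4, nat_lit 6, nat_lit 3, nat_lit 2, nat_lit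 1, nat_lit 5, nat_lit 4, nat_lit 6, nat_lit 3, nat_lit 2, nat_lit 1, nat_lit 5, nat_lit 4, nat_lit 6, nat_lit 3, nat_lit 2, nat_lit 1, nat_lit 5]) (.leaf [nat_lit 1, nat_lit 4, nat_lit 1, nat_lit 4, nat_lit 1, nat_lit 4])))))))
noncomputable def P : TCP where
  lk := tlk tb (nat_lit 3) (nat_lit 10) (nat_lit 13) (nat_lit 8191)
  inv := invT (nat_lit 417753473088) (nat_lit 7)
  wt := wt.get
  gens := [nat_lit 0, nat_lit 1, nat_lit 2, nat_lit 3, nat_lit 4, nat_lit 5, nat_lit 6]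
  N := nat_lit 140
  n := nat_lit 126
  eps := nat_lit 7
  VM := nat_lit 255
  Wv := nat_lit 8
  MAXB := nat_lit 7936
  JM := nat_lit 127
  Wj := nat_lit 7
  Hm := nat_lit 63
def ls : List Nat := [nat_lit 0, nat_lit 1, nat_lit 2, nat_lit 3, nat_lit 4, nat_lit 5, nat_lit 6, nat_lit 7]
noncomputable def ap : Nat → Nat → Nat := tlk tb (nat_lit 3) (nat_lit 10) (nat_lit 13) (nat_lit 255)
def bases : List (List Nat × Nat) := [([0, 0], 1), ([0, 1], 3), ([0, 2], 2), ([0, 3], 2), ([0, 4], 2), ([0, 5], 2), ([0, 6], 2), ([1, 1], 1), ([1, 2], 3), ([1, 3], 2), ([1, 4], 3), ([1, 5], 2), ([1, 6], 2), ([2, 2], 1), ([2, 3], 3), ([2, 4], 2), ([2, 5], 2), ([2, 6], 2), ([3, 3], 1), ([3, 4], 2), ([3, 5], 2), ([3, 6], 3), ([4, 4], 1), ([4, 5], 3), ([4, 6], 2), ([5, 5], 1), ([5, 6], 3), ([6, 6], 1), ([1, 2, 3, 6, 4, 5], 4), ([1, 4, 5, 0, 6, 2], 5)]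
theorem c0 : RowsGood P ls 0 140 :=
  rowsGood_of (Js := [nat_lit 0x41020408102, nat_lit 0x8a0220304, nat_lit 0x48090000470c, nat_lit 0x680014c60b14, nat_lit 0x8009e440009c, nat_lit 0x400148d8b14, nat_lit 0xb17004ca80a8, nat_lit 0xc808fd80060014d60d0001, nat_lit 0x40014862514, nat_lit 0x570070d80a8, nat_lit 0x1e4c74d8304, nat_lit 0xc9f404cd8001, nat_lit 0x11808ff80060014d890a400, nat_lit 0x40014860b54, nat_lit 0x570070a80a8, nat_lit 0x1e4c0222504, nat_lit 0x5f406004001, nat_lit 0x8a74da504, nat_lit 0x11a84e4d4a400, nat_lit 0x40014860b14, nat_lit 0x483c003000b18070a80d4, nat_lit 0x1e4c0220354, nat_lit 0x5f4c6004001, nat_lit 0x8a0222504, nat_lit 0x4ab4c016250c, nat_lit 0x684e8806400, nat_lit 0x6d1e4c02554, nat_lit 0x8a74d8354, nat_lit 0x6805c48da514, nat_lit 0x486c003000b18070a80a8, nat_lit 0x1e4c0220304, nat_lit 0x487c003000b1c06004001, nat_lit 0x8a0222554, nat_lit 0x4ab4c0004754, nat_lit 0x684c8806400, nat_lit 0x6d4c0202f54,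 nat_lit 0xcc02d8354, nat_lit 0x48090016250c, nat_lit 0x6805c4c62514, nat_lit 0x6d1e440251c, nat_lit 0x8a74d8304, nat_lit 0x2d0a4c22554, nat_lit 0x6804c48d8b54, nat_lit 0x489c003000b1c06004001, nat_lit 0x8a0222504, nat_lit 0x4ab4c000470c, nat_lit 0x48ac003000b1ce8806500, nat_lit 0x48bc003000b19e0202f54, nat_lit 0x8a02d8354, nat_lit 0x4b1100182554, nat_lit 0x19805c4862554, nat_lit 0x82d1e4402f54, nat_lit 0x6d4c880009c, nat_lit 0xcc02d8304, nat_lit 0x6b4c0160754, nat_lit 0x2d4c4c20354, nat_lit 0x480cc0004754, nat_lit 0x6804c4cd8b54, nat_lit 0x405c4862514, nat_lit 0x280a4c22504, nat_lit 0x6804c4908b14, nat_lit 0x58a8003000b1ce8806400, nat_lit 0x58b8003000b19e0202f54, nat_lit 0x8a02d8354, nat_lit 0x4b11000da50c, nat_lit 0x6805c4862514, nat_lit 0x82d1e440009c, nat_lit 0x711e020009c, nat_lit 0x8a02da504, nat_lit 0x71100160754, nat_lit 0x8a0220354, nat_lit 0x4b1100180754, nat_lit 0x19804c48d8b54, nat_lit 0x5f4c4cd0068, nat_lit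 0x284c4c22504, nat_lit 0x480cc000470c, nat_lit 0x6804c4d08b14, nat_lit 0x1f4c4c20354, nat_lit 0x82d1e4c02f54, nat_lit 0x404c48d8b54, nat_lit 0x1e0a7422504, nat_lit 0x6d1e020009c, nat_lit 0x8a02d8304, nat_lit 0x1aab100160754, nat_lit 0x8a7420354, nat_lit 0x4b1100160754, nat_lit 0x6800148d8b54, nat_lit 0xc9f4060d0068, nat_lit 0x714002d8068, nat_lit 0x7110016250c, nat_lit 0x8a0222504, nat_lit 0x4b11000da50c, nat_lit 0x19804c48da514, nat_lit 0x1e0a4c20354, nat_lit 0x19b1100160754, nat_lit 0x19805c4860b54, nat_lit 0x314c4c20304, nat_lit 0x82d1e4c0009c, nat_lit 0x404c48d8b14, nat_lit 0x1e4c74d8354, nat_lit 0x5f0102d0068, nat_lit 0x11ab10016250c, nat_lit 0x8a7422504, nat_lit 0x4b610016070c, nat_lit 0x6800148d8b14, nat_lit 0x6806e4860b54, nat_lit 0xb170070ab854, nat_lit 0x714c00d870c, nat_lit 0xcc02d8304, nat_lit 0x1e0a4c22504, nat_lit 0x19b110016250c, nat_lit 0x19805c4862514, nat_lit 0xc9f404cd0068, nat_lit 0x1e0a74d8304,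 nat_lit 0xcab10000470c, nat_lit 0x71004cab828, nat_lit 0xcc7420304, nat_lit 0x6804c4862514, nat_lit 0xb170070a80a8, nat_lit 0x1e0a4cd8304, nat_lit 0x19b14c016070c, nat_lit 0x19805c48d8b14, nat_lit 0x82d4c4402f1c, nat_lit 0x1e0a7420304, nat_lit 0x6805c4860b14, nat_lit 0xc9f4060d0068, nat_lit 0x80c4e0016003c604054, nat_lit 0x10586c002c0078c08002ff00007001a9, nat_lit 0x10586c002c00754001, nat_lit 0x81, nat_lit 0x42e11000b001cb0006514, nat_lit 0x40627000b001cd07e800048015781, nat_lit 0x1, nat_lit 0x88c1600160036e01b16, nat_lit 0x4161b000b001cd07f800048015781, nat_lit 0x83c7600160039641c0007001bf, nat_lit 0x7f8000000000000e0063298, nat_lit 0x86c520016003964340007001bf, nat_lit 0x22a000040010a80, nat_lit 0x22e000040010c80]) (by decide +kernel)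
theorem f0 : RowsGood P ls 0 140 :=
  c0
theorem good : RowsGood P (List.range (P.eps + 1)) 0 P.N :=
  (f0 : RowsGood P ls 0 140)
theorem idx {G : Type*} [Group G] {E : ℕ → G} {inv : ℕ → ℕ} (hi : ∀ l, E (inv l) = (E l)⁻¹)
    {B : List (List ℕ × ℕ)} (hB : ∀ p ∈ B, lprod E p.1 ^ p.2 = 1) (σ : List (List ℕ))
    {hs ks : List (List ℕ)} (hc : certOk P wt bases inv B σ hs ks = true) :
    (gp E hs).relIndex (gp E ks) ≠ 0 ∧ (gp E hs).relIndex (gp E ks) ≤ 126 :=
  tc_gp hi hB rfl (fun _ h => invT_of_le h) good σ hc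

end Cfsg.Agent.H19.GU7
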