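import Cfsg.Agent.H19.Lift
import Cfsg.Agent.H19.GU7
import Cfsg.Agent.H19.GU8

/-! # Double covers of `U₆(2)` and `Fi₂₂` -/

set_option autoImplicit false
set_option maxRecDepth 100000
set_option maxHeartbeats 400000

namespace Cfsg.Agent.H19

open Cfsg.Agent.H14 Cfsg.Agent.H15 Subgroup

universe w

variable {G M : Type*} [Group G] [Group M]

/-! ### lower bounds for orders -/

/-- conjugation action on an invariant set -/
@[reducible] def cjG (S : Set G) (h : ∀ g, ∀ x ∈ S, J g x ∈ S) : MulAction G S where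
  smul g x := ⟨J g x, h g x x.2⟩
  one_smul x := Subtype.ext (J_one _)
  mul_smul a b x := Subtype.ext (J_mul _ _ _)

/-- the table action with the points as letters -/
noncomputable def Lab.tab {R : Raw} {c : ℕ → G} (l : Lab R c)
    (h : ∀ g, ∀ x ∈ Im R c, J g x ∈ Im R c) (h0 : 0 < R.n) : @TabAct G (Im R c) _ (cjG _ h) :=
  letI := cjG _ h
  { e := c, L := R.n, n := R.n, ap := R.mul
    c := fun x => if hx : x < R.n then ⟨c x, mem_Im hx⟩ else ⟨c 0, mem_Im h0⟩
    lt := fun _ hx _ hq => l.mul_lt hx hq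
    act := fun x hx q hq => Subtype.ext (by
      simp only [dif_pos hx, dif_pos (l.mul_lt hx hq), l.mul_eq hx hq, inv_of_sq (l.sq q hq)]
      rfl)
    inj := fun x hx y hy e => l.inj x hx y hy (by
      simpa only [dif_pos hx, dif_pos hy, Subtype.mk.injEq] using e) }

/-- the words of a chain -/
noncomputable def chW (ch : List (List (List ℕ) × ℕ × ℕ)) : List (List ℕ) :=
  List.rec (motive := fun _ => List (List ℕ)) [] (fun s _ ih => s.1 ++ ih) ch

/-- a stabiliser chain in point words -/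
noncomputable def Raw.lowOk (R : Raw) (ch : List (List (List ℕ) × ℕ × ℕ)) : Bool :=
  List.rec (motive := fun _ => Bool) true
    (fun s t ih => stepOk R.mul R.n R.n id s.1 (chW t) s.2.1 s.2.2 && ih) ch

theorem Lab.low [Finite G] {R : Raw} {c : ℕ → G} (l : Lab R c)
    (h : ∀ g, ∀ x ∈ Im R c, J g x ∈ Im R c) (h0 : 0 < R.n) {ch : List (List (List ℕ) × ℕ × ℕ)}
    (ok : R.lowOk ch = true) : (ch.map fun s => s.2.2).prod ≤ Nat.card (gp c (chW ch)) := by
  letI := cjG _ h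
  have : (l.tab h h0).Lower (gp c (chW ch)) (ch.map fun s => s.2.1) (ch.map fun s => s.2.2).prod := by
    induction ch with
    | nil => exact TabAct.lower_nil _ _
    | cons s t ih =>
      have ok : (stepOk R.mul R.n R.n id s.1 (chW t) s.2.1 s.2.2 && R.lowOk t) = true := ok
      rw [Bool.and_eq_true] at ok
      exact TabAct.Lower.step (A := l.tab h h0) (ih ok.2) ok.1
  exact this.le_card

namespace Dbl
def redU : List (ℕ × ℕ) := [(0, 23), (13, 13), (5, 20), (3, 8), (0, 13), (17, 5), (19, 2), (13, 7), (7, 14), (6, 14), (5, 17), (2, 19), (4, 21), (2, 20), (0, 21), (16, 6), (5, 18), (2, 13), (2, 12), (1, 15), (0, 15), (13, 1), (13, 0), (12, 0), (11, 0), (9, 1), (7, 2), (5, 3), (7, 0), (3, 3), (5, 0), (4, 0), (3, 0), (1, 1), (1, 0), (0, 0)]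
def red22 : List (ℕ × ℕ) := [(1, 44), (0, 1), (35, 7), (41, 0), (35, 6), (29, 13), (31, 10), (29, 16), (28, 16), (20, 23), (26, 16), (20, 22), (14, 29), (16, 26), (14, 32), (13, 32), (5, 39), (11, 32), (5, 38), (0, 44), (1, 42), (3, 48), (0, 47), (46, 1), (42, 4), (42, 5), (7, 44), (0, 7), (5, 33), (1, 36), (2, 34), (1, 39), (31, 10), (40, 1), (28, 12), (37, 2), (25, 14), (38, 1), (23, 15), (36, 1), (19, 18), (36, 1), (15, 21), (34, 1), (12, 23), (34, 1), (9, 25), (32, 1), (7, 26), (32, 1), (3, 29), (30, 1), (28, 5), (27, 6), (24, 11), (16, 19), (21, 16), (19, 18), (14, 25), (5, 34), (11, 30), (9, 32), (3, 40), (0, 43), (1, 44), (0, 45), (1, 47), (0, 46), (41, 4), (41, 8), (4, 46), (2, 38), (39, 1), (0, 43), (33, 14), (46, 1), (29, 17), (28, 19), (43, 3), (45, 0), (22, 22), (42, 1), (17, 29), (45, 1), (13, 32), (12, 34), (42, 3), (44, 0), (5, 38), (41, 1), (39, 8), (30, 20), (29, 20), (20, 29), (15, 34), (13, 1), (12, 1), (11, 3),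 (8, 6), (1, 16), (8, 11), (7, 12), (5, 13), (2, 23), (26, 4), (29, 0), (27, 1), (22, 5), (23, 3), (25, 0), (16, 8), (23, 0), (22, 0), (14, 7), (20, 0), (19, 0), (17, 1), (17, 0), (16, 0), (15, 0), (14, 0), (13, 0), (11, 1), (4, 7), (10, 0), (2, 7), (8, 0), (7, 0), (2, 4), (1, 4), (4, 0), (0, 3), (2, 0), (1, 0), (0, 0)]
def dlT : ℕ := nat_lit 0xdb4db5db2db3db1d1fbb8daed41dacdabd09d11da8d1d979d10d1ada3da2da1da0d9bd9cca9d9ed9fcacd98d99ca6d8bd95d94d93aabaa4aa1d8fd86d8cd8dd96d84d81c9cd85d8ed87d8aa95d78d89867d7ed7fd7cd7dd7bd7ad71d82c6fab7a98a8dd6ad72d79ca0c6ea94c5cd6cc6ad73d69c6284bd66d65c6d86486c851c4dc5bd5ec6c866c5ac69d59c13c4cc59d2dd52d51d54d53d29bbbd4ed4dd49d4bd4ad4cd48d47d46d44d45bd6bb1dadd40d1cd3ed3abc8bccd3dbcbd38d37bc5980976d0fd08d22d30d2fd2ed55bd7bc6bc3d5098199397a977961d23d31d12d1edb0d20da7d3fd15da4bd4d1898fd0ed1bd13d14d21da9da5d33d16786967bb2ce9daad32d06d0778ccffd02d0396acf3d04cfe784787cfbcfaba4cedcf7b7c985b7fd00cf2cf1cd676cc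e0cf8ce3cebce1d0ace8b7998e969960cecce2ceacee792cde772bbeb78966b5acd8b74cf0b42b6579a63ecd1b93ccfcceb5bb7779db57b40b59af6b08b76b58b73b41b64c84cbdcbccbfcbec81c9ecb3c80cb7cb6cb5cb4cb9c7ca99cafcb0ac6ca7d9aca8c96d9dcabcadd97ca5ca4ca3abaa8ed70c9fcbac6bd88c98aa7c7ec9baaacaac95aa3aa5c92c9187486d8806e66cc86584c6b7c76c61c4ec70cc0ac7ab1cbbcb8abbc99c7dcb2881a92a96a5d87cc88c75c74c5ec71c72c85d77d6fd64d5dc9dd6bd5aab4ac4c66c65ab8c58d68c87c60c5dc73c5fd6dd5fd5bd56c63c56c57855852a8fc51c52c26c30c86d60d57c4bc3c6bcc486d26bb5d0c37c3fc42856872c439eebffc4a6ca6cd84fc2cc44c36c35c34869a78c1bc4f5c2c2ea1bc38a4288f871a5e2aec50c25c24c065cdc166b6c1ca36a66c1fc316d7c19c08a61c21c15c01d58a19c11a3f87b9fca296e46c127828fc18c07c23a65a34a62c02c14a1ac3da416f820926fbfaa60a32a9ba3ea17a3c9faa27a131fd276bee9d49e3a5fbeaa18a3d9fba28179208b91bdcb90be0bdfbdebddbe2b8dbbabd3b8cd2cd43bd5d19bd9b89b72bd0bcf9a2b7ad3bd39bc7bc9d3cbcad2bd36bc4d2abc2992bc097ecdcbbdba9d4fbdab75dafbb497cb8bbb79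7fd0bd42bb097878a78d64363cbaabbc97b62f577988cf97b079379e65263d78576d655583778b7bb5db92b43b66b0ecd0b97be3be19a3b8ebdbbd8bb5b8abd299496596857656a57a9a092a79bcf429bb5ccf6b99bcdce7cdbccccc5bb9cd7cc3bd198cb6fb70b5eb67b6cb6bb6a990254b6db95cd4cc1b62b63b612ac2a3b6eb98b7dccdcd9cc8cc4ccab3ab3eb547776511bf77378b963962b4a934b4c791b14b26af82a1b2db96cd5cc2cc9b03b55645b1eb22b561b2632b3764276e640b15b27904234932b18b44b2c9079117ad790b32b472488dab1fb3bb20b21b23b3c63b24a77176fb19b2e255933b33b48b13b12b11788af3b9494690223292faeccc6133631b058e5b3f90f7acaf08fa6626351cf64825229ab46af7cc71b0630b0f63faedb00903931af1b099106641ca263ae7ad892e90092cae2ad28e390d8c78f88dd1bd233251ae6ad793090192dad3ae18e490e8f913a1491ba22caaeac3a5cc83caeac5c67ac9a5a20d16e0f5a97ab6a59c7fca2ab9c64d76abda56c68a3a5c5c82ab0892acaa400fdd92c97aa6aa8c9aaa9c93d91c94aa2d90aa087fa9ea9d86bbf7a81cb1d75abec79d83d6ea90c7aa58a93c53ca1d74a8c6d16cf5d318a6d35de5436cb5cca82a9a8685445385bf5ce5c0893875c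326f95ee6d86e75dc6b88545f16dc6eb5dd5e180ca68a37a6aa43c1dc05a2aa14c03c17bf9bebc28c78ac8a5bac2abca91a57ab588284e8535365c387a53a5c15e05cf8908126f687d863291279a35a67c2bbfeaadc10bf6be8bf4292ab38792b3a69c1ea44c04a2bbf82b4a30a2fa2e87e277a33a64c0dbe6bf2a25a266d55ed20f83d862a1fa1e21f2b1c2dc00c12be9bf51fea0fa63bf19f69f89d7a15a0e6c06e56be1ff8506d084d9f3a02290818a057f5a009c89d9289c0ebe7bf39f9a1117aa125d183ba0621b9f19f09d3c3e16f6b99eb6ce9cb9dd7f11e58169cebec9e27f46aa7ff6f59e85d22172999fe1faa109d59d6bed9ef6bd1fc6ba9cf9e420a8179e90fb21a9ff9c79c69b482c7ef8149ae16d9bf7dc7fd9b27ea17818820626e9b616c9c59af9bc7f08159b39c17fe08d10a17718521913298499f928b8fbce9a1b829a59262a725913013b1310bb56f98d925b88d27bc1991b69d17ce6996b7190691f634ba59877afcf59a625613cd28d35bb3bbf97dbb6ba8d26da6bafd25d349759749739727899519505185160cc139d01ce5b86d0ccdab87924b4eb4dd24ce478264159464a57c1d16575825847766331c095395297096f52058556856963a5786227b1929b0d66559279479f6537757a27616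5426666a5937377a36567362a4b4bb16b2faeead6b0aae5ad4ae32adb819479a492799e9959649237a056e62798a7995865796236397528fe73c7ae79c9147832a2b2aaebb02ad0adf26790b8e08ef2abb2b98b2a0b31aefb0cad5ae42a99188fd8fc24baffacfadd8e28f41be8f66446636492589097818ed8ec2621d01578bc8c929eb04ad1ae08f714a90a8df1b1adc8c38c5b248d97742497708bf8d12537408d472475b14c57d1382618ca8e7247ade8c68db1bb8dc64624475c8d51cb1378e88a71ae8b98a28af72073e8a48b31ab72b0cb8b71481b91c72601ad8a88a98bb1af8a58b473f8b80ca0b81471c924e0f30fe54010d11e22988e81082ea7aaaf891a4bc2a8962af27d28720e16917c16a0ff5c482480ea55c7bc8ea9fa2da48c77c0fa50a3980b6ab116a79c90873c40c2928d20c17bc8fd62a9c86ac33a80d80d5cc8bd63a47a2086186085f83953f10c17650454554110ec41c55a71a53c54d61a09c39a54a07c8ad6784a6c96c86a92215f354d6dd5d418b6ed5df6bfa2183c9f46e385e83854e5d618d5505ca5395b25c882f8948119c46fa5ef6d96e86ae8262228848236ea6e96c769e2206ff5f268b6ec2b2a039cc9e59b09c22b5a4a82d89580f8835b7a6b8785e269a5c98076a27ed6916f78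028012b09df9ad9bd7fc1892937f97d77e328ea019e17d42749e79b19c327f8057ec2889bb7da7e62077e86d62867f77e22187e01757de2729be7db7e91862817f827c1737f31f87c17c27d01fb7bf7cb6937cd1f510b0fa18421628b1f97c37d17d21f67ce0f917020312e13d0e157f14e74b26b1df73a750948ba3986916b29b012a629c1aa2451ac15d13e62493893f749922942ba1ccb915b80cd391e75d0e914f257943ba2cdfb49b282501bcbadd05b4fbae971b10cfcd0db9ecfd91395f8ee78077f75a51f57e14d521580b9ab539569408d8b50cddb1b8d6b1ab35b9dcef76b76a74663874c1d266c59564b65893e7601d459a7988c08cf77e1d359761759962d6135729197517b273b66674d7677b674a7a165a74776962a72e61866b29f8d28a38b52a891774f7b361a2aa93993665973462c23a73161c71e74472d29d8b171d7291c82697262a58d01b87222308b623872f72a1b523e24670d7177182437151dd2411361b324d22e70e71923b2361351b416616b0b31275d85f819d69c6b181d2831ef2286a082ba77bfd803a499de1f42851f719b12417d69b84081aa6e822821828a74c8da0cc0c83a12536718f5d95f9843a6f28c20b829a75c1a7e5a24205a87c47a8ba08a8a9eac3ac8ca84c3b8498488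206c618e54f5d7551c0ba0d83ea0b9d2c49c469d09eca72c89c206b56996b36b270069d5f48276ad5fa8779e08475b65f66a66895bb2808066a16fb69f81f6b07016ee8096b46985b96856952737cc27e80469020241268d28281b47e6a51e96871ed69627167a68222627b2241712011e31e76831eb1721a715e1610ee38e16064c67066f62562876574293b23d26a1e074e945aea8f2afe2424b815c1c13793e0156748735762959937b9c93d941ba0b5215f38d64e64d67176395c8f1afb24f8c2b3d8f3bacb3695eb34af2cd2b9fbabb1d94b91a768626598afd989955b38b06af4ba744875573362b74562966d92063766e7a491b94957161044661e23973044173924074375749942b4b67541a661162022f23760d3e223c1db1b71d944a1a21a41a847f1f019c19e3a241312a1293b86ac6de7035c66a71f26af84581ca7022a82aa76a234d44dd46f19940d1953f83a13b441580aa6ca4d83fa86a6da733b63b76df7046c3836223842a899dc9f5c45a4ca7cc22a834788338088305c75f7ab2885a51c2fa4ea7ba7d46046247d6a41ee69747680d6a84d245b4e28315b13fa4141e840f1ec1f146448016416749a4b74a61dc44216242c3ce3e342e3e63e775e7566367581e176495d93a9443cd4eb4a548a43c1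d74263cc3de3ca44591d94e957b9b9583e57797b877c8cd95b4afb8391c94aba6b854984934ae7536214a79979214f04914b0b8494c94d42d4284491a54431a949b4b212d3ff4d34df4c247219f45c3fe4103fb4e145f4186c28346c48378443fd4c147145640b3f647a859a7fa8541685889a85d4ca4cb4c34e0a4f832a7e4cca5246345d47916847347b4ce4e44e74e64314ed4a948d43f4294ef4ab49544b77a94f77d42f48c43e4244ee4b496e44c96d49448e4964aa4b34ac4f24f54f44b54654c54754594d04c748185a4664584c64cf4c84e54d148249c4904f34ba49d4d650e50d4f950f0b656d52551a52a0ed59033d34c07b52d52c4fe52e0f15b355453b55c1285eb35d36f0b135c36e0b24f60f25ec55d5b54fd50750052f08253753d53e0814ff50650150a0f853c55b54b0b032f0593813950ef4f812c6605a561450c5195115600b556b57b5730b451052451252912f5705a458f0ec34d07c0eb3943803934f74fb5615a66165750635135235155740bd56c4fa0be51452851d0d058e0de0480721263bf3a93be4fc5055a960368a5bc0805305465335cb0f65b85090f453155a54a1115ea11d05a0a63bb3a83bd3a705050350b5aa5355bd41b5be5530925345585b40f75085020915490a11120a50533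eb3d53ed3d406151752260756562e44761f5870bc5635a261b13452751c0cf58d0dd1410e00733ea3d13ec4343d305e52b06f51e59d5675a06153e95265660ce58b0ea51b06e0dc0c60d106a41c40341e46140507e55208e5425e35af5fe68e4115565ad1005e81235480a011510710209a41a40241d40440108a55e55754c0a25555b03bc5e63ba5471100ae0af09f0890a409308444f43545143742a0b959b59c5810cd59e60c3e165c3df58913f0e50e60db0c50d40c00b745044e4333d24363d00c759f59158a0df5883923903910da0e707a0c407106505b4854834693f946b3f70fc5fb5da5db10f5e43b33b13b211911a0aa10609608607d48446a4683a63a43a50985ff5e536d11b0ac36b36c36a0ab0580970520494bc4a049e3c93c73c80d567364f38c1460e83883893870d80760c306705c4bd49f37f37d37e37c06907865d34a34b0d93493480770470680424db4d83a039c39d39b0990ad6e136536610936336209d05508804a4dc4d935a35b35935832d05732e32c09e32b32a05604004b4a34e93773783753743450793473440c934234106c04405d4ea33b33c33a33933831307031431206d3113100454bf3553573543523513270a332932608c32432304e03731f32031e31d31c2fd0902fe2fc04f2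fb03933533733433233130d0ba30f30c06030a0343073083063052ec2ea0622eb2e903631931b3183162fa2f707f2f92f60312f42f22f32f12dc2da2db0333043013033002e82e62e702c02b2e32e12e22d02cf03002f2f02ee2ef2d92d80250242d52d42c702a0292e02df2ce01b01a2cb2c00230222d32c60200112c30280192ca01600801f01000c01501401e01d027813a31a38819a1c80088dc2792bb609087388ff73d99d7ab725935b5f912b459057418e672c7aab7eaf99da29829721d2952847faa3ba46a04c097f68706db7c528a9fd7eb88b7e46f32946fe68c7d86a37ee69288c7d6680275a45c0aa2cbef27a7f26947dd684270bfb9b726d26c7b566872726590c93c268264ae88eb8cb8ab25f25e25d1cd25b23f99c8f0795983b17b688d3afaad978f64789d71024c8fbb1c8d7b258c871a7a88c171666171361925a71b66960b70c73261d71f60e70b231b30adab0b23572160f70f22dacb22b5f08976fc22768121e67f5d582584681ea1d22529621c9f29c99a87e19db7c62152141872122041f3a2288aac186f6da9cdbfcbe47e79b86d42117bc68f67d200a0aa16bf09d17cf9d87c47d36f27c07ca6f42105f55ab6026fd5ba6865ac6791ea6885ae67b1e49e61e667c1e25966677b41de7145a36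0a1ce6081c258c14b1d575f75976695a8eaafc1da25c1cc8beae989e7288ac1c61c51b61c31d865e954b518f5adb78e8c4acc8ad7236091c471c709711b398deaf58a68ba8aa7a78b27a95626046776125646051a36061a01a15596007026016f119a5e918c17e17f5e719411c1741901916e06c5835198841a887fb9b92137d99a97c71821831811801961976ef88886e9f7be59ba9aa85b7df1927d567867e7bd9edac09c09b57078878895325a77081655a81635a16756726506767a665f15b1511521408e965b15415514415915a1507967b777b8ce1d68e1acd8ae89f38b14515314314243a1583dd7a57ba98299aace96b8cc8bd71270a440b079a799999b4a87bb55f4b912b5fd5fc4de7054866e26f040c12112211410189846e19339f3af3b01181058764091201134544703f53b585789985c7c99ab3641084083ad11710410340711f40e88689baac3b99ca7c87be4c445a477abf47489c4d54e30f04bb6744ec4a44a142579738a3c53db3dc0e40d30bf7b94393cb48943b4223da3c63763860d70c238f3d80e30d242048b43d4273e496c8b08a13430c83cf4213d93c33840d60c13d70e248f49244499830e3e88a03d64f14b14ad7064d74da4c03f33f436839e39a3ae0a909508546c4533f03283fc4554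0a3f235336109c0874063693a33983ac0a80943ef45e45731a02e4179ac32508b4003f135f09b3ab0a73ee03f4cd4c947c2f84193aa4a24e83c434637a3733850750664384873c233643042333334006b41f37b3713830743c103249730244d30b03e43233e3823c046d4be39935635036005445239703546731732203d03b34e35e39648837203833033f03c37003a34f08305f04d04304c0413150463212ff0513092ed0642f52de2dd08f0002e52e42d22d12c22b60262d72d62c92c80212c52bd2b82b701c2cd2cc2c101800a2bf2ba2b90130122c42bc00f00e0052bb0010170092be00700200d00400300600b02d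
noncomputable def dl (x : ℕ) : ℕ := Nat.land (Nat.shiftRight dlT (Nat.mul x (nat_lit 12))) (nat_lit 4095)
theorem dl_ok : RAll (R22.embAt R22 dl dl 0) 0 3510 := RAll.of (by decide +kernel)
def chU : List (List (List ℕ) × ℕ × ℕ) := [([[0], [13], [28], [32], [44], [130], [17]], 2, 512), ([[130, 28], [44, 32, 28], [28, 17, 13, 32, 13, 17]], 3, 135), ([[130, 32], [13, 32, 17, 32, 13], [28, 130, 44, 32, 28, 130, 13, 32, 17, 32, 28, 130, 28, 13, 32, 44, 130, 28]], 4, 12), ([[44], [130], [32, 130, 13, 32, 17, 32, 130, 13, 32]], 7, 8), ([[32, 17, 28, 130, 32, 17, 44, 13, 32, 28, 130, 32, 28, 17, 13, 32, 130, 44, 28, 17, 32]], 9, 2)]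
end Dbl

theorem model22 : ∃ c : ℕ → Spor.Fi22, Lab R22 c ∧ FG 1 (Im R22 c) := by
  obtain ⟨c, l, i, -⟩ := M22.lab
  have p := M22.pg
  rw [← i] at p
  exact ⟨c, l, p, M22.center_bot, lev22 p.toT3 ⟨c, l, rfl⟩⟩

theorem model23 : ∃ c : ℕ → Spor.Fi23, Lab R23 c ∧ FG 2 (Im R23 c) := by
  obtain ⟨c, l, i, -⟩ := M23.lab
  have p := M23.pg
  rw [← i] at p
  exact ⟨c, l, p, Fi23.center_bot, lev23 p.toT3 ⟨c, l, rfl⟩⟩

theorem FG.card_dd [Finite G] {n : ℕ} {D : Set G} (h : FG (n + 1) D) {d : G} (hd : d ∈ D) :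
    Nat.card (closure (Dd D d)) = 2 * Nat.card (Qt (Dd D d)) ∧
      Nat.card (closure (Dd D d)) * D.ncard = Nat.card G := by
  constructor
  · rw [card_eq_card_quotient_mul_card_subgroup (center (closure (Dd D d))), mul_comm]
    congr 1
    rw [h.center_eq hd, Nat.card_congr (subgroupOfEquivOfLe ((zpowers_le).2 (h.self_mem hd))).toEquiv,
      Nat.card_zpowers, h.pg.order hd]
  · rw [h.cent_eq hd, ← h.index_cent hd, card_mul_index]

theorem cardU {E : Set G} (l : Lb RU E) : Nat.card (Qt E) = 9196830720 := by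
  obtain ⟨c, l2, f⟩ := model22
  obtain ⟨c', l', rfl⟩ := l
  obtain ⟨e, -⟩ := l'.iso (subU l2).1
  have := f.card_dd (mem_Im (c := c) (R := R22) (x := 0) (by decide))
  rw [f.card22, l2.ncard, this.1, show R22.n = 3510 from rfl] at this
  rw [Nat.card_congr e.toEquiv, (subU l2).2]
  omega

theorem cenU {c : ℕ → G} (l : Lab RU c) : Cen (Im RU c) := by
  obtain ⟨F, _, _, hF⟩ := exists_F4
  obtain ⟨c', l', t, -⟩ := psu_lab hF (MulEquiv.refl _)
  have := psu_simple hF
  have z := center_bot_of_simple (rel_one.1 (l'.rel_of (p := 0) (q := 2) (by decide +kernel)))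
  obtain ⟨e, -⟩ := qt_top t.top z
  have k := cardU ⟨c', l', rfl⟩
  rw [Nat.card_congr e.toEquiv] at k
  have : Finite (PSU 6 F 2) := Nat.finite_of_card_ne_zero (by omega)
  have m0 : c' 0 ∈ Im RU c' := mem_Im (by decide)
  refine l.cen l' (Cen.of_one t (transU l') m0 (Subgroup.eq_of_le_of_card_ge ((closure_le _).2
    fun y hy => mem_cent1.2 hy.2.symm) ?_).ge)
  have i := relIndex_cent (K := ⊤) (fun g _ => t.conj g) m0 fun y hy => by simpa using transU l' _ m0 y hy
  rw [relIndex_top_right, l'.ncard] at i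
  have j := (centralizer {c' 0}).card_mul_index
  have lo := l'.low t.conj (by decide) (ch := Dbl.chU) (by decide +kernel)
  have : gp c' (chW Dbl.chU) ≤ closure (Pp (Im RU c') (c' 0)) := gp_le.2 fun w hw => lprod_mem fun a ha => by
    have := (by decide +kernel : ∀ w ∈ chW Dbl.chU, ∀ a ∈ w, a < RU.n ∧ RU.rel 0 a ≠ 1) w hw a ha
    exact subset_closure ⟨mem_Im this.1, (l'.commute_iff (by decide) this.1).2 this.2⟩
  have := card_le_of_le this
  rw [i, k, show RU.n = 693 from rfl] at j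
  rw [show (Dbl.chU.map fun s => s.2.2).prod = 13271040 from rfl] at lo
  omega

theorem liftU {c : ℕ → G} (l : Lab RU c) (t : TG (Im RU c)) (z : center G = ⊥) : LiftOk (Im RU c) :=
  have one : ∀ w, RU.trivP w = true → (w.map c).prod = 1 := fun _ k =>
    mem_bot.1 (z ▸ t.mem_center (zc_iff.1 (l.trivP k)))
  ⟨t, transU l, cenU l, z, (Lev.zero ⟨c, l, rfl⟩).trc le_rfl,
    ⟨_, l.clOk (l := [0, 10, 13, 17, 130, 142]) (by decide +kernel), rfl, one _ (by decide +kernel)⟩,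
    ⟨_, l.clOk (l := [0, 10, 44, 628, 633]) (by decide +kernel), Or.inl rfl, one _ (by decide +kernel)⟩⟩

theorem lift22 {c : ℕ → G} (l : Lab R22 c) (f : FG 1 (Im R22 c)) : LiftOk (Im R22 c) :=
  have one : ∀ w, R22.trivP w = true → (w.map c).prod = 1 := fun _ k => f.one (l.trivP k)
  ⟨f.pg.toTG, f.pg.trans, cen22 l, f.z, f.lev.trc (by decide),
    ⟨_, l.clOk (l := [0, 1, 11, 45, 629, 634]) (by decide +kernel), rfl, one _ (by decide +kernel)⟩,
    ⟨_, l.clOk (l := [0, 1, 11, 14, 18, 131, 143]) (by decide +kernel), Or.inr rfl,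
      one _ (by decide +kernel)⟩⟩

/-! ### presentations -/

/-- involutions satisfying the relators generate a group of order at most `N` -/
def UB (B : List (List ℕ × ℕ)) (L N : ℕ) : Prop := ∀ (Γ : Type w) [Group Γ] (e : ℕ → Γ),
  (∀ l, e l * e l = 1) → (∀ p ∈ B, lprod e p.1 ^ p.2 = 1) → CardLe (gp e (sing (List.range L))) N

theorem ubU : UB.{w} GU8.bases 8 9196830720 := fun Γ _ e sq hB => by
  have hi : ∀ l, e (id l) = (e l)⁻¹ := fun l => (inv_of_sq (sq l)).symm
  have a := cardLe_nil.step (WA4.idx hi hB [[0], [1], [2], [3]] (hs := []) (ks := [[0], [1], [2], [3]])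
    (by decide +kernel)) (by decide +kernel)
  have b := a.step (WD5.idx hi hB [[0], [1], [2], [3], [5]] (ks := [[0], [1], [2], [3], [5]])
    (by decide +kernel)) (by decide +kernel)
  have c := b.step (WE6.idx hi hB [[0], [1], [2], [3], [5], [6]] (ks := [[0], [1], [2], [3], [5], [6]])
    (by decide +kernel)) (by decide +kernel)
  have d := c.step (GU7.idx hi hB [[0], [1], [2], [3], [5], [6], [7]]
    (ks := [[0], [1], [2], [3], [5], [6], [7]]) (by decide +kernel)) (by decide +kernel)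
  exact d.step (GU8.idx hi hB [[0], [1], [2], [3], [4], [5], [6], [7]]
    (ks := [[0], [1], [2], [3], [4], [5], [6], [7]]) (by decide +kernel)) (by decide +kernel)

theorem ub22 : UB.{w} Fi22.D.B 9 64561751654400 := fun Γ _ e sq hB => by
  obtain ⟨φ, hφ⟩ := Fi22.good.exists_hom (π := e) (fun x => by
    rw [Fi22.D.inv_eq (by decide +kernel), inv_of_sq (sq x)]) hB
  have le : gp e (sing (List.range 9)) ≤ φ.range := gp_le.2 fun w hw => by
    obtain ⟨a, ha, rfl⟩ := mem_sing hw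
    exact ⟨_, (hφ a (List.mem_range.1 ha)).trans (lprod_single a).symm⟩
  have : Finite φ.range := Finite.of_surjective _ φ.rangeRestrict_surjective
  have := Finite.of_injective _ (inclusion_injective le)
  exact ⟨Nat.card_pos.ne', (card_le_of_le le).trans (Fi22.card ▸ Nat.card_le_card_of_surjective _
    φ.rangeRestrict_surjective)⟩

theorem Lab.gp_eq {R : Raw} {c : ℕ → G} (l : Lab R c) :
    gp (fun x => c (R.lp x)) (sing (List.range R.L)) = closure (Im R c) :=
  le_antisymm (gp_le.2 fun w hw => by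
    obtain ⟨a, ha, rfl⟩ := mem_sing hw
    exact lprod_single (E := fun x => c (R.lp x)) a ▸
      subset_closure (mem_Im (l.good.lp_lt (List.mem_range.1 ha))))
    (l.closure_le fun a ha => by
      have : ∀ L : List ℕ, a ∈ L → [a] ∈ sing L := fun L h => by
        induction L with
        | nil => simp at h
        | cons b L ih =>
          rcases List.mem_cons.1 h with rfl | h
          · exact List.mem_cons_self
          · exact List.mem_cons_of_mem _ (ih h)
      simpa using mem_gp (E := fun x => c (R.lp x)) (this _ (List.mem_range.2 ha)))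

/-- the bound modulo a normal subgroup containing the relators -/
theorem UB.le {G : Type w} [Group G] [Finite G] {B : List (List ℕ × ℕ)} {N : ℕ} {R : Raw}
    (ub : UB.{w} B R.L N) {c : ℕ → G} (l : Lab R c) (lt : ∀ x, R.lp x < R.n) (t : closure (Im R c) = ⊤)
    (Z : Subgroup G) [Z.Normal] (h : ∀ p ∈ B, lprod (fun x => c (R.lp x)) p.1 ^ p.2 ∈ Z) :
    Nat.card G ≤ N * Nat.card Z := by
  have := ub (G ⧸ Z) (fun x => QuotientGroup.mk' Z (c (R.lp x)))
    (fun x => by rw [← map_mul, l.sq _ (lt x), map_one]) fun p hp => by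
      rw [← map_lprod, ← map_pow]; exact (QuotientGroup.eq_one_iff _).2 (h p hp)
  rw [← map_gp, l.gp_eq, t, ← MonoidHom.range_eq_map, QuotientGroup.range_mk'] at this
  rw [card_eq_card_quotient_mul_card_subgroup Z, ← card_top (G := G ⧸ Z)]
  exact Nat.mul_le_mul_right _ this.2

theorem Lab.inner {R : Raw} {c : ℕ → G} (l : Lab R c) :
    ∃ c' : ℕ → closure (Im R c), Lab R c' ∧ closure (Im R c') = ⊤ ∧ ∀ x < R.n, (c' x : G) = c x := by
  obtain ⟨c', l', i, e⟩ := l.lift (G := closure (Im R c)) (E := sub (Im R c))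
    (fun x hx => Subtype.ext (l.sq_im _ hx)) (fun x hx y hy => l.cl _ hx _ hy) (Subgroup.subtype _)
    (Subgroup.subtype_injective _).injOn
    (Set.Subset.antisymm (fun x hx => ⟨⟨x, subset_closure hx⟩, hx, rfl⟩)
      (by rintro _ ⟨x, hx, rfl⟩; exact hx))
  exact ⟨c', l', i ▸ closure_preimage_eq_top _, e⟩

/-- relations that hold in the model, with `d` for the point `0` -/
def Exa (R' R : Raw) (π : ℕ → ℕ) (d : G) (c : ℕ → G) : Prop := ∀ (w : List ℕ) (ε : Bool),
  okW R'.n w = true → R.trivP (cond ε (0 :: w.map π) (w.map π)) = true → (w.map c).prod = cond ε d 1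

theorem Lab.exa {R' R : Raw} {c : ℕ → G} (l : Lab R c) (z : ∀ g ∈ centralizer (Im R c), g = 1)
    (h0 : 0 < R.n) (π : ℕ → ℕ) : Exa R' R π (c 0) fun x => c (π x) := fun w ε _ k => by
  have := z _ (l.trivP k)
  cases ε
  · simpa [Function.comp_def] using this
  · simp only [cond_true, List.map_cons, List.prod_cons, List.map_map] at this ⊢
    exact (eq_inv_of_mul_eq_one_right this).trans (inv_of_sq (l.sq 0 h0))

theorem Exa.comp {R' R : Raw} {π σ ρ : ℕ → ℕ} {d : G} {c : ℕ → G} (h : Exa R' R (fun x => π (σ x)) d c)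
    (k : ∀ x < R'.n, ρ x < R'.n ∧ σ (ρ x) = x) : Exa R' R π d fun x => c (ρ x) := fun w ε ok t => by
  have e : (w.map ρ).map (fun x => π (σ x)) = w.map π := by
    rw [List.map_map]
    exact List.map_congr_left fun x hx => congrArg π (k x (okW_iff.1 ok x hx)).2
  have := h (w.map ρ) ε (okW_iff.2 (by simpa using fun x hx => (k x (okW_iff.1 ok x hx)).1))
    (by rw [e]; exact t)
  rwa [List.map_map] at this

theorem dbl {G : Type w} [Group G] [Finite G] {M : Type} [Group M] [Finite M] {B : List (List ℕ × ℕ)}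
    {N : ℕ} {R' R : Raw} (ub : UB.{w} B R'.L N) (lt : ∀ x, R'.lp x < R'.n) {π : ℕ → ℕ} {d : G}
    {c : ℕ → G} (l : Lab R' c) (sq : d * d = 1) (cm : ∀ x < R'.n, Commute d (c x)) {a : M} {c' : ℕ → M}
    (l' : Lab R' c') (sq' : a * a = 1) (cm' : ∀ x < R'.n, Commute a (c' x)) (ex : Exa R' R π a c')
    (k : 2 * N ≤ Nat.card (closure (Im R' c')))
    (v : ∀ p ∈ B, ∃ ε, lprod (fun x => c (R'.lp x)) p.1 ^ p.2 = cond ε d 1 ∧
      lprod (fun x => c' (R'.lp x)) p.1 ^ p.2 = cond ε a 1) : Exa R' R π d c := by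
  obtain ⟨c2, l2, t, e⟩ := (lab_prod l l').inner
  have val : ∀ w : List ℕ, (∀ x ∈ w, x < R'.n) → ((w.map c2).prod : G × M) =
      ((w.map c).prod, (w.map c').prod) := fun w hw => by
    induction w with
    | nil => rfl
    | cons x w ih =>
      simp only [List.map_cons, List.prod_cons, Subgroup.coe_mul, e x (hw x (by simp)),
        ih fun y hy => hw y (by simp [hy]), Prod.mk_mul_mk]
  have v2 : ∀ p ∈ B, ∃ ε, ((lprod (fun x => c2 (R'.lp x)) p.1 ^ p.2 : Subgroup.closure _) : G × M) =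
      cond ε (d, a) 1 := fun p hp => by
    obtain ⟨ε, h1, h2⟩ := v p hp
    refine ⟨ε, ?_⟩
    rw [← lprod_map, lprod_eq_map] at h1 h2
    rw [← lprod_map, lprod_eq_map, Subgroup.coe_pow, val _ (by simpa using fun x _ => lt x),
      Prod.pow_mk, h1, h2]
    cases ε <;> rfl
  let f : closure (Im R' fun x => (c x, c' x)) →* closure (Im R' c') :=
    ((MonoidHom.snd G M).comp (Subgroup.subtype _)).codRestrict _
      fun γ => (closure_snd c c' _).le ⟨γ, γ.2, rfl⟩
  have hf : Function.Surjective f := fun g => by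
    obtain ⟨γ, m, k⟩ := (closure_snd c c' _).ge g.2
    exact ⟨⟨γ, m⟩, Subtype.ext k⟩
  have lo := k.trans (Nat.card_le_card_of_surjective f hf)
  have hδ : (d, a) ∈ closure (Im R' fun x => (c x, c' x)) := by
    by_contra n
    have := ub.le l2 lt t ⊥ fun p hp => by
      obtain ⟨ε, h⟩ := v2 p hp
      cases ε
      · exact Subtype.ext h
      · exact absurd ((show _ = (d, a) from h) ▸ Subtype.mem _) n
    have := Nat.card_pos (α := closure (Im R' fun x => (c x, c' x)))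
    rw [card_bot] at *
    omega
  have zc : (⟨_, hδ⟩ : Subgroup.closure _) ∈ center (closure (Im R' fun x => (c x, c' x))) :=
    mem_center_closure.2 (zc_iff.2 (by
      rintro _ ⟨x, hx, rfl⟩; exact Prod.ext (cm x hx).eq (cm' x hx).eq))
  have : (zpowers (⟨_, hδ⟩ : Subgroup.closure _)).Normal := ⟨fun x hx g => by
    rw [← (commute_of_mem_center (zpowers_le.2 zc hx) g).eq, mul_inv_cancel_right]; exact hx⟩
  have up := ub.le l2 lt t (zpowers ⟨_, hδ⟩) fun p hp => by
    obtain ⟨ε, h⟩ := v2 p hp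
    cases ε
    · exact (show _ = (1 : Subgroup.closure _) from Subtype.ext h) ▸ one_mem _
    · exact (show _ = (⟨_, hδ⟩ : Subgroup.closure _) from Subtype.ext h) ▸ mem_zpowers _
  have o : Nat.card (zpowers (⟨_, hδ⟩ : Subgroup.closure _)) ≤ 2 := by
    rw [Nat.card_zpowers]
    exact orderOf_le_of_pow_eq_one two_pos (Subtype.ext (Prod.ext (by simpa [pow_two] using sq)
      (by simpa [pow_two] using sq')))
  have inj := (hf.bijective_of_nat_card_le (by nlinarith)).1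
  intro w ε ok tr
  have e1 := ex w ε ok tr
  have e2 := val w (okW_iff.1 ok)
  cases ε
  · have : (w.map c2).prod = 1 := inj (Subtype.ext (by
      show ((w.map c2).prod : G × M).2 = _
      rw [e2]; simpa using e1))
    rw [this] at e2
    exact (congrArg Prod.fst e2).symm
  · have : (w.map c2).prod = ⟨_, hδ⟩ := inj (Subtype.ext (by
      show ((w.map c2).prod : G × M).2 = a
      rw [e2]; exact e1))
    rw [this] at e2
    exact (congrArg Prod.fst e2).symm

/-! ### the two classes of lifts -/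

theorem Lab.tw {R : Raw} {c : ℕ → G} (l : Lab R c) {d : G} (sq : d * d = 1) (z : d ∈ center G) :
    Lab R fun x => d * c x := by
  have k := commute_of_mem_center z
  refine ⟨l.good, fun x hx => ?_, fun x hx y hy e => l.inj x hx y hy (mul_left_cancel e),
    fun x hx a ha => ?_⟩
  · rw [mul_assoc, ← mul_assoc (c x), ← (k _).eq, mul_assoc, l.sq x hx, mul_one, sq]
  · rw [J_mul, J_of_commute (k _), J_map_mul, J_of_commute (k _).symm, l.act x hx a ha]

theorem lprod_tw {e : ℕ → G} {d : G} (z : d ∈ center G) (w : List ℕ) (k : ℕ) :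
    lprod (fun x => d * e x) w ^ k = d ^ (w.length * k) * lprod e w ^ k := by
  have : lprod (fun x => d * e x) w = d ^ w.length * lprod e w := by
    induction w with
    | nil => simp
    | cons a w ih =>
      rw [lprod_cons, lprod_cons, ih, List.length_cons, pow_succ', mul_assoc, mul_assoc,
        ← mul_assoc (e a), ((commute_of_mem_center z (e a)).pow_left _).eq.symm, mul_assoc]
  rw [this, ((commute_of_mem_center z _).pow_left _).mul_pow, pow_mul]

/-- a double cover generated by a labelled class -/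
structure Cov2 (R : Raw) (N : ℕ) (d : G) (c : ℕ → G) : Prop where
  lab : Lab R c
  t3 : T3 (Im R c)
  top : closure (Im R c) = ⊤
  sq : d * d = 1
  ne : d ≠ 1
  z : d ∈ center G
  zc : ∀ u ∈ centralizer (Im R c), u = 1 ∨ u = d
  card : Nat.card G = 2 * N

namespace Cov2
variable {R : Raw} {N : ℕ} {d : G} {c : ℕ → G} (h : Cov2 R N d c)
include h

theorem val {p : List ℕ × ℕ} (k : R.triv (repL p.1 p.2) = true) :
    ∃ ε, lprod (fun x => c (R.lp x)) p.1 ^ p.2 = cond ε d 1 := by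
  have := h.lab.triv k
  rw [lprod_repL] at this
  rcases h.zc _ (zc_iff.2 this) with e | e
  exacts [⟨false, e⟩, ⟨true, e⟩]

theorem cube {p : List ℕ × ℕ} (k : R.triv (repL p.1 p.2) = true) {cert : List (ℕ × ℕ)}
    (r : (okW R.L (repL p.1 (p.2 * 3)) && R.redOk cert (repL p.1 (p.2 * 3))) = true) :
    lprod (fun x => c (R.lp x)) p.1 ^ p.2 = 1 := by
  rw [Bool.and_eq_true] at r
  have := h.lab.red r.1 r.2
  rw [lprod_repL, pow_mul] at this
  obtain ⟨_ | _, e⟩ := h.val k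
  · exact e
  · rw [e, cond_true, pow_succ, pow_two, h.sq, one_mul] at this
    exact absurd this h.ne

theorem aut {π ρ : ℕ → ℕ} (he : RAll (R.embAt R π ρ 0) 0 R.n) : Cov2 R N d fun x => c (π x) :=
  have i := (h.lab.aut he).2
  ⟨(h.lab.aut he).1, i ▸ h.t3, i ▸ h.top, h.sq, h.ne, h.z, i ▸ h.zc, h.card⟩

end Cov2

theorem embAt_inv {R : Raw} {π ρ : ℕ → ℕ} (he : RAll (R.embAt R π ρ 0) 0 R.n) :
    ∀ x < R.n, π x < R.n ∧ ρ (π x) = x := fun x hx => by
  have := he x (Nat.zero_le _) hx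
  simp only [Raw.embAt, frc_eq, Bool.and_eq_true, Nat.blt_eq, nbeq_iff] at this
  exact ⟨by simpa using this.1.1.2, this.1.2⟩

theorem Lab.cox {R : Raw} {c : ℕ → G} (l : Lab R c) (t : T3 (Im R c)) {ed : List (ℕ × ℕ)}
    {B : List (List ℕ × ℕ)} (ok : CoxOk R.L ed B)
    (k : ∀ y < R.L, ∀ x < y, R.rel (R.lp x) (R.lp y) ≠ 1 ↔ (x, y) ∉ ed) :
    ∀ p ∈ B, lprod (fun x => c (R.lp x)) p.1 ^ p.2 = 1 :=
  t.cox (fun _ hx => mem_Im (l.good.lp_lt hx)) (fun y hy x hx =>
    (l.commute_iff (l.good.lp_lt (hx.trans hy)) (l.good.lp_lt hy)).trans (k y hy x hx)) ok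

theorem lpU_lt (x : ℕ) : RU.lp x < RU.n := by
  by_cases hx : x < 8
  · exact goodU.lp_lt hx
  · obtain ⟨x, rfl⟩ : ∃ y, x = y + 8 := ⟨x - 8, by omega⟩
    exact (by decide : 0 < 693)

theorem coxU {c : ℕ → G} (l : Lab RU c) :
    ∀ p ∈ GU8.bases.take 36, lprod (fun x => c (RU.lp x)) p.1 ^ p.2 = 1 := l.cox (t3U l)
  (ed := [(0, 1), (1, 2), (2, 3), (3, 4), (1, 5), (5, 6), (3, 7), (6, 7)]) (by decide +kernel)
  (by decide +kernel)

theorem cox22 {c : ℕ → G} (l : Lab R22 c) (t : T3 (Im R22 c)) :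
    ∀ p ∈ Fi22.D.B.take 45, lprod (fun x => c (R22.lp x)) p.1 ^ p.2 = 1 := l.cox t
  (ed := [(0, 1), (1, 2), (2, 3), (3, 4), (4, 5), (5, 6), (3, 7), (7, 8)]) (by decide +kernel)
  (by decide +kernel)

theorem relsU {P : List ℕ × ℕ → Prop} (h0 : ∀ p ∈ GU8.bases.take 36, P p)
    (h1 : P ([1, 2, 3, 7, 5, 6], 4)) (h2 : P ([0, 1, 2, 3, 4, 5, 6], 9))
    (h3 : P ([0, 1, 2, 3, 4, 6, 7], 9)) (h4 : P ([1, 5, 6, 0, 7, 2], 5)) : ∀ p ∈ GU8.bases, P p := by
  rw [← List.take_append_drop 36 GU8.bases]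
  exact List.forall_mem_append.2 ⟨h0, by simp [GU8.bases, h1, h2, h3, h4]⟩

theorem rels22 {P : List ℕ × ℕ → Prop} (h0 : ∀ p ∈ Fi22.D.B.take 45, P p)
    (h1 : P ([3, 2, 1, 3, 4, 5, 3, 7, 8], 10)) (h2 : P ([0, 1, 2, 3, 4, 5, 7], 9))
    (h3 : P ([1, 2, 3, 4, 5, 6, 7], 9)) : ∀ p ∈ Fi22.D.B, P p := by
  rw [← List.take_append_drop 45 Fi22.D.B]
  exact List.forall_mem_append.2 ⟨h0, by simp [Fi22.D, h1, h2, h3]⟩

/-- the value of a relator in the model -/
noncomputable def valOk (R' R : Raw) (π : ℕ → ℕ) (u : List ℕ) (k : ℕ) (ε : Bool) : Bool :=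
  okW R'.n ((repL u k).map R'.lp) && R.trivP (cond ε (0 :: ((repL u k).map R'.lp).map π)
    (((repL u k).map R'.lp).map π))

theorem Exa.val {R' R : Raw} {π : ℕ → ℕ} {d : G} {c : ℕ → G} (h : Exa R' R π d c) {u : List ℕ} {n : ℕ}
    {ε : Bool} (k : valOk R' R π u n ε = true) :
    lprod (fun x => c (R'.lp x)) u ^ n = cond ε d 1 := by
  rw [valOk, Bool.and_eq_true] at k
  rw [← lprod_repL, ← lprod_map, lprod_eq_map]
  exact h _ ε k.1 k.2

section
variable {G : Type w} [Group G] [Finite G] {d : G} {c : ℕ → G}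

theorem Cov2.exU (h : Cov2 RU 9196830720 d c) {σ ρ : ℕ → ℕ} (he : RAll (RU.embAt RU σ ρ 0) 0 RU.n)
    (he' : RAll (RU.embAt RU ρ σ 0) 0 RU.n) {e2 e3 e4 : Bool}
    (v2 : lprod (fun x => c (RU.lp x)) [0, 1, 2, 3, 4, 5, 6] ^ 9 = cond e2 d 1)
    (v3 : lprod (fun x => c (RU.lp x)) [0, 1, 2, 3, 4, 6, 7] ^ 9 = cond e3 d 1)
    (v4 : lprod (fun x => c (RU.lp x)) [1, 5, 6, 0, 7, 2] ^ 5 = cond e4 d 1)
    (k : (valOk RU R22 (fun x => σ x + 1) [1, 2, 3, 7, 5, 6] 4 false &&
      valOk RU R22 (fun x => σ x + 1) [0, 1, 2, 3, 4, 5, 6] 9 e2 &&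
      valOk RU R22 (fun x => σ x + 1) [0, 1, 2, 3, 4, 6, 7] 9 e3 &&
      valOk RU R22 (fun x => σ x + 1) [1, 5, 6, 0, 7, 2] 5 e4) = true) :
    ∃ c', Cov2 RU 9196830720 d c' ∧ Exa RU R22 (· + 1) d c' := by
  obtain ⟨c2, l2, f⟩ := model22
  have m0 : c2 0 ∈ Im R22 c2 := mem_Im (by decide)
  have a := (subU l2).1.aut he
  have i := a.2.trans (subU l2).2
  have ex := l2.exa (R' := RU) (fun _ => f.one) (by decide) fun x => σ x + 1
  simp only [Bool.and_eq_true] at k
  have v1 : lprod (fun x => c (RU.lp x)) [1, 2, 3, 7, 5, 6] ^ 4 = cond false d 1 :=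
    h.cube (p := (_, 4)) (by decide +kernel) (cert := Dbl.redU) (by decide +kernel)
  have cm : ∀ x < RU.n, Commute (c2 0) (c2 (σ x + 1)) := fun x hx => (i.subset (mem_Im hx)).2.2
  have cd : 2 * 9196830720 ≤ Nat.card (closure (Im RU fun x => c2 (σ x + 1))) := by
    rw [i, (f.card_dd m0).1, cardU (f.lev.loc m0).lb]
  have := dbl (R' := RU) ubU lpU_lt h.lab h.sq (fun _ _ => commute_of_mem_center h.z _) a.1
    (l2.sq 0 (by decide)) cm ex cd
    (relsU (fun p k => ⟨false, coxU h.lab p k, coxU a.1 p k⟩) ⟨_, v1, ex.val k.1.1.1⟩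
      ⟨_, v2, ex.val k.1.1.2⟩ ⟨_, v3, ex.val k.1.2⟩ ⟨_, v4, ex.val k.2⟩)
  exact ⟨_, h.aut he', Exa.comp (π := (· + 1)) this (embAt_inv he')⟩

theorem Cov2.ex22 (h : Cov2 R22 64561751654400 d c) {σ : ℕ → ℕ} (he : RAll (R22.embAt R22 σ σ 0) 0 R22.n)
    {e2 e3 : Bool} (v2 : lprod (fun x => c (R22.lp x)) [0, 1, 2, 3, 4, 5, 7] ^ 9 = cond e2 d 1)
    (v3 : lprod (fun x => c (R22.lp x)) [1, 2, 3, 4, 5, 6, 7] ^ 9 = cond e3 d 1)
    (k : (valOk R22 R23 (fun x => beta (σ x)) [3, 2, 1, 3, 4, 5, 3, 7, 8] 10 false &&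
      valOk R22 R23 (fun x => beta (σ x)) [0, 1, 2, 3, 4, 5, 7] 9 e2 &&
      valOk R22 R23 (fun x => beta (σ x)) [1, 2, 3, 4, 5, 6, 7] 9 e3) = true) :
    ∃ c', Cov2 R22 64561751654400 d c' ∧ Im R22 c' = Im R22 c ∧ Exa R22 R23 beta d c' := by
  obtain ⟨c2, l2, f⟩ := model23
  have m0 : c2 0 ∈ Im R23 c2 := mem_Im (by decide)
  have a := (sub22 l2).1.aut he
  have i := a.2.trans (sub22 l2).2
  have ex := l2.exa (R' := R22) (fun _ => f.one) (by decide) fun x => beta (σ x)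
  simp only [Bool.and_eq_true] at k
  have v1 : lprod (fun x => c (R22.lp x)) [3, 2, 1, 3, 4, 5, 3, 7, 8] ^ 10 = cond false d 1 :=
    h.cube (p := (_, 10)) (by decide +kernel) (cert := Dbl.red22) (by decide +kernel)
  obtain ⟨e⟩ := qt22 (f.lev.loc m0).lb22
  have cm : ∀ x < R22.n, Commute (c2 0) (c2 (beta (σ x))) := fun x hx => (i.subset (mem_Im hx)).2.2
  have cd : 2 * 64561751654400 ≤ Nat.card (closure (Im R22 fun x => c2 (beta (σ x)))) := by
    rw [i, (f.card_dd m0).1, Nat.card_congr e.toEquiv, Fi22.card]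
  have t : T3 (Im R22 fun x => c2 (beta (σ x))) := by rw [i]; exact (f.lev.loc m0).t3
  have := dbl (R' := R22) ub22 lp22_lt h.lab h.sq (fun _ _ => commute_of_mem_center h.z _) a.1
    (l2.sq 0 (by decide)) cm ex cd
    (rels22 (fun p k => ⟨false, cox22 h.lab h.t3 p k, cox22 a.1 t p k⟩)
      ⟨_, v1, ex.val k.1.1⟩ ⟨_, v2, ex.val k.1.2⟩ ⟨_, v3, ex.val k.2⟩)
  exact ⟨_, h.aut he, (h.lab.aut he).2, Exa.comp (π := beta) this (embAt_inv he)⟩

theorem idU : RAll (RU.embAt RU id id 0) 0 693 := RAll.of (by decide +kernel)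
theorem id22 : RAll (R22.embAt R22 id id 0) 0 3510 := RAll.of (by decide +kernel)

theorem Cov2.not_split {R : Raw} {B : List (List ℕ × ℕ)} {N : ℕ} (h : Cov2 R N d c) (ub : UB.{w} B R.L N)
    (lt : ∀ x, R.lp x < R.n) (k : ∀ p ∈ B, lprod (fun x => c (R.lp x)) p.1 ^ p.2 = 1) : False := by
  have := ub.le h.lab lt h.top ⊥ k
  have := Nat.card_pos (α := G)
  rw [card_bot, h.card] at *
  omega

theorem tw_odd {R : Raw} {N : ℕ} (h : Cov2 R N d c) {u : List ℕ} {ε : Bool} (ln : u.length = 7)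
    (v : lprod (fun x => c (R.lp x)) u ^ 9 = cond ε d 1) :
    lprod (fun x => d * c (R.lp x)) u ^ 9 = cond (!ε) d 1 := by
  rw [lprod_tw h.z, v, ln, show 7 * 9 = 2 * 31 + 1 from rfl, pow_succ, pow_mul, pow_two, h.sq, one_pow,
    one_mul]
  cases ε
  · simp
  · exact h.sq

theorem tw_even {R : Raw} {N : ℕ} (h : Cov2 R N d c) {u : List ℕ} {k : ℕ} (m : ℕ)
    (ln : u.length * k = 2 * m) :
    lprod (fun x => d * c (R.lp x)) u ^ k = lprod (fun x => c (R.lp x)) u ^ k := by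
  rw [lprod_tw h.z, ln, pow_mul, pow_two, h.sq, one_pow, one_mul]

theorem dcU (h : Cov2 RU 9196830720 d c) (h' : Cov2 RU 9196830720 d fun x => d * c x) :
    ∃ c', Cov2 RU 9196830720 d c' ∧ Exa RU R22 (· + 1) d c' := by
  obtain ⟨e2, v2⟩ := h.val (p := ([0, 1, 2, 3, 4, 5, 6], 9)) (by decide +kernel)
  obtain ⟨e3, v3⟩ := h.val (p := ([0, 1, 2, 3, 4, 6, 7], 9)) (by decide +kernel)
  obtain ⟨e4, v4⟩ := h.val (p := ([1, 5, 6, 0, 7, 2], 5)) (by decide +kernel)
  have w2 := tw_odd h rfl v2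
  have w3 := tw_odd h rfl v3
  have w4 := (tw_even h 15 rfl).trans v4
  have ns : ∀ {c}, Cov2 RU 9196830720 d c → lprod (fun x => c (RU.lp x)) [0, 1, 2, 3, 4, 5, 6] ^ 9 = 1 →
      lprod (fun x => c (RU.lp x)) [0, 1, 2, 3, 4, 6, 7] ^ 9 = 1 →
      lprod (fun x => c (RU.lp x)) [1, 5, 6, 0, 7, 2] ^ 5 = 1 → False := fun h a b c =>
    h.not_split ubU lpU_lt (relsU (coxU h.lab)
      (h.cube (p := (_, 4)) (by decide +kernel) (cert := Dbl.redU) (by decide +kernel)) a b c)
  cases e2 <;> cases e3 <;> cases e4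
  · exact (ns h v2 v3 v4).elim
  · exact h.exU Rec22.sg1_ok Rec22.sg2_ok v2 v3 v4 (by decide +kernel)
  · exact h'.exU Rec22.sg2_ok Rec22.sg1_ok w2 w3 w4 (by decide +kernel)
  · exact h.exU idU idU v2 v3 v4 (by decide +kernel)
  · exact h.exU Rec22.sg2_ok Rec22.sg1_ok v2 v3 v4 (by decide +kernel)
  · exact h'.exU idU idU w2 w3 w4 (by decide +kernel)
  · exact (ns h' w2 w3 w4).elim
  · exact h'.exU Rec22.sg1_ok Rec22.sg2_ok w2 w3 w4 (by decide +kernel)

theorem dc22 (h : Cov2 R22 64561751654400 d c) (h' : Cov2 R22 64561751654400 d fun x => d * c x) :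
    ∃ c', Cov2 R22 64561751654400 d c' ∧ Im R22 c' = Im R22 c ∧ Exa R22 R23 beta d c' := by
  obtain ⟨e2, v2⟩ := h.val (p := ([0, 1, 2, 3, 4, 5, 7], 9)) (by decide +kernel)
  obtain ⟨e3, v3⟩ := h.val (p := ([1, 2, 3, 4, 5, 6, 7], 9)) (by decide +kernel)
  have ns : ∀ {c}, Cov2 R22 64561751654400 d c →
      lprod (fun x => c (R22.lp x)) [0, 1, 2, 3, 4, 5, 7] ^ 9 = 1 →
      lprod (fun x => c (R22.lp x)) [1, 2, 3, 4, 5, 6, 7] ^ 9 = 1 → False := fun h a b =>
    h.not_split ub22 lp22_lt (rels22 (cox22 h.lab h.t3)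
      (h.cube (p := (_, 10)) (by decide +kernel) (cert := Dbl.red22) (by decide +kernel)) a b)
  cases e2 <;> cases e3
  · exact (ns h v2 v3).elim
  · exact h.ex22 id22 v2 v3 (by decide +kernel)
  · exact h.ex22 Dbl.dl_ok v2 v3 (by decide +kernel)
  · exact (ns h' (tw_odd h rfl v2) (tw_odd h rfl v3)).elim

/-- both classes of lifts in a perfect double cover -/
theorem cov2_of {Q : Type*} [Group Q] {R : Raw} {N : ℕ} {c : ℕ → Q} (l : Lab R c) (k : LiftOk (Im R c))
    (hN : Nat.card Q = N) (σ : G →* Q) (hs : Function.Surjective σ) (hk : σ.ker = zpowers d)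
    (o : orderOf d = 2) (z : d ∈ center G) (p : commutator G = ⊤) :
    ∃ c' : ℕ → G, Cov2 R N d c' ∧ Cov2 R N d fun x => d * c' x := by
  classical
  have hk' : σ.ker ≤ center G := hk ▸ zpowers_le.2 z
  have sq := H20.mul_self_of_orderOf_two o
  have d1 : σ d = 1 := (hk ▸ mem_zpowers d : d ∈ σ.ker)
  have key : ∀ x, σ x ∈ Im R c → x * x = 1 → ∀ c' : ℕ → G, Lab R c' → Im R c' = conjugatesOf x →
      Cov2 R N d c' := fun x hx s c' l' i =>
    ⟨l', i ▸ k.t3 hs hk' hx s, i ▸ k.top hs hk' p hx, sq, H20.ne_one_of_orderOf_two o, z, fun u hu => by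
      have : σ u ∈ center Q := k.tg.mem_center fun y hy => by
        obtain ⟨y, hy', rfl⟩ := (k.cls hs hk' hx).surjOn hy
        exact (zc_iff.1 hu y (i ▸ hy')).map σ
      rw [k.z, mem_bot, ← MonoidHom.mem_ker, hk, mem_zpowers_iff_mem_range_orderOf, o] at this
      simpa [Finset.range_add_one, eq_comm, or_comm] using this, by
      rw [card_eq_card_quotient_mul_card_subgroup σ.ker, hk, Nat.card_zpowers, o, ← hk, mul_comm,
        Nat.card_congr (QuotientGroup.quotientKerEquivOfSurjective σ hs).toEquiv, hN]⟩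
  obtain ⟨x, hx, s⟩ := k.invol hs hk'
  obtain ⟨c', l', i, -⟩ := k.lab hs hk' hx s l rfl
  have cm := commute_of_mem_center z
  refine ⟨c', key x hx s c' l' i, key (d * x) (by simpa [d1] using hx)
    (by rw [mul_assoc, ← mul_assoc x, ← (cm x).eq, mul_assoc, s, mul_one, sq]) _ (l'.tw sq z) ?_⟩
  have e : ∀ g, J g (d * x) = d * J g x := fun g => by rw [J_map_mul, J_of_commute (cm g).symm]
  ext u
  constructor
  · rintro ⟨y, hy, rfl⟩
    obtain ⟨g, eg⟩ := isConj_iff.1 (i ▸ mem_Im hy : c' y ∈ conjugatesOf x)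
    exact isConj_iff.2 ⟨g, (e g).trans (congrArg _ eg)⟩
  · intro hu
    obtain ⟨g, rfl⟩ := isConj_iff.1 hu
    obtain ⟨y, hy, ey⟩ : J g x ∈ Im R c' := i ▸ isConj_iff.2 ⟨g, rfl⟩
    exact ⟨y, hy, (congrArg _ ey).trans (e g).symm⟩

end

end Cfsg.Agent.H19
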