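import Cfsg.Agent.H19.Psu

/-! # Labelled sets: transfer between labellings, and small tables -/

set_option autoImplicit false
set_option maxRecDepth 100000

namespace Cfsg.Agent.H19

open Cfsg.Agent.H14 Cfsg.Agent.H15 Subgroup

variable {G H : Type*} [Group G] [Group H]

theorem zc_iff {E : Set G} {z : G} : z ∈ centralizer E ↔ ∀ e ∈ E, Commute z e :=
  ⟨fun h e he => (h e he).symm, fun h e he => (h e he).symm.eq⟩

theorem zc_J {E : Set G} {z e : G} (hz : z ∈ centralizer E) (he : e ∈ E) : J z e = e :=
  J_of_commute (zc_iff.1 hz e he)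

theorem mem_center_closure {E : Set G} {z : closure E} :
    z ∈ center (closure E) ↔ (z : G) ∈ centralizer E := by
  rw [mem_center_iff, zc_iff]
  exact ⟨fun h e he => commute_coe.1 (h ⟨e, subset_closure he⟩).symm,
    fun h g => (commute_coe.2 (commute_of_mem_closure h g.2)).symm.eq⟩

/-- a list of different commuting points -/
structure CL (E : Set G) (l : List G) : Prop where
  nd : l.Nodup
  mem : ∀ a ∈ l, a ∈ E
  cm : ∀ a ∈ l, ∀ b ∈ l, Commute a b

theorem CL.nil (E : Set G) : CL E [] := ⟨List.nodup_nil, by simp, by simp⟩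

theorem cl_cons {E : Set G} {a : G} {t : List G} : CL E (a :: t) ↔ a ∈ E ∧ CL (Dd E a) t := by
  constructor
  · intro h
    have nd := List.nodup_cons.1 h.nd
    exact ⟨h.mem a (by simp), nd.2, fun b hb => ⟨h.mem b (by simp [hb]), fun e => nd.1 (e ▸ hb),
      h.cm a (by simp) b (by simp [hb])⟩, fun b hb c hc => h.cm b (by simp [hb]) c (by simp [hc])⟩
  · rintro ⟨ha, h⟩
    refine ⟨List.nodup_cons.2 ⟨fun k => (h.mem a k).2.1 rfl, h.nd⟩, fun b hb => ?_, fun b hb c hc => ?_⟩
    · rcases List.mem_cons.1 hb with rfl | hb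
      exacts [ha, (h.mem b hb).1]
    · rcases List.mem_cons.1 hb with e | hb <;> rcases List.mem_cons.1 hc with e' | hc
      exacts [e ▸ e' ▸ Commute.refl _, e ▸ (h.mem c hc).2.2, e' ▸ (h.mem b hb).2.2.symm,
        h.cm b hb c hc]

theorem CL.mono {E F : Set G} {l : List G} (h : CL E l) (s : E ⊆ F) : CL F l :=
  ⟨h.nd, fun a ha => s (h.mem a ha), h.cm⟩

theorem CL.sublist {E : Set G} {l l' : List G} (h : CL E l) (s : l'.Sublist l) : CL E l' :=
  ⟨h.nd.sublist s, fun a ha => h.mem a (s.subset ha), fun a ha b hb => h.cm a (s.subset ha) b (s.subset hb)⟩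

theorem CL.conj {E : Set G} {l : List G} (h : CL E l) {g : G} (hg : ∀ e ∈ E, J g e ∈ E) :
    CL E (l.map (J g)) := by
  refine ⟨h.nd.map (J_injective g), ?_, ?_⟩
  · simpa using fun a ha => hg a (h.mem a ha)
  · simpa using h.cm

theorem J_prod (g : G) (l : List G) : J g l.prod = (l.map (J g)).prod := by
  induction l with
  | nil => simp
  | cons a l ih => simp [J_map_mul, ih]

theorem CL.prod_mem {E : Set G} {l : List G} (h : CL E l) : l.prod ∈ closure E :=
  list_prod_mem fun a ha => subset_closure (h.mem a ha)

theorem CL.sq {E : Set G} (t : T3 E) {l : List G} (h : CL E l) : l.prod * l.prod = 1 := by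
  induction l generalizing E with
  | nil => simp
  | cons a l ih =>
    obtain ⟨ha, h'⟩ := cl_cons.1 h
    have c : Commute a l.prod := Commute.list_prod_right _ _ fun b hb => (h'.mem b hb).2.2
    rw [List.prod_cons, c.symm.mul_mul_mul_comm, t.sq a ha, ih (t.mono fun _ k => k.1) h', one_mul]

theorem CL.commute_prod {E : Set G} (t : T3 E) {l : List G} (h : CL E l) (n : l.length ≤ 3) {e : G}
    (he : e ∈ E) (c : Commute e l.prod) : ∀ a ∈ l, Commute e a := by
  rcases l with _ | ⟨a, _ | ⟨b, _ | ⟨d, _ | _⟩⟩⟩
  · simp
  · simpa using c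
  · have nd := h.nd
    simp only [List.nodup_cons, List.mem_cons, List.not_mem_nil, or_false] at nd
    simpa using t.commute_mul (h.mem a (by simp)) (h.mem b (by simp)) he nd.1 (by simpa using c)
  · have nd := h.nd
    simp only [List.nodup_cons, List.mem_cons, List.not_mem_nil, or_false, not_or] at nd
    simpa using t.commute_mul3 (h.mem a (by simp)) (h.mem b (by simp)) (h.mem d (by simp)) he
      nd.1.1 nd.1.2 nd.2.1 (h.cm a (by simp) b (by simp)) (h.cm a (by simp) d (by simp))
      (h.cm b (by simp) d (by simp)) (by simpa [mul_assoc] using c)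
  · simp at n; omega

/-- centralisers of points are generated by points, modulo the centre -/
def Cen (E : Set G) : Prop := ∀ d ∈ E, ∀ g ∈ closure E, Commute g d →
  ∃ h ∈ closure (Pp E d), h⁻¹ * g ∈ centralizer E

/-- involutions are products of at most `k` commuting points, modulo the centre -/
def Inv (E : Set G) (k : ℕ) : Prop := ∀ g ∈ closure E, g * g ∈ centralizer E →
  ∃ l, CL E l ∧ l.length ≤ k ∧ l.prod * g ∈ centralizer E

/-- the set is labelled by the table -/
def Lb (R : Raw) (E : Set G) : Prop := ∃ c, Lab R c ∧ Im R c = E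

theorem equiv_of_ker {Γ A B : Type*} [Group Γ] [Group A] [Group B] (f : Γ →* A) (f' : Γ →* B)
    (hf : Function.Surjective f) (hf' : Function.Surjective f') (h : f.ker = f'.ker) :
    ∃ e : A ≃* B, ∀ γ, e (f γ) = f' γ :=
  ⟨(QuotientGroup.quotientKerEquivOfSurjective f hf).symm.trans
    ((QuotientGroup.quotientMulEquivOfEq h).trans (QuotientGroup.quotientKerEquivOfSurjective f' hf')),
    fun γ => by
      have : (QuotientGroup.quotientKerEquivOfSurjective f hf).symm (f γ) = (γ : Γ ⧸ f.ker) :=
        (MulEquiv.symm_apply_eq _).2 rfl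
      rw [MulEquiv.trans_apply, this]; rfl⟩

theorem closure_fst (c : ℕ → G) (c' : ℕ → H) (S : Set ℕ) :
    (closure ((fun x => (c x, c' x)) '' S)).map (MonoidHom.fst G H) = closure (c '' S) := by
  rw [MonoidHom.map_closure, Set.image_image]; rfl

theorem closure_snd (c : ℕ → G) (c' : ℕ → H) (S : Set ℕ) :
    (closure ((fun x => (c x, c' x)) '' S)).map (MonoidHom.snd G H) = closure (c' '' S) := by
  rw [MonoidHom.map_closure, Set.image_image]; rfl

theorem lab_prod {R : Raw} {c : ℕ → G} {c' : ℕ → H} (h : Lab R c) (h' : Lab R c') :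
    Lab R fun x => (c x, c' x) :=
  ⟨h.good, fun x hx => Prod.ext (h.sq x hx) (h'.sq x hx),
    fun x hx y hy e => h.inj x hx y hy (congrArg Prod.fst e),
    fun x hx l hl => Prod.ext (h.act x hx l hl) (h'.act x hx l hl)⟩

theorem cl_of_im {R : Raw} {c : ℕ → G} {l : List G} (k : ∀ a ∈ l, a ∈ Im R c) :
    ∃ L : List ℕ, (∀ x ∈ L, x < R.n) ∧ l = L.map c := by
  induction l with
  | nil => exact ⟨[], by simp, rfl⟩
  | cons a l ih =>
    obtain ⟨L, h1, rfl⟩ := ih fun b hb => k b (by simp [hb])
    obtain ⟨x, hx, rfl⟩ := k a (by simp)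
    exact ⟨x :: L, by simpa using ⟨hx, h1⟩, rfl⟩

namespace Lab
variable {R : Raw} {c : ℕ → G} {c' : ℕ → H} (h : Lab R c)
include h

theorem pp {x : ℕ} (hx : x < R.n) : Pp (Im R c) (c x) = c '' {y | y < R.n ∧ R.rel x y ≠ 1} := by
  ext z
  constructor
  · rintro ⟨⟨y, hy, rfl⟩, k⟩; exact ⟨y, ⟨hy, (h.commute_iff hx hy).1 k⟩, rfl⟩
  · rintro ⟨y, ⟨hy, k⟩, rfl⟩; exact ⟨mem_Im hy, (h.commute_iff hx hy).2 k⟩

theorem cl_map {L : List ℕ} (k : ∀ x ∈ L, x < R.n) :
    CL (Im R c) (L.map c) ↔ L.Nodup ∧ ∀ x ∈ L, ∀ y ∈ L, R.rel x y ≠ 1 := by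
  constructor
  · intro a
    exact ⟨a.nd.of_map c, fun x hx y hy => (h.commute_iff (k x hx) (k y hy)).1
      (a.cm _ (List.mem_map_of_mem hx) _ (List.mem_map_of_mem hy))⟩
  · rintro ⟨a, b⟩
    refine ⟨a.map_on fun x hx y hy => h.inj x (k x hx) y (k y hy), ?_, ?_⟩
    · simpa using fun x hx => mem_Im (k x hx)
    · simpa using fun x hx y hy => (h.commute_iff (k x hx) (k y hy)).2 (b x hx y hy)

variable (h' : Lab R c')
include h'

theorem J_pair {γ : G × H} (m : γ ∈ closure (Im R fun x => (c x, c' x))) {x : ℕ} (hx : x < R.n) :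
    ∃ y < R.n, J γ.1 (c x) = c y ∧ J γ.2 (c' x) = c' y := by
  obtain ⟨y, hy, e⟩ := (lab_prod h h').J_mem m _ (mem_Im hx)
  exact ⟨y, hy, (congrArg Prod.fst e).symm, (congrArg Prod.snd e).symm⟩

theorem fix_iff {γ : G × H} (m : γ ∈ closure (Im R fun x => (c x, c' x))) {x : ℕ} (hx : x < R.n) :
    Commute γ.1 (c x) ↔ Commute γ.2 (c' x) := by
  obtain ⟨y, hy, e1, e2⟩ := h.J_pair h' m hx
  rw [← J_eq_self, ← J_eq_self, e1, e2]
  exact ⟨fun k => by rw [h.inj y hy x hx k], fun k => by rw [h'.inj y hy x hx k]⟩

theorem zc_pair {γ : G × H} (m : γ ∈ closure (Im R fun x => (c x, c' x))) :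
    γ.1 ∈ centralizer (Im R c) ↔ γ.2 ∈ centralizer (Im R c') := by
  simp only [zc_iff, Im, Set.forall_mem_image]
  exact forall_congr' fun x => forall_congr' fun hx => h.fix_iff h' m hx

theorem cen (k : Cen (Im R c')) : Cen (Im R c) := by
  rintro _ ⟨x, hx, rfl⟩ g hg cm
  obtain ⟨γ, m, rfl⟩ := (closure_fst c c' _).ge hg
  obtain ⟨a, ha, z⟩ := k _ (mem_Im hx) γ.2 ((closure_snd c c' _).le ⟨γ, m, rfl⟩)
    ((h.fix_iff h' m hx).1 cm)
  rw [h'.pp hx] at ha
  obtain ⟨δ, m', rfl⟩ := (closure_snd c c' _).ge ha
  refine ⟨δ.1, h.pp hx ▸ (closure_fst c c' _).le ⟨δ, m', rfl⟩, ?_⟩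
  exact (h.zc_pair h' (mul_mem (inv_mem (closure_mono (Set.image_mono fun y k => k.1) m')) m)).2 z

theorem inv {n : ℕ} (k : Inv (Im R c') n) : Inv (Im R c) n := by
  intro g hg sq
  obtain ⟨γ, m, rfl⟩ := (closure_fst c c' _).ge hg
  obtain ⟨l, hl, ln, z⟩ := k γ.2 ((closure_snd c c' _).le ⟨γ, m, rfl⟩)
    ((h.zc_pair h' (mul_mem m m)).1 sq)
  obtain ⟨L, lt, rfl⟩ := cl_of_im hl.mem
  refine ⟨L.map c, (h.cl_map lt).2 ((h'.cl_map lt).1 hl), by simpa using ln, ?_⟩
  have m' : (L.map fun x => (c x, c' x)).prod ∈ closure (Im R fun x => (c x, c' x)) :=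
    list_prod_mem (by simpa using fun x hx => subset_closure (mem_Im (c := fun x => (c x, c' x)) (lt x hx)))
  have := h.zc_pair h' (mul_mem m' m)
  rw [Prod.fst_mul, Prod.snd_mul, ← MonoidHom.coe_fst, ← MonoidHom.coe_snd, map_list_prod,
    map_list_prod, List.map_map, List.map_map] at this
  exact this.2 z

/-- two labellings by the same table generate isomorphic groups modulo the centres -/
theorem iso : ∃ e : Qt (Im R c) ≃* Qt (Im R c'), ∀ x (hx : x < R.n),
    e (QuotientGroup.mk ⟨c x, subset_closure (mem_Im hx)⟩) =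
      QuotientGroup.mk ⟨c' x, subset_closure (mem_Im hx)⟩ := by
  let Γ := closure (Im R fun x => (c x, c' x))
  let f : Γ →* closure (Im R c) := ((MonoidHom.fst G H).comp Γ.subtype).codRestrict _
    fun γ => (closure_fst c c' _).le ⟨γ, γ.2, rfl⟩
  let f' : Γ →* closure (Im R c') := ((MonoidHom.snd G H).comp Γ.subtype).codRestrict _
    fun γ => (closure_snd c c' _).le ⟨γ, γ.2, rfl⟩
  obtain ⟨e, he⟩ := equiv_of_ker ((QuotientGroup.mk' (center _)).comp f)
    ((QuotientGroup.mk' (center _)).comp f')
    ((QuotientGroup.mk'_surjective _).comp fun g => by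
      obtain ⟨γ, m, k⟩ := (closure_fst c c' _).ge g.2
      exact ⟨⟨γ, m⟩, Subtype.ext k⟩)
    ((QuotientGroup.mk'_surjective _).comp fun g => by
      obtain ⟨γ, m, k⟩ := (closure_snd c c' _).ge g.2
      exact ⟨⟨γ, m⟩, Subtype.ext k⟩)
    (by
      ext γ
      simp only [MonoidHom.mem_ker, MonoidHom.comp_apply, QuotientGroup.mk'_apply,
        QuotientGroup.eq_one_iff, mem_center_closure]
      exact h.zc_pair h' γ.2)
  exact ⟨e, fun x hx => he ⟨(c x, c' x), subset_closure (mem_Im (c := fun x => (c x, c' x)) hx)⟩⟩

end Lab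

/-- the group generated by a generating set of a group with trivial centre -/
theorem qt_top {D : Set G} (t : closure D = ⊤) (z : center G = ⊥) :
    ∃ e : Qt D ≃* G, ∀ x : closure D, e (QuotientGroup.mk x) = x := by
  refine equiv_of_ker (QuotientGroup.mk' _) (closure D).subtype (QuotientGroup.mk'_surjective _)
    (fun g => ⟨⟨g, t ▸ mem_top g⟩, rfl⟩) ?_
  ext x
  rw [QuotientGroup.ker_mk', mem_center_closure, MonoidHom.mem_ker, zc_iff, ← mem_bot, ← z]
  exact ⟨mem_center_of_closure t, fun k e _ => commute_of_mem_center k e⟩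

/-! ### small checks -/

/-- `y` is in `ex` or is joined to a point of `l` -/
noncomputable def Raw.sep (R : Raw) (l ex : List ℕ) (y : ℕ) : Bool :=
  memN ex y || anyL l fun e => Nat.beq (R.rel y e) 1

theorem Lab.sep {R : Raw} {c : ℕ → G} (h : Lab R c) {l ex : List ℕ} (ok : okW R.n l = true)
    (k : RAll (R.sep l ex) 0 R.n) {y : G} (hy : y ∈ Im R c) (cm : ∀ e ∈ l, Commute y (c e)) :
    y ∈ ex.map c := by
  obtain ⟨y, hy, rfl⟩ := hy
  have := k y (Nat.zero_le _) hy
  simp only [Raw.sep, Bool.or_eq_true, memN_iff, anyL_iff, nbeq_iff] at this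
  rcases this with m | ⟨e, he, r⟩
  · exact List.mem_map_of_mem m
  · exact absurd r ((h.commute_iff hy (okW_iff.1 ok e he)).1 (cm e he))

/-- relation `k` holds between the points of two lists -/
noncomputable def Raw.relL (R : Raw) (k : ℕ) (l l' : List ℕ) : Bool :=
  okW R.n l && okW R.n l' && allL l fun p => allL l' fun q => Nat.beq (R.rel p q) k

theorem Lab.relL {R : Raw} {c : ℕ → G} (h : Lab R c) {k : ℕ} {l l' : List ℕ}
    (ok : R.relL k l l' = true) : ∀ p ∈ l, ∀ q ∈ l', Rel k (c p) (c q) := by
  simp only [Raw.relL, Bool.and_eq_true, allL_iff, okW_iff, nbeq_iff] at ok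
  exact fun p hp q hq => (h.rel_iff (ok.1.1 p hp) (ok.1.2 q hq)).2 (ok.2 p hp q hq)

/-- different commuting points -/
noncomputable def Raw.clOk (R : Raw) (l : List ℕ) : Bool :=
  okW R.n l && decide l.Nodup && allL l fun p => allL l fun q => !Nat.beq (R.rel p q) 1

theorem Lab.clOk {R : Raw} {c : ℕ → G} (h : Lab R c) {l : List ℕ} (ok : R.clOk l = true) :
    CL (Im R c) (l.map c) := by
  simp only [Raw.clOk, Bool.and_eq_true, allL_iff, okW_iff, Bool.not_eq_true', nbeq_false,
    decide_eq_true_eq] at ok
  exact (h.cl_map ok.1.1).2 ⟨ok.1.2, ok.2⟩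

/-- the word in points acts trivially -/
noncomputable def Raw.trivP (R : Raw) (w : List ℕ) : Bool :=
  okW R.n w && allLt R.L fun l => Nat.beq (R.pw id w (R.lp l)) (R.lp l)

theorem lprod_eq_map (c : ℕ → G) (w : List ℕ) : lprod c w = (w.map c).prod := by
  induction w with
  | nil => simp
  | cons a w ih => rw [lprod_cons, ih]; simp

theorem Lab.trivP {R : Raw} {c : ℕ → G} (h : Lab R c) {w : List ℕ} (k : R.trivP w = true) :
    (w.map c).prod ∈ centralizer (Im R c) := by
  simp only [Raw.trivP, Bool.and_eq_true, allLt_iff, nbeq_iff] at k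
  rw [← lprod_eq_map, ← inv_mem_iff, zc_iff]
  refine h.commute_all fun l hl => J_eq_self.1 ?_
  have := (h.pw_id k.1 (h.good.lp_lt hl)).2
  rw [k.2 l hl] at this
  exact this.symm

namespace Fis
def fxWT : ℕ := nat_lit 0xf9e2e9c3e7aa7e541aa3f97e5f9fe5a420ca4fe5a17e7f968f916918a3e798a715164af8be6f8be2a97e2ab127ac7e2aaea6f9fe59a3e1f9be7ab6a8f8eafa82a2a8684f97e683ea7f92b2ac2a4abbe4f9fe7a07e782202acfe4aaa4b797e3f97e2f8a86a27e2f8be7a220a8828741e00f8fe7f8a8a827e4f8a92f93e290e2399147f87e0f968cf9a25a0be3f8dea8a7e4f93e548fe5f9203f8da7f9be6997e3f964f92651a2fe7f93e7f9a50f8e47f8be3f8be5f9646f97e3f9e24f95e4721c5a0167f8fe7f962bf87e4f9a44f83e1f89a8f8be492207f8964f93e7905e9f87e0f83e06afe382fe6f8e61813e490be393640938e6f93e3931a960be5f8e26f9a2d61e6c9bbe6f9e6af8dcb816019ad6af9267507e2588e4f83e7f87e371be55a7e188a69f93e6f8fe1f93e1f8be0f87e0f8dcaf8949f93e4f9be5f9d84695cdf83e0f83e3f9fe68a98af9be4f89c4627e3f8a8ef920ea37e481a21f8fe499be2f89e840fe2f88e5f8fe2523e1f8be0313e1f83e08b283f8588f87e189fe1f8be57b3e0f9be0f8fe368a63837e4983e4f9be27b5cc49be0f99a3f8a6d60f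e3f8be49bfe3f9a2ff9142f97e3503e3317e2f93e2f8568683e3f8be1f85a4f81c9f87e0f83e0f83e17afe1f84e158fe6f8be0f83e1f8965f87e6519e661be6f8fe4f8fe3513e5f9be2f8966687e26b161f8ce3f87e2f856038943f87e1f8be5f83e0f93e2f87e1f83e3f8185f8fe0f87e2f87e0f83e0f83e1f9fe2705c328fe1f83e1f81e7f87e1f8dc2f8d8069be2489c0605e0f8fe271fe6f9fe1293e1f8be4f83e1f8be7f87e1f83e130de3f87e0f83e0f83e140be1f83e0f8de2f88c2f87e1f8504f83e0f83e018be1f97e5f8925f88c1f87e0f83e4f97e1f87e2f8fe5f8105f8be3f8100f87e1407e1f83e1f87e1f83e0f87e2493e4f87e0f83e0f83e3f83e0f83e0f8c82f8be3f8483f83e1f87e2f8be0f83e1f8520f8be2f8fe0f83e0f83e2487e1185e1f83e0f87e1f83e0f83e0f83e0f87e228be1f83e0f87e0f83e0287e2f87e1f8041f87e3f83e1f83e4f8fe0f83e0f83e0f83e0f83e0f87e1f87e0f87e0f83e2207e1f83e0f83e0f83e0f87e1f83e0ad2309cbe46abe53818bf91eef8d28f88c0f8be3f8be3f80a0f8be1f8fe2f83e2f8480f83e1f83e2183e0f83e1f83e1f83e0103e3f87e0f83e1f83e0f87e0f8be1f83e0f83e0f87e1f83e0083e0f8400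
noncomputable def fxW (x : ℕ) : ℕ := Nat.land (Nat.shiftRight fxWT (Nat.mul x (nat_lit 10))) (nat_lit 1023)
def fxMT : ℕ := nat_lit 0x8000000000002000000008000000100000000000000000000000200000000000000000000000000000000000000000000000000000000000000000000000000000000000000000000000000000000000000000001004010000000000000000000000000000200000000000000200000000000000000002000040000020042000021000000842000000000000000000000000000042000021080000000000000000000000000000080200000000000000030800000000000000000000000000000000000000000000000000000000000000000000000000000000000000010040000000000000000000000000000040108020000000000000001000200000200000004000004108000000000840000000000000000000000100010840000000100001000108000004000000000000000000000108400000010802100000004200002000800000000000000000000000000000001000200800000000000000000000420000000002000000000000000000000000000000000000000000000000000000000000000000000000000000000000000000000000000000042010401000000000000000000000000000001000000000100402000000000000001000000040100001000000000000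0610800010421000000080000421080000004100000000000000000000000410840000020000200042000000004200000000000000000002100000080200002000403000000000000000000000042100000000020000000000000000000000000000000000000000000000000000000000000000000000080000000000000000000802008000000000000000000a88200000208801000000000000000000000000000400000000002000c000000000000080000000000420000000082000002084200000000c210800000001000210000108000080010002000000000000000208001000200800100020080000000000000004000042108421000000000000c00000000000000000000000000000000800000000000000000000000000000004010040008020000000040000000000010082300001000000000000000080000080100000008200000000000000000042000000004000000000000004611000000441000010800108000000210000000000004010002000401000200000000002000011040108800000000000000400000000000000000008140002008400000000802000000000000000008022004000880000000084000000200c000480000800000000000000000000000000000000000200004b08000004200040000042088001080000001004000802008000000000000200421000001000000000000010800000000000000040050400000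410042100000000010040000020000030004010002000000042100000000000000000000000000000000020000010884000c60004200801100440180000000000000004200000000000000010000108000000000000008020000000042100000000409842008000000000000000421000000000000000000006a04000002000220042110020000000000000000100000000000001004200042100021000000040118420000200800000421084000000008000004200000000002000001080010000000000000000000000000002008421000010044108001104200842100000084200000000001000010000000000000000000e000000000008821004420844c0842008420000000840000001000000006208000004420844218c20004200002000000108004882103c020006010000000000000000020000000000008000000200000000000000000000000000000000040000000000000000000000000200002000000000000000000000000000000000000100000000000000000010002000020004000000000000000000000000000000000000000000000010002000020004000804000000000000000000000000000000000001000010002000400080010040100400000000000000000000000000008020004000802000400080200802000400000000000000000000000006008020004000802008020080010040000000080000000000000008010040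1004010080100021180000000000800000000000008020080000804000421088000000038000080000002100801000200042308403000000000130000080200840110002088000040000062100201004108400008002880000023104001042100040004800040108002080010002200402080020044018c0010040184020002208000084000800008000000000000000000000000000000000000000000000000000000000000000000000000000000000000000000000000000000000000000000000000000000000000100000000000000000000000000000000000000000000000000000000000000000000000004000000000000000000421000000000000000000000000000000000000000000000000000002000000000000000000001004000000000000000210800000000000000000000000000000000000000000010002100000000000000100800000000000000001000000000000000000000000000000000000002000421080000000000440000000000000000000000000000000000000000000021000000802000800004210800000000080200000000000000000000000000000200000008000004210800008c00000000002108400000000000108000000001000008000000200002100000004210802110400000000800000420000000042210000000410002108461000000840108400000200002018001108210844200001004200002210422000420000000000000000000000060000001000008040004400802100001080220040008c220004300400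
noncomputable def fxM (x : ℕ) : ℕ := Nat.land (Nat.shiftRight fxMT (Nat.mul x (nat_lit 5))) (nat_lit 31)
def fxB : List ℕ := [696, 699, 717, 723, 753, 775, 819, 855, 1558, 1283, 1759, 1844, 1344, 1559, 1364, 1278, 2159, 1664, 1882, 1595, 1940, 2367]
def bsU : List ℕ := [0, 10, 13, 44, 17, 45, 62, 130, 132, 138, 142, 166, 258, 356, 620, 628, 633,
  643, 659, 660, 662]
theorem lcU : RAll (RU.sep [28, 44, 32, 130] [0, 2, 1]) 0 693 := RAll.of (by decide +kernel)
theorem vtU : RAll (RU.sep [0, 10, 28, 13, 32] [0]) 0 693 := RAll.of (by decide +kernel)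
theorem radU : RAll (RU.sep [0, 10, 13, 32] [0, 10, 44, 628, 633]) 0 693 := RAll.of (by decide +kernel)
theorem mxU : RAll (RU.sep bsU bsU) 0 693 := RAll.of (by decide +kernel)
theorem clU : RU.clOk bsU = true := by decide +kernel
theorem cntU : ((List.range 693).filter fun y => Nat.beq (RU.rel y 0) 0).length = 180 := by
  decide +kernel
theorem bad4 : RU.bad [0, 10, 13, 44] [2, 28] 0 0 = true := by decide +kernel
theorem fx1 : R22.clOk fxB = true := by decide +kernel
theorem fx2 : RAll (fun y => frc (nthN fxB (fxM y)) fun b => Nat.blt (fxM y) 22 &&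
    (Nat.beq b y || Nat.beq (R22.rel y b) 1)) 0 3510 := RAll.of (by decide +kernel)
theorem fx3 : RAll (fun y => frc (fxW y % 32) fun i => frc (fxW y / 32) fun j => Nat.blt i 22 &&
    (Nat.beq (R22.rel y (nthN fxB i)) 0 || Nat.blt j 22 && !Nat.beq i j &&
      Nat.beq (R22.mul (R22.mul 0 (nthN fxB j)) (nthN fxB i)) y)) 1 694 := RAll.of (by decide +kernel)
theorem fx4 : ∀ i < 22, ∀ j < 22, i = j ∨
    fxW (R22.mul (R22.mul 0 (nthN fxB j)) (nthN fxB i)) = i + 32 * j ∨
    fxW (R22.mul (R22.mul 0 (nthN fxB j)) (nthN fxB i)) = j + 32 * i := by decide +kernel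
theorem fx5 : R22.relL 1 [0] fxB = true := by decide +kernel
end Fis

end Cfsg.Agent.H19
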