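import Cfsg.Agent.H19.Oc2

/-! Abstract description of the normalizer of a torus (and of a Sylow 2-subgroup) of `G₂(q)`. -/

set_option autoImplicit false

namespace Cfsg.Agent.H19.Gt

/-- `H = τ(K × K) ⋊ ⟨u, v⟩` with `u` inverting and `v` swapping. -/
structure Gs {G K : Type*} [Group G] [CommGroup K] (H : Subgroup G) (τ : K × K →* G) (u v : G) :
    Prop where
  cyc : IsCyclic K
  four : 4 ∣ Nat.card K
  inj : Function.Injective τ
  uu : u * u = 1
  vv : v * v = 1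
  uv : u * v = v * u
  ut : ∀ a b, u * τ (a, b) = τ (a⁻¹, b⁻¹) * u
  vt : ∀ a b, v * τ (a, b) = τ (b, a) * v
  mem : ∀ g, g ∈ H ↔ ∃ a b, g = τ (a, b) ∨ g = τ (a, b) * u ∨ g = τ (a, b) * v ∨
    g = τ (a, b) * (u * v)

end Cfsg.Agent.H19.Gt
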