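import Cfsg.Agent.H19.Gt0

/-! Computations in a group of type `Gs`. -/

set_option autoImplicit false

namespace Cfsg.Agent.H19.Gt

open Subgroup

theorem twosyl {G : Type*} [Group G] [Finite G] (S : Sylow 2 G) {x y g : G} (hg : g * y * g⁻¹ = x) :
    ∃ h h' : G, h * x * h⁻¹ = h' * y * h'⁻¹ ∧
      (∀ s ∈ (S : Subgroup G), s * x = x * s → h * s * h⁻¹ ∈ (S : Subgroup G)) ∧
      ∀ s ∈ (S : Subgroup G), s * y = y * s → h' * s * h'⁻¹ ∈ (S : Subgroup G) := by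
  let C := centralizer ({x} : Set G)
  have p1 : IsPGroup 2 ((S : Subgroup G).subgroupOf C) :=
    S.2.comap_of_injective C.subtype C.subtype_injective
  have p2 : IsPGroup 2 (((S : Subgroup G).map (MulAut.conj g).toMonoidHom).subgroupOf C) :=
    (S.2.map _).comap_of_injective C.subtype C.subtype_injective
  obtain ⟨Q1, h1⟩ := p1.exists_le_sylow
  obtain ⟨Q2, h2⟩ := p2.exists_le_sylow
  obtain ⟨k, hk⟩ := MulAction.exists_smul_eq C Q2 Q1
  obtain ⟨R, hR⟩ := (Q1.2.map C.subtype).exists_le_sylow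
  obtain ⟨h, hh⟩ := MulAction.exists_smul_eq G R S
  have key : ∀ q : C, q ∈ (Q1 : Subgroup C) → h * q * h⁻¹ ∈ (S : Subgroup G) := fun q hq => by
    rw [← hh]
    exact ⟨q, hR ⟨q, hq, rfl⟩, rfl⟩
  have kx : (k : G) * x = x * k := mem_centralizer_singleton_iff.1 k.2
  refine ⟨h, h * k * g, ?_, fun s hs e => key ⟨s, mem_centralizer_singleton_iff.2 e⟩ (h1 hs),
    fun s hs e => ?_⟩
  · calc h * x * h⁻¹ = h * (k * x * (k : G)⁻¹) * h⁻¹ := by rw [kx]; group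
      _ = _ := by rw [← hg]; group
  · have hm : g * s * g⁻¹ ∈ C := mem_centralizer_singleton_iff.2 (by
      rw [← hg]
      calc g * s * g⁻¹ * (g * y * g⁻¹) = g * (s * y) * g⁻¹ := by group
        _ = _ := by rw [e]; group)
    have h3 : k * ⟨_, hm⟩ * k⁻¹ ∈ (Q1 : Subgroup C) := by
      rw [← hk]
      exact ⟨⟨_, hm⟩, h2 ⟨s, hs, rfl⟩, rfl⟩
    have := key _ h3
    simpa [mul_assoc] using this

theorem grp_contra {Γ : Type*} [Group Γ] (H : Subgroup Γ) {U V k : Γ} (hU : ∀ x, x * U = U * x)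
    (hUU : U * U = 1) (hU1 : U ≠ 1) (hVV : V * V = 1) (hk : k * V = U * V * k) (hV : V ∈ H) (hkH : k ∈ H)
    (ho : ∀ x ∈ H, ∃ j : ℕ, x ^ (2 * (2 * j + 1)) = 1) : False := by
  have h2 : k * k * V = V * (k * k) := by
    calc k * k * V = k * (U * V * k) := by rw [mul_assoc, hk]
      _ = U * (k * V) * k := by rw [← mul_assoc, ← mul_assoc, hU k]; group
      _ = (U * U) * V * (k * k) := by rw [hk]; group
      _ = _ := by rw [hUU, one_mul]
  obtain ⟨j, hj⟩ := ho k hkH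
  set k' := k ^ (2 * j + 1) with hk'
  have h3 : k' * V = U * V * k' := by
    have hc : Commute ((k * k) ^ j) V := (show Commute (k * k) V from h2).pow_left j
    have e : k' = (k * k) ^ j * k := by rw [hk', pow_succ, pow_mul, pow_two]
    rw [e, mul_assoc, hk, ← mul_assoc, ← mul_assoc, hU, mul_assoc U, hc.eq]; group
  have h4 : k' * k' = 1 := by rw [hk', ← pow_two, ← pow_mul, mul_comm, hj]
  have h5 : (k' * V) ^ 2 = U := by
    calc (k' * V) ^ 2 = (k' * V) * k' * V := by rw [pow_two]; group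
      _ = U * V * (k' * k') * V := by rw [h3]; group
      _ = U := by rw [h4, mul_one, mul_assoc, hVV, mul_one]
  obtain ⟨i, hi⟩ := ho (k' * V) (H.mul_mem (H.pow_mem hkH _) hV)
  rw [pow_mul, h5, pow_succ, pow_mul, pow_two, hUU, one_pow, one_mul] at hi
  exact hU1 hi

/-- the data attached to a cyclic `2`-group of order at least `4`. -/
theorem cyc_data {K : Type*} [CommGroup K] [Finite K] (hc : IsCyclic K) (h4 : 4 ∣ Nat.card K) :
    ∃ ρ : K, ρ * ρ ≠ 1 ∧ ρ * ρ * (ρ * ρ) = 1 ∧ (∀ a : K, a * a = 1 → a = 1 ∨ a = ρ * ρ) ∧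
      (8 ∣ Nat.card K → ∃ σ, σ * σ = ρ) := by
  obtain ⟨κ, hκ⟩ := hc.exists_ofOrder_eq_natCard
  obtain ⟨n, hn⟩ := h4
  have hn0 : 0 < n := by
    have := Nat.card_pos (α := K); omega
  have hgen : ∀ a : K, ∃ i : ℕ, a = κ ^ i := fun a => by
    have : zpowers κ = ⊤ := eq_top_of_card_eq _ (by rw [Nat.card_zpowers, hκ])
    obtain ⟨i, hi⟩ := (mem_powers_iff_mem_zpowers.2 (this ▸ mem_top a) : a ∈ Submonoid.powers κ)
    exact ⟨i, hi.symm⟩
  refine ⟨κ ^ n, fun e => ?_, ?_, fun a ha => ?_, fun h8 => ?_⟩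
  · rw [← pow_add] at e
    have := Nat.le_of_dvd (by omega) (orderOf_dvd_of_pow_eq_one e)
    omega
  · rw [← pow_add, ← pow_add, show n + n + (n + n) = orderOf κ by omega, pow_orderOf_eq_one]
  · obtain ⟨i, rfl⟩ := hgen a
    rw [← pow_add] at ha
    obtain ⟨j, hj⟩ := orderOf_dvd_of_pow_eq_one ha
    have hi : i = 2 * n * j := by rw [hκ, hn] at hj; nlinarith
    have h1 : κ ^ (4 * n) = 1 := by rw [← hn, ← hκ, pow_orderOf_eq_one]
    rcases Nat.even_or_odd' j with ⟨l, rfl | rfl⟩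
    · left; rw [hi, show 2 * n * (2 * l) = 4 * n * l by ring, pow_mul, h1, one_pow]
    · right
      rw [hi, show 2 * n * (2 * l + 1) = 4 * n * l + (n + n) by ring, pow_add, pow_mul, h1, one_pow,
        one_mul, pow_add]
  · obtain ⟨m, hm⟩ := h8
    exact ⟨κ ^ m, by rw [← pow_add]; congr 1; omega⟩

variable {G K : Type*} [Group G] [CommGroup K] {S : Subgroup G} {τ : K × K →* G} {u v : G}

theorem tm (τ : K × K →* G) (a b c d : K) : τ (a, b) * τ (c, d) = τ (a * c, b * d) := by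
  rw [← map_mul]; rfl

theorem tm' (τ : K × K →* G) (a b c d : K) (g : G) :
    τ (a, b) * (τ (c, d) * g) = τ (a * c, b * d) * g := by
  rw [← mul_assoc, tm]

theorem t1 (τ : K × K →* G) : τ (1, 1) = 1 := map_one τ

theorem tinv (τ : K × K →* G) (a b : K) : (τ (a, b))⁻¹ = τ (a⁻¹, b⁻¹) := by
  rw [← map_inv]; rfl

namespace Gs

theorem ut' (h : Gs S τ u v) (a b : K) (g : G) : u * (τ (a, b) * g) = τ (a⁻¹, b⁻¹) * (u * g) := by
  rw [← mul_assoc, h.ut, mul_assoc]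
theorem vt' (h : Gs S τ u v) (a b : K) (g : G) : v * (τ (a, b) * g) = τ (b, a) * (v * g) := by
  rw [← mul_assoc, h.vt, mul_assoc]
theorem uu' (h : Gs S τ u v) (g : G) : u * (u * g) = g := by rw [← mul_assoc, h.uu, one_mul]
theorem vv' (h : Gs S τ u v) (g : G) : v * (v * g) = g := by rw [← mul_assoc, h.vv, one_mul]
theorem vu' (h : Gs S τ u v) (g : G) : v * (u * g) = u * (v * g) := by
  rw [← mul_assoc, ← h.uv, mul_assoc]
theorem ui (h : Gs S τ u v) : u⁻¹ = u := inv_eq_of_mul_eq_one_right h.uu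
theorem vi (h : Gs S τ u v) : v⁻¹ = v := inv_eq_of_mul_eq_one_right h.vv
theorem teq (h : Gs S τ u v) {a b c d : K} : τ (a, b) = τ (c, d) ↔ a = c ∧ b = d :=
  h.inj.eq_iff.trans Prod.ext_iff
theorem teq1 (h : Gs S τ u v) {a b : K} : τ (a, b) = 1 ↔ a = 1 ∧ b = 1 := by
  rw [← t1 τ, h.teq]
theorem tS (h : Gs S τ u v) (a b : K) : τ (a, b) ∈ S := (h.mem _).2 ⟨a, b, .inl rfl⟩
theorem uS (h : Gs S τ u v) : u ∈ S := (h.mem _).2 ⟨1, 1, .inr (.inl (by rw [t1, one_mul]))⟩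
theorem vS (h : Gs S τ u v) : v ∈ S := (h.mem _).2 ⟨1, 1, .inr (.inr (.inl (by rw [t1, one_mul])))⟩

/-- squares lie in the torus -/
theorem sq (h : Gs S τ u v) {s : G} (hs : s ∈ S) : ∃ a b, s * s = τ (a, b) := by
  obtain ⟨a, b, rfl | rfl | rfl | rfl⟩ := (h.mem _).1 hs
  · exact ⟨_, _, tm ..⟩
  · exact ⟨_, _, by rw [mul_assoc, h.ut', h.uu, mul_one, tm]⟩
  · exact ⟨_, _, by rw [mul_assoc, h.vt', h.vv, mul_one, tm]⟩
  · exact ⟨_, _, by rw [mul_assoc, mul_assoc u, h.vt', h.ut', h.vu', h.vv, mul_one, h.uu, mul_one, tm]⟩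

theorem cu (h : Gs S τ u v) {a b c d : K} :
    τ (c, d) * (τ (a, b) * u) = τ (a, b) * u * τ (c, d) ↔ c * c = 1 ∧ d * d = 1 := by
  rw [mul_assoc, h.ut, tm', tm', mul_left_inj, h.teq, mul_comm c, mul_comm d, mul_right_inj,
    mul_right_inj, ← mul_eq_one_iff_eq_inv, ← mul_eq_one_iff_eq_inv]

theorem cv (h : Gs S τ u v) {a b c d : K} :
    τ (c, d) * (τ (a, b) * v) = τ (a, b) * v * τ (c, d) ↔ c = d := by
  rw [mul_assoc, h.vt, tm', tm', mul_left_inj, h.teq, mul_comm c, mul_comm d b, mul_right_inj,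
    mul_right_inj]
  exact ⟨fun e => e.1, fun e => ⟨e, e.symm⟩⟩

theorem cw (h : Gs S τ u v) {a b c d : K} :
    τ (c, d) * (τ (a, b) * (u * v)) = τ (a, b) * (u * v) * τ (c, d) ↔ d = c⁻¹ := by
  rw [mul_assoc, mul_assoc, h.vt, h.ut', tm', tm', mul_left_inj, h.teq, mul_comm c, mul_comm d b,
    mul_right_inj, mul_right_inj]
  exact ⟨fun e => e.2, fun e => ⟨by rw [e, inv_inv], e⟩⟩

theorem invv (h : Gs S τ u v) {a b : K} (e : τ (a, b) * v * (τ (a, b) * v) = 1) :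
    τ (a, b) * v = τ (a, 1) * v * (τ (a, 1))⁻¹ := by
  rw [mul_assoc, h.vt', h.vv, mul_one, tm, h.teq1] at e
  rw [tinv, mul_assoc, h.vt, tm', mul_left_inj, h.teq]
  exact ⟨by simp, by rw [one_mul]; exact eq_inv_of_mul_eq_one_right e.1⟩

theorem invw (h : Gs S τ u v) {a b : K} (e : τ (a, b) * (u * v) * (τ (a, b) * (u * v)) = 1) :
    τ (a, b) * (u * v) = τ (a, 1) * (u * v) * (τ (a, 1))⁻¹ := by
  rw [mul_assoc, mul_assoc u, h.vt', h.ut', h.vu', h.vv, mul_one, h.uu, mul_one, tm, h.teq1] at e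
  rw [tinv, mul_assoc, mul_assoc, h.vt, h.ut', tm', mul_left_inj, h.teq]
  exact ⟨by simp, by simpa using (mul_inv_eq_one.1 e.1).symm⟩

/-- exchanging `v` and `u v` -/
theorem flip (h : Gs S τ u v) :
    Gs S (τ.comp ((MonoidHom.id K).prodMap (invMonoidHom : K →* K))) u (u * v) where
  cyc := h.cyc
  four := h.four
  inj := fun x y e => by
    have := h.teq.1 (show τ (x.1, x.2⁻¹) = τ (y.1, y.2⁻¹) from e)
    exact Prod.ext this.1 (inv_injective this.2)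
  uu := h.uu
  vv := by rw [mul_assoc, h.vu', h.vv, mul_one, h.uu]
  uv := by rw [mul_assoc, ← h.uv]
  ut := fun a b => h.ut a b⁻¹
  vt := fun a b => by
    show u * v * τ (a, b⁻¹) = τ (b, a⁻¹) * (u * v)
    rw [mul_assoc, h.vt, h.ut', inv_inv]
  mem := fun g => by
    rw [h.mem, h.uu']
    constructor
    · rintro ⟨a, b, e⟩
      refine ⟨a, b⁻¹, ?_⟩
      show g = τ (a, b⁻¹⁻¹) ∨ g = τ (a, b⁻¹⁻¹) * u ∨ g = τ (a, b⁻¹⁻¹) * (u * v) ∨ g = τ (a, b⁻¹⁻¹) * v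
      rw [inv_inv]; tauto
    · rintro ⟨a, b, e⟩
      refine ⟨a, b⁻¹, ?_⟩
      change g = τ (a, b⁻¹) ∨ g = τ (a, b⁻¹) * u ∨ g = τ (a, b⁻¹) * (u * v) ∨ g = τ (a, b⁻¹) * v at e
      tauto

end Gs

end Cfsg.Agent.H19.Gt
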