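import Cfsg.Agent.H26.Lf0
import Cfsg.Agent.H2.Cores
import Cfsg.Prelude.Def_PLocal
import Cfsg.Prelude.Def_CaseTheorems

namespace Cfsg.Agent.H26.Lf
open Subgroup
universe u
variable {G : Type u} [Group G] [Finite G] {S A B : Subgroup G}

theorem scen_solv (h : St S A B)
    (hodd : ∀ (X : Type u) [Group X] [Finite X], Odd (Nat.card X) → Group.IsSolvable X)
    (key : ∀ (X : Type u) [Group X] [Finite X] (S A B : Subgroup X), St S A B →
      (∀ K : Subgroup X, K.Normal → Odd (Nat.card K) → K = ⊥) →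
      ∀ z ∈ S, z ≠ 1 → z ∈ center X → S.Normal)
    {z : G} (hz : z ∈ A ⊓ B) (hz1 : z ≠ 1) :
    Group.IsSolvable (↥(centralizer ({z} : Set G)) ⧸ Cfsg.oddCore ↥(centralizer ({z} : Set G))) := by
  haveI : Fact (Nat.Prime 2) := ⟨Nat.prime_two⟩
  set C := centralizer ({z} : Set G) with hC
  have hSC : S ≤ C := fun s hs => by
    rw [hC, mem_centralizer_singleton_iff]; exact h.cenZ hs hz
  have hzC : z ∈ C := hSC (h.leZ hz)
  have h1 := h.sub C hSC
  have hOo : Odd (Nat.card (Cfsg.oddCore C)) :=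
    (Nat.coprime_two_right).1 (H2.pPrimeCore_coprime (p := 2) (G := C))
  have h2 := h1.quot (Cfsg.oddCore C) hOo
  have hO : ∀ K : Subgroup (C ⧸ Cfsg.oddCore C), K.Normal → Odd (Nat.card K) → K = ⊥ := by
    intro K hK ho
    have hle : K ≤ pPrimeCore 2 (C ⧸ Cfsg.oddCore C) :=
      H2.le_pPrimeCore ((Nat.coprime_two_right).2 ho)
    have hb : pPrimeCore 2 (C ⧸ Cfsg.oddCore C) = ⊥ := H2.pPrimeCore_quotient_self
    rw [hb] at hle
    exact le_bot_iff.1 hle
  have hzS : (QuotientGroup.mk' (Cfsg.oddCore C)) ⟨z, hzC⟩ ∈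
      (S.subgroupOf C).map (QuotientGroup.mk' (Cfsg.oddCore C)) :=
    ⟨⟨z, hzC⟩, h.leZ hz, rfl⟩
  have hz2 : orderOf (⟨z, hzC⟩ : C) = 2 := by
    apply orderOf_eq_prime
    · ext; simpa [pow_two] using h.sqA z hz.1
    · intro e; exact hz1 (congrArg Subtype.val e)
  have hzn : (QuotientGroup.mk' (Cfsg.oddCore C)) ⟨z, hzC⟩ ≠ 1 := by
    intro e
    have hm : (⟨z, hzC⟩ : C) ∈ Cfsg.oddCore C := by simpa using e
    have := (Cfsg.oddCore C).orderOf_dvd_natCard hm
    rw [hz2] at this
    exact (Nat.not_even_iff_odd.2 hOo) (even_iff_two_dvd.2 this)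
  have hzc : (QuotientGroup.mk' (Cfsg.oddCore C)) ⟨z, hzC⟩ ∈ center (C ⧸ Cfsg.oddCore C) := by
    rw [mem_center_iff]
    intro q
    obtain ⟨c, rfl⟩ := QuotientGroup.mk'_surjective (Cfsg.oddCore C) q
    rw [← map_mul, ← map_mul]
    congr 1
    ext
    exact mem_centralizer_singleton_iff.1 c.2
  haveI hn := key _ _ _ _ h2 hO _ hzS hzn hzc
  set T := (S.subgroupOf C).map (QuotientGroup.mk' (Cfsg.oddCore C)) with hT
  haveI : Group.IsNilpotent T := h2.pS.isNilpotent
  haveI : Group.IsSolvable ((C ⧸ Cfsg.oddCore C) ⧸ T) := by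
    apply hodd
    have := h2.odd
    rw [← Nat.not_even_iff_odd, even_iff_two_dvd]
    exact this
  exact Group.isSolvable_of_ker_le_range T.subtype (QuotientGroup.mk' T) (by simp)

theorem scen_nocomp {X : Type*} [Group X] [Group.IsSolvable X] : ¬ Cfsg.HasComponent X := by
  rintro ⟨K, -, hp, hs⟩
  haveI := hp
  have hK : Subsingleton K := by
    by_contra hn
    haveI : Nontrivial K := not_subsingleton_iff_nontrivial.1 hn
    exact Group.IsPerfect.not_isSolvable K inferInstance
  haveI : Subsingleton (K ⧸ center K) := (QuotientGroup.mk'_surjective (center K)).subsingleton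
  exact not_nontrivial (K ⧸ center K) inferInstance

theorem scen_of [IsSimpleGroup G] (h : St S A B)
    (hodd : ∀ (X : Type u) [Group X] [Finite X], Odd (Nat.card X) → Group.IsSolvable X)
    (h1296 : Even (Nat.card G) → (∀ N : Subgroup G, N.Normal → N.index ≠ 2) → Cfsg.oddCore G = ⊥ →
      Cfsg.PRankLE 2 2 G ∨ Cfsg.IsComponentType G ∨ Cfsg.IsCharacteristicTwoType G)
    (hf : ∀ t : G, orderOf t = 2 → ∃ g : G, g * t * g⁻¹ ∈ A ⊓ B)
    (key : ∀ (X : Type u) [Group X] [Finite X] (S A B : Subgroup X), St S A B →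
      (∀ K : Subgroup X, K.Normal → Odd (Nat.card K) → K = ⊥) →
      ∀ z ∈ S, z ≠ 1 → z ∈ center X → S.Normal) :
    (∀ z ∈ A ⊓ B, z ≠ 1 → centralizer {z} ≤ normalizer (S : Set G)) ∧
      centralizer (S : Set G) ≤ S := by
  haveI : Fact (Nat.Prime 2) := ⟨Nat.prime_two⟩
  have h64 : 64 ∣ Nat.card G := h.cS ▸ S.card_subgroup_dvd_card
  have hev : Even (Nat.card G) := even_iff_two_dvd.2 (Dvd.dvd.trans (by norm_num) h64)
  have hO2 : ∀ N : Subgroup G, N.Normal → N.index ≠ 2 := by
    intro N hN e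
    rcases hN.eq_bot_or_eq_top with rfl | rfl
    · rw [index_bot] at e; rw [e] at h64; norm_num at h64
    · rw [index_top] at e; norm_num at e
  have hO : Cfsg.oddCore G = ⊥ := by
    rcases (inferInstance : (Cfsg.oddCore G).Normal).eq_bot_or_eq_top with e | e
    · exact e
    · have := (H2.pPrimeCore_eq_top_iff (p := 2) (G := G)).1 e
      exact absurd ((Nat.coprime_two_right).1 this) (Nat.not_odd_iff_even.2 hev)
  have hch : Cfsg.IsCharacteristicTwoType G := by
    rcases h1296 hev hO2 hO with h1 | h1 | h1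
    · have := h1 A ⟨⟨fun a b => Subtype.ext (h.commA a.2 b.2)⟩⟩
        (fun a ha => by rw [pow_two]; exact h.sqA a ha)
      rw [h.cA] at this; norm_num at this
    · obtain ⟨t, ht, hc⟩ := h1
      obtain ⟨g, hg⟩ := hf t ht
      have h' := h.conj g⁻¹
      have ht1 : t ≠ 1 := by rintro rfl; simp at ht
      haveI := scen_solv h' hodd key (z := t)
        ⟨⟨_, hg.1, by simp [mul_assoc]⟩, ⟨_, hg.2, by simp [mul_assoc]⟩⟩ ht1
      exact absurd hc scen_nocomp
    · exact h1
  have main : ∀ z ∈ A ⊓ B, z ≠ 1 → centralizer {z} ≤ normalizer (S : Set G) ∧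
      centralizer (S : Set G) ≤ S := by
    intro z hz hz1
    have hz2 : orderOf z = 2 := orderOf_eq_prime (by rw [pow_two]; exact h.sqA z hz.1) hz1
    have hT : IsPGroup 2 (zpowers z) := IsPGroup.of_card (n := 1) (by rw [Nat.card_zpowers, hz2]; norm_num)
    have hT1 : zpowers z ≠ ⊥ := by simpa using hz1
    have hc := hch.2 _ hT hT1
    set N := normalizer ((zpowers z : Subgroup G) : Set G) with hN
    have hCN : centralizer {z} ≤ N := by
      intro c hc
      have e := mem_centralizer_singleton_iff.1 hc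
      have hc' : c ∈ centralizer ((zpowers z : Subgroup G) : Set G) := by
        rw [mem_centralizer_iff]
        rintro _ ⟨k, rfl⟩
        exact ((Commute.zpow_right (show Commute c z from e) k)).eq.symm
      exact centralizer_le_normalizer _ hc'
    have hSN : S ≤ N := fun s hs => hCN (mem_centralizer_singleton_iff.2 (h.cenZ hs hz))
    have hzN : z ∈ N := hSN (h.leZ hz)
    have h1 := h.sub N hSN
    have hzc : (⟨z, hzN⟩ : N) ∈ center N := by
      rw [mem_center_iff]
      intro n
      have hm : (n : G) * z * (n : G)⁻¹ ∈ zpowers z :=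
        (mem_normalizer_iff.1 n.2 z).1 (mem_zpowers z)
      have e : (n : G) * z * (n : G)⁻¹ = z := by
        obtain ⟨k, hk⟩ := hm
        have hk' : z ^ k = (n : G) * z * (n : G)⁻¹ := hk
        have hzz : z ^ (2 : ℤ) = 1 := by rw [zpow_two]; exact h.sqA z hz.1
        rcases Int.even_or_odd' k with ⟨j, rfl | rfl⟩
        · rw [zpow_mul, hzz, one_zpow] at hk'
          exfalso; apply hz1
          have : z = (n : G)⁻¹ * ((n : G) * z * (n : G)⁻¹) * n := by group
          rw [this, ← hk']; group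
        · rw [zpow_add, zpow_mul, hzz, one_zpow, one_mul, zpow_one] at hk'
          exact hk'.symm
      ext
      show (n : G) * z = z * n
      calc (n : G) * z = ((n : G) * z * (n : G)⁻¹) * n := by group
        _ = _ := by rw [e]
    have hON : ∀ K : Subgroup N, K.Normal → Odd (Nat.card K) → K = ⊥ := by
      intro K hK ho
      have hp : IsPGroup 2 (Cfsg.pCore 2 N) := H2.pCore_isPGroup
      obtain ⟨m, hm⟩ := IsPGroup.iff_card.1 hp
      have hcop : (Nat.card K).Coprime (Nat.card (Cfsg.pCore 2 N)) := by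
        rw [hm]; exact ((Nat.coprime_two_right).2 ho).pow_right m
      have hd : Disjoint K (Cfsg.pCore 2 N) := disjoint_of_coprime_natCard hcop
      have hle : K ≤ Cfsg.pCore 2 N := by
        intro k hk
        apply hc
        rw [mem_centralizer_iff]
        intro p hp
        exact (commute_of_normal_of_disjoint K _ hK inferInstance hd k p hk hp).eq.symm
      exact hd.eq_bot_of_le hle
    have hn := key N _ _ _ h1 hON ⟨z, hzN⟩ (h.leZ hz)
      (fun e => hz1 (congrArg Subtype.val e)) hzc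
    refine ⟨hCN.trans ((normal_subgroupOf_iff_le_normalizer hSN).1 hn), ?_⟩
    intro c hcS
    have hcN : c ∈ N := hCN (mem_centralizer_singleton_iff.2
      (mem_centralizer_iff.1 hcS z (h.leZ hz)).symm)
    have hp : IsPGroup 2 (Cfsg.pCore 2 N) := H2.pCore_isPGroup
    have hle : Cfsg.pCore 2 N ≤ S.subgroupOf N := hp.le_sylow_of_normal h1.syl
    have : (⟨c, hcN⟩ : N) ∈ Cfsg.pCore 2 N := by
      apply hc
      rw [mem_centralizer_iff]
      intro p hp
      ext
      exact mem_centralizer_iff.1 hcS p (hle hp)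
    exact hle this
  obtain ⟨z, hz, hz1⟩ := h.exZ
  exact ⟨fun z hz hz1 => (main z hz hz1).1, (main z hz hz1).2⟩

end Cfsg.Agent.H26.Lf
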