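import Cfsg.Agent.H19.Refl3

/-! # Lifting classes of 3-transpositions to central extensions -/

set_option autoImplicit false

namespace Cfsg.Agent.H19

open Cfsg.Agent.H14 Cfsg.Agent.H15 Subgroup

variable {G Q : Type*} [Group G] [Group Q]

theorem prod_sq_of_comm {l : List G} {q : G} (c : ∀ a ∈ l, ∀ b ∈ l, Commute a b)
    (s : ∀ a ∈ l, a * a = q) (z : q ∈ center G) : l.prod * l.prod = q ^ l.length := by
  induction l with
  | nil => simp
  | cons a l ih =>
    have k : Commute a l.prod := Commute.list_prod_right _ _ fun b hb => c a (by simp) b (by simp [hb])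
    rw [List.prod_cons, List.length_cons, pow_succ', ← ih (fun a ha b hb => c a (by simp [ha]) b
      (by simp [hb])) (fun a ha => s a (by simp [ha])), ← s a (by simp), mul_assoc, ← mul_assoc l.prod,
      ← k.eq]
    simp only [mul_assoc]

theorem J_prod_of_twist {l : List G} {x z : G} (hz : z ∈ center G) (k : ∀ a ∈ l, J x a = z * a) :
    J x l.prod = z ^ l.length * l.prod := by
  induction l with
  | nil => simp [J_map_one]
  | cons a l ih =>
    rw [List.prod_cons, J_map_mul, k a (by simp), ih fun a ha => k a (by simp [ha]), List.length_cons,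
      pow_succ', mul_assoc, mul_assoc, ← mul_assoc a,
      ((commute_of_mem_center hz a).pow_left _).eq.symm, mul_assoc]

theorem exists_lift_list (σ : G →* Q) {E : Set G} {l : List Q} (k : ∀ a ∈ l, ∃ x ∈ E, σ x = a) :
    ∃ l' : List G, l'.map σ = l ∧ ∀ x ∈ l', x ∈ E := by
  induction l with
  | nil => exact ⟨[], rfl, by simp⟩
  | cons a l ih =>
    obtain ⟨x, hx, rfl⟩ := k a (by simp)
    obtain ⟨l', rfl, h⟩ := ih fun a ha => k a (by simp [ha])
    exact ⟨x :: l', rfl, by simpa [hx] using h⟩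

/-- the hypotheses on the class in the quotient -/
structure LiftOk (D : Set Q) : Prop where
  tg : TG D
  tr : Trans D
  cen : Cen D
  z : center Q = ⊥
  trc : TrC D 2
  six : ∃ l, CL D l ∧ l.length = 6 ∧ l.prod = 1
  odd : ∃ l, CL D l ∧ (l.length = 5 ∨ l.length = 7) ∧ l.prod = 1

namespace LiftOk
variable {D : Set Q} (h : LiftOk D) {σ : G →* Q} (hs : Function.Surjective σ)
  (hk : σ.ker ≤ center G)
include h hs hk

theorem comm {x y : G} (hx : σ x ∈ D) (hy : σ y ∈ D) (c : Commute (σ x) (σ y)) : Commute x y := by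
  have ker : ∀ {x y : G}, Commute (σ x) (σ y) → J x y * y⁻¹ ∈ center G := fun {x y} c =>
    hk (by rw [MonoidHom.mem_ker, map_mul, map_J, J_of_commute c, map_inv, mul_inv_cancel])
  have same : ∀ {x x' : G}, σ x = σ x' → ∃ z ∈ center G, x' = z * x := fun {x x'} e =>
    ⟨x' * x⁻¹, hk (by simp [MonoidHom.mem_ker, e]), by simp⟩
  by_cases e : σ x = σ y
  · obtain ⟨z, hz, rfl⟩ := same e
    exact ((commute_of_mem_center hz x).symm).mul_right (Commute.refl x)
  have all : ∀ u v : G, σ u ∈ D → σ v ∈ D → σ u ≠ σ v → Commute (σ u) (σ v) →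
      J u v = (J x y * y⁻¹) * v := fun u v hu hv n k => by
    obtain ⟨g, -, eg⟩ := h.trc _ _ (cl_two hx hy e c) (cl_two hu hv n k) rfl rfl
    obtain ⟨g, rfl⟩ := hs g
    simp only [List.map_cons, List.map_nil, List.cons.injEq, and_true, ← map_J] at eg
    obtain ⟨z, hz, rfl⟩ := same eg.1
    obtain ⟨w, hw, rfl⟩ := same eg.2
    have := J_of_commute (commute_of_mem_center (ker c) g).symm
    rw [J_mul, J_of_commute (commute_of_mem_center hz _), J_map_mul,
      J_of_commute (commute_of_mem_center hw _).symm, J_J, ← this, ← mul_assoc,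
      (commute_of_mem_center hw (J g _)).eq.symm, mul_assoc, ← J_map_mul]
    simp
  obtain ⟨l, cl, ln, p⟩ := h.six
  obtain ⟨l, rfl, -⟩ := exists_lift_list σ (E := Set.univ) (l := l) fun a _ => by
    obtain ⟨x, rfl⟩ := hs a; exact ⟨x, trivial, rfl⟩
  set z := J x y * y⁻¹ with hz
  have zc : z ∈ center G := ker c
  have z2 : z * z = 1 := by
    have a : J (x * x) y = y := J_of_commute (commute_of_mem_center
      (hk (by rw [MonoidHom.mem_ker, map_mul, h.tg.sq _ hx])) y)
    rw [J_mul, all x y hx hy e c, J_map_mul, all x y hx hy e c,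
      J_of_commute (commute_of_mem_center zc x).symm, ← mul_assoc] at a
    simpa using a
  obtain _ | ⟨a, l⟩ := l
  · simp at ln
  rw [List.map_cons, cl_cons] at cl
  have a1 : J a (a :: l).prod = (a :: l).prod := J_of_commute (commute_of_mem_center
    (hk (by rw [MonoidHom.mem_ker, map_list_prod, p])) a).symm
  rw [List.prod_cons, J_map_mul, J_of_commute (Commute.refl a), J_prod_of_twist zc fun b hb => by
    have := cl.2.mem _ (List.mem_map_of_mem hb)
    exact all a b cl.1 this.1 this.2.1.symm this.2.2, mul_right_inj,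
    show l.length = 2 * 2 + 1 by simpa using ln, pow_succ, pow_mul, pow_two z, z2] at a1
  have : z = 1 := by simpa using a1
  rw [hz, mul_inv_eq_one] at this
  exact J_eq_self.1 this

theorem cent {x g : G} (hx : σ x ∈ D) (c : Commute (σ g) (σ x)) : Commute g x := by
  obtain ⟨a, ha, z⟩ := h.cen _ hx (σ g) (h.tg.top ▸ mem_top _) c
  have z1 : a⁻¹ * σ g = 1 := mem_bot.1 (h.z ▸ h.tg.mem_center (zc_iff.1 z))
  have : closure (Pp D (σ x)) ≤ (centralizer {x}).map σ := (closure_le _).2 fun y hy => by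
    obtain ⟨y, rfl⟩ := hs y
    exact ⟨y, mem_cent1.2 (h.comm hs hk hx hy.1 hy.2).symm, rfl⟩
  obtain ⟨k, hk', rfl⟩ := this ha
  have : k⁻¹ * g ∈ center G := hk (by simpa [MonoidHom.mem_ker] using z1)
  simpa using (mem_cent1.1 hk').mul_left (commute_of_mem_center this x)

theorem cls {x : G} (hx : σ x ∈ D) : Set.BijOn σ (conjugatesOf x) D := by
  refine ⟨?_, ?_, fun y hy => ?_⟩
  · rintro _ hy
    obtain ⟨g, rfl⟩ := isConj_iff.1 hy
    exact map_J σ g x ▸ h.tg.conj _ _ hx
  · intro _ hy _ hz e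
    obtain ⟨g, rfl⟩ := isConj_iff.1 hy
    obtain ⟨k, rfl⟩ := isConj_iff.1 hz
    have : Commute (k⁻¹ * g) x := h.cent hs hk hx (J_eq_self.1 (by
      rw [map_mul, J_mul, ← map_J, show σ (J g x) = σ (J k x) from e, map_J, map_inv, J_inv_J]))
    show J g x = J k x
    rw [show g = k * (k⁻¹ * g) by simp, J_mul, J_of_commute this]
  · obtain ⟨g, rfl⟩ := h.tr _ hx y hy
    obtain ⟨g, rfl⟩ := hs g
    exact ⟨J g x, isConj_iff.2 ⟨g, rfl⟩, map_J σ g x⟩

theorem invol : ∃ x, σ x ∈ D ∧ x * x = 1 := by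
  obtain ⟨l, cl, ln, p⟩ := h.six
  obtain ⟨l', cl', ln', p'⟩ := h.odd
  obtain ⟨a, ha⟩ := List.exists_mem_of_length_pos (l := l) (by omega)
  obtain ⟨x, rfl⟩ := hs a
  have hx := cl.mem _ ha
  have q : x * x ∈ center G := hk (by rw [MonoidHom.mem_ker, map_mul, h.tg.sq _ hx])
  have key : ∀ l, CL D l → l.prod = 1 → ∃ z ∈ σ.ker, z * z = (x * x) ^ l.length := fun l cl p => by
    obtain ⟨l, rfl, m⟩ := exists_lift_list σ (E := conjugatesOf x) (l := l) fun a ha =>
      (h.cls hs hk hx).surjOn (cl.mem a ha)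
    refine ⟨l.prod, by rw [MonoidHom.mem_ker, map_list_prod, p], ?_⟩
    rw [List.length_map]
    refine prod_sq_of_comm (fun a ha b hb => h.comm hs hk (cl.mem _ (List.mem_map_of_mem ha))
      (cl.mem _ (List.mem_map_of_mem hb)) (cl.cm _ (List.mem_map_of_mem ha) _ (List.mem_map_of_mem hb)))
      (fun a ha => ?_) q
    obtain ⟨g, rfl⟩ := isConj_iff.1 (m a ha)
    exact (J_map_mul g x x).symm.trans (J_of_commute (commute_of_mem_center q g).symm)
  obtain ⟨u, hu, eu⟩ := key l cl p
  obtain ⟨v, hv, ev⟩ := key l' cl' p'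
  have fin : ∀ u v : G, u ∈ σ.ker → v ∈ σ.ker → v * v = x * x * (u * u) → ∃ x, σ x ∈ D ∧ x * x = 1 :=
    fun u v hu hv e => ⟨x * (u * v⁻¹), by
      rw [map_mul, map_mul, map_inv, hu, hv]; simpa using hx, by
      have c1 := commute_of_mem_center (hk hu)
      have c2 := commute_of_mem_center (inv_mem (hk hv))
      calc _ = x * x * (u * u) * (v⁻¹ * v⁻¹) := by
            simp only [mul_assoc]
            rw [← mul_assoc v⁻¹, (c2 x).eq, ← mul_assoc u, ← mul_assoc u, (c1 x).eq]
            simp only [mul_assoc]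
            rw [← mul_assoc v⁻¹, (c2 u).eq, mul_assoc]
        _ = 1 := by rw [← e]; group⟩
  rcases ln' with e | e
  · exact fin v u hv hu (by rw [eu, ev, ln, e, ← pow_succ'])
  · exact fin u v hu hv (by rw [eu, ev, ln, e, ← pow_succ'])

theorem t3 {x : G} (hx : σ x ∈ D) (sq : x * x = 1) : T3 (conjugatesOf x) := by
  have b := h.cls hs hk hx
  have cj : ∀ g, ∀ y ∈ conjugatesOf x, J g y ∈ conjugatesOf x := fun g y hy =>
    hy.trans (isConj_iff.2 ⟨g, rfl⟩)
  refine ⟨fun y hy => ?_, fun y hy e => h.tg.ne _ (b.mapsTo hy) (by simp [e]), fun y hy z hz n =>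
    b.injOn (cj _ _ hz) (cj _ _ hy) ?_⟩
  · obtain ⟨g, rfl⟩ := isConj_iff.1 hy
    exact (J_map_mul g x x).symm.trans (by rw [sq, J_map_one])
  · rw [map_J, map_J]
    exact h.tg.br _ (b.mapsTo hy) _ (b.mapsTo hz) fun k =>
      n (h.comm hs hk (b.mapsTo hy) (b.mapsTo hz) k)

theorem lab {x : G} (hx : σ x ∈ D) (sq : x * x = 1) {R : Raw} {c : ℕ → Q} (l : Lab R c)
    (i : Im R c = D) : ∃ c' : ℕ → G, Lab R c' ∧ Im R c' = conjugatesOf x ∧ ∀ y < R.n, σ (c' y) = c y := by
  have b := h.cls hs hk hx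
  have : ∀ y, ∃ u, y < R.n → u ∈ conjugatesOf x ∧ σ u = c y := fun y => by
    by_cases hy : y < R.n
    · obtain ⟨u, hu, e⟩ := b.surjOn (i ▸ mem_Im hy : c y ∈ D)
      exact ⟨u, fun _ => ⟨hu, e⟩⟩
    · exact ⟨1, fun k => absurd k hy⟩
  choose c' hc using this
  have lt := l.good.lt
  refine ⟨c', ⟨l.good, fun y hy => (h.t3 hs hk hx sq).sq _ (hc y hy).1, fun y hy z hz e =>
    l.inj y hy z hz (by rw [← (hc y hy).2, e, (hc z hz).2]), fun y hy a ha =>
    b.injOn (hc _ (lt y hy a ha)).1 ((hc y hy).1.trans (isConj_iff.2 ⟨_, rfl⟩)) ?_⟩, ?_,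
    fun y hy => (hc y hy).2⟩
  · rw [(hc _ (lt y hy a ha)).2, l.act y hy a ha, ← (hc y hy).2, ← (hc _ (l.good.lp_lt ha)).2]
    exact (map_J _ _ _).symm
  · ext u
    refine ⟨fun ⟨y, hy, e⟩ => e ▸ (hc y hy).1, fun hu => ?_⟩
    obtain ⟨y, hy, e⟩ : σ u ∈ Im R c := i ▸ b.mapsTo hu
    exact ⟨y, hy, b.injOn (hc y hy).1 hu ((hc y hy).2.trans e)⟩

theorem top (p : commutator G = ⊤) {x : G} (hx : σ x ∈ D) : closure (conjugatesOf x) = ⊤ := by
  have : (closure (conjugatesOf x)).Normal := normal_closure_of_conj fun g y hy =>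
    hy.trans (isConj_iff.2 ⟨g, rfl⟩)
  have t : ∀ g, ∃ k ∈ closure (conjugatesOf x), k⁻¹ * g ∈ center G := fun g => by
    have : σ g ∈ (closure (conjugatesOf x)).map σ := by
      rw [MonoidHom.map_closure, (h.cls hs hk hx).image_eq, h.tg.top]; trivial
    obtain ⟨k, hk', e⟩ := this
    exact ⟨k, hk', hk (by simp [MonoidHom.mem_ker, e])⟩
  rw [eq_top_iff, ← p, commutator_def, commutator_le]
  intro a _ b _
  obtain ⟨k, hk', z⟩ := t a
  have : a * b * a⁻¹ * b⁻¹ = k * J b k⁻¹ := by
    have := (commute_of_mem_center z b).eq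
    rw [J_def]
    calc _ = k * ((k⁻¹ * a) * b) * a⁻¹ * b⁻¹ := by group
      _ = _ := by rw [this]; group
  rw [commutatorElement_def, this]
  exact mul_mem hk' (J_mem_normal _ (inv_mem hk'))

end LiftOk

/-! ### reduction of words -/

/-- evaluate a list -/
noncomputable def frcL (l : List ℕ) : (List ℕ → Bool) → Bool :=
  List.rec (motive := fun _ => (List ℕ → Bool) → Bool) (fun k => k [])
    (fun a _ ih k => frc a fun a' => ih fun t => k (a' :: t)) l

theorem frcL_eq (l : List ℕ) (k : List ℕ → Bool) : frcL l k = k l := by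
  induction l generalizing k with
  | nil => rfl
  | cons a l ih => exact ih _

/-- delete pairs of letters until the word is empty -/
noncomputable def Raw.redOk (R : Raw) (cert : List (ℕ × ℕ)) : List ℕ → Bool :=
  List.rec (motive := fun _ => List ℕ → Bool) nilL
    (fun s _ ih w => List.casesOn (motive := fun _ => Bool) (w.drop s.1) false fun a t =>
      List.casesOn (motive := fun _ => Bool) (t.drop s.2) false fun b v =>
        Nat.beq (tr R.ap (t.take s.2) (R.lp a)) (R.lp b) && frcL (w.take s.1 ++ (t.take s.2 ++ v)) ih)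
    cert

theorem Lab.red {R : Raw} {c : ℕ → G} (h : Lab R c) {cert : List (ℕ × ℕ)} {w : List ℕ}
    (ok : okW R.L w = true) (k : R.redOk cert w = true) : lprod (fun l => c (R.lp l)) w = 1 := by
  induction cert generalizing w with
  | nil => rw [nilL_true k, lprod_nil]
  | cons s cert ih =>
    have e1 := (List.take_append_drop s.1 w).symm
    replace k : (List.casesOn (motive := fun _ => Bool) (w.drop s.1) false fun a t =>
      List.casesOn (motive := fun _ => Bool) (t.drop s.2) false fun b v =>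
        Nat.beq (tr R.ap (t.take s.2) (R.lp a)) (R.lp b) &&
          frcL (w.take s.1 ++ (t.take s.2 ++ v)) (R.redOk cert)) = true := k
    obtain e | ⟨a, t, e⟩ : w.drop s.1 = [] ∨ ∃ a t, w.drop s.1 = a :: t := by
      cases w.drop s.1 <;> simp
    · simp [e] at k
    have e2 := (List.take_append_drop s.2 t).symm
    obtain e' | ⟨b, v, e'⟩ : t.drop s.2 = [] ∨ ∃ b v, t.drop s.2 = b :: v := by
      cases t.drop s.2 <;> simp
    · simp [e, e'] at k
    simp only [e, e', frcL_eq, Bool.and_eq_true, nbeq_iff] at k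
    rw [e, e2, e'] at e1
    generalize w.take s.1 = u at *
    generalize t.take s.2 = m at *
    subst e1
    simp only [okW_iff] at ih
    simp only [okW_iff, List.mem_append, List.mem_cons] at ok
    have := (h.tr_spec (w := m) (okW_iff.2 fun x hx => ok x (by simp [hx]))
      (h.good.lp_lt (ok a (by simp)))).2
    have z := ih (w := u ++ (m ++ v)) (fun x hx => ok x (by simp at hx; tauto)) k.2
    rw [k.1] at this
    rw [lprod_append, lprod_append] at z
    rw [lprod_append, lprod_cons, lprod_append, lprod_cons, this, ← z]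
    simp [Jw, J, mul_assoc, ← mul_assoc (c (R.lp a)) (c (R.lp a)), h.sq _ (h.good.lp_lt (ok a (by simp)))]

end Cfsg.Agent.H19
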