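import Cfsg.Agent.H19.Out

/-! # From the centraliser of an involution to a class of 3-transpositions -/

set_option autoImplicit false
set_option maxHeartbeats 400000

namespace Cfsg.Agent.H19

open Subgroup

variable {G : Type*} [Group G] {n : ℕ} {D X : Set G}

theorem Lev.ex_comm (h : Lev n D) {x : G} (hx : x ∈ D) : ∃ y, y ∈ Dd D x := by
  obtain ⟨l, a, e⟩ := h.ex (m := 2) (by omega)
  obtain ⟨u, v, rfl⟩ := List.length_eq_two.1 e
  obtain ⟨hu, a⟩ := cl_cons.1 a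
  obtain ⟨g, hg, rfl⟩ := h.con u hu x hx
  exact ⟨_, J_mem_Dd (h.J_mem hg) (a.mem v (by simp))⟩

theorem Lev.pair_sq (l : Lev n D) {x y : G} (hx : x ∈ D) (hy : y ∈ Dd D x) : ∃ g, g * g = x * y := by
  have t := l.t3
  obtain ⟨z, hz, n1, n2⟩ := t.diam2 subset_rfl l.cl hx (l.con x hx y hy.1) hy.2.1.symm hy.2.2
  refine ⟨x * J z (x * y), ?_⟩
  have s : J z (x * y) * J z (x * y) = 1 := by rw [← J_map_mul, t.mul_sq hx hy.1 hy.2.2, J_map_one]
  have : J (J z (x * y)) x = y := by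
    rw [J_map_mul, J_mul, ← t.br x hx z hz n1, ← t.br y hy.1 z hz n2,
      ← t.br x hx _ (l.cl _ hy.1 _ hz) (mt (commute_J_of' hy.2.2.symm).1 n1), J_J,
      t.br y hy.1 z hz n2, t.JJ hz, J_of_commute hy.2.2]
  generalize J z (x * y) = u at *
  rw [← this, J_def u, inv_of_sq s]
  simp only [mul_assoc]

theorem dih_odd {x y : G} (hx : x * x = 1) (hy : y * y = 1) (k : ℕ) :
    J ((x * y) ^ k) x * y = (x * y) ^ (2 * k + 1) ∧ x * J ((x * y) ^ k)⁻¹ y = (x * y) ^ (2 * k + 1) ∧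
      J ((x * y) ^ k) x = (x * y) ^ (2 * k) * x := by
  have a := H20.conj_pow_of_inverts (H20.inverts_mul_left hx hy) k
  have b := H20.conj_pow_of_inverts (H20.inverts_mul_right hx hy) k
  have c : J ((x * y) ^ k) x = (x * y) ^ (2 * k) * x := by
    rw [J, ← a, two_mul, pow_add, inv_of_sq hx]; simp only [mul_assoc, ← mul_assoc x x, hx, one_mul]
  refine ⟨by rw [c, pow_succ, mul_assoc], ?_, c⟩
  rw [J, inv_inv, two_mul, add_assoc, pow_add, pow_succ', ← a, inv_of_sq hx]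
  simp only [mul_assoc, ← mul_assoc x x, hx, one_mul]

theorem pgroup_pair {x y : G} (hx : x * x = 1) (hy : y * y = 1) {j : ℕ} (e : (x * y) ^ 2 ^ j = 1) :
    IsPGroup 2 (closure ({x, y} : Set G)) := fun ⟨g, hg⟩ => by
  obtain ⟨k, rfl | rfl⟩ := (H20.mem_closure_pair_iff hx hy g).1 hg
  · exact ⟨j, Subtype.ext (by
      rw [coe_pow, ← zpow_natCast, ← zpow_mul, mul_comm, zpow_mul, zpow_natCast, e, one_zpow, coe_one])⟩
  · exact ⟨1, Subtype.ext (by
      simpa [pow_two] using H20.mul_zpow_mul_self hx (H20.inverts_mul_left hx hy) k)⟩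

/-- a maximal set of commuting points -/
structure MC (D X : Set G) : Prop where
  sub : X ⊆ D
  cm : ∀ x ∈ X, ∀ y ∈ X, Commute x y
  mx : ∀ y ∈ D, (∀ x ∈ X, Commute y x) → y ∈ X

theorem MC.conj (m : MC D X) (h : ∀ g, ∀ x ∈ D, J g x ∈ D) (g : G) : MC D (J g '' X) :=
  ⟨by rintro _ ⟨x, hx, rfl⟩; exact h g x (m.sub hx),
    by rintro _ ⟨x, hx, rfl⟩ _ ⟨y, hy, rfl⟩; exact commute_J.2 (m.cm x hx y hy),
    fun y hy k => ⟨_, m.mx _ (h g⁻¹ y hy) fun x hx => commute_J_left.2 (by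
      simpa using k _ ⟨x, hx, rfl⟩), J_J_inv g y⟩⟩

theorem MC.comm (m : MC D X) {x g : G} (hx : x ∈ X) (hg : g ∈ closure X) : Commute x g :=
  commute_of_mem_closure (m.cm x hx) hg

theorem ex_mc [Finite G] {Y : Set G} (s : Y ⊆ D) (c : ∀ x ∈ Y, ∀ y ∈ Y, Commute x y) :
    ∃ X, MC D X ∧ Y ⊆ X := by
  obtain ⟨X, l, m⟩ := Finite.exists_le_maximal
    (p := fun X : Set G => X ⊆ D ∧ ∀ x ∈ X, ∀ y ∈ X, Commute x y) ⟨s, c⟩
  refine ⟨X, ⟨m.1.1, m.1.2, fun y hy k => m.2 (y := insert y X) ⟨Set.insert_subset hy m.1.1, ?_⟩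
    (Set.subset_insert _ _) (Set.mem_insert _ _)⟩, l⟩
  rintro a (rfl | ha) b (rfl | hb)
  exacts [Commute.refl _, k b hb, (k a ha).symm, m.1.2 a ha b hb]

theorem ex_mc2 [Finite G] {a b : G} (ha : a ∈ D) (hb : b ∈ D) (c : Commute a b) :
    ∃ X, MC D X ∧ a ∈ X ∧ b ∈ X := by
  obtain ⟨X, m, s⟩ := ex_mc (Y := {a, b}) (D := D) (by simp [Set.insert_subset_iff, *])
    (by simp [c, c.symm])
  exact ⟨X, m, s (by simp), s (by simp)⟩

/-- a class of involutions with the local structure of a Fischer space -/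
structure GS (n : ℕ) (D : Set G) : Prop where
  conj : ∀ g, ∀ x ∈ D, J g x ∈ D
  trans : Trans D
  sq : ∀ d ∈ D, d * d = 1
  lev : ∀ d ∈ D, Lev n (Dd D d)
  top : ∀ d ∈ D, closure (Dd D d) = centralizer {d}
  zc : ∀ d ∈ D, ∀ u ∈ centralizer (Dd D d), u = 1 ∨ u = d
  nsq : ∀ d ∈ D, ∀ g, g * g ≠ d
  odd : ∃ l, CL D l ∧ Odd l.length ∧ l.prod = 1
  three : ∃ X, MC D X ∧ ∃ x ∈ X, ∃ y ∈ X, ∃ z ∈ X, ∃ c ∈ X, CL D [x, y, z] ∧
    ∀ p ∈ X, ∀ q ∈ X, x * (y * z) * c ≠ p * q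

namespace GS
variable (h : GS n D)
include h

theorem cancel {d : G} (hd : d ∈ D) (x : G) : d * (d * x) = x := by rw [← mul_assoc, h.sq d hd, one_mul]

theorem prod_ne {l : List G} (k : CL D l) (h1 : 2 ≤ l.length) (h5 : l.length ≤ 5) : l.prod ≠ 1 := by
  obtain _ | ⟨d, l⟩ := l
  · simp at h1
  obtain ⟨hd, k⟩ := cl_cons.1 k
  intro e
  refine (h.lev d hd).prod_ne k (by simpa using h1) (by simp at h5; omega) ?_
  rw [← h.cancel hd l.prod, ← List.prod_cons, e, mul_one]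
  exact zc_iff.2 fun _ k => k.2.2

theorem prod3 {a b c : G} (k : CL D [a, b, c]) : a * (b * c) ∉ D := fun hx => by
  have cm : ∀ y ∈ [a, b, c], Commute (a * (b * c)) y := fun y hy =>
    (k.cm a (by simp) y hy).mul_left ((k.cm b (by simp) y hy).mul_left (k.cm c (by simp) y hy))
  have nd := k.nd
  simp only [List.nodup_cons, List.mem_cons, List.not_mem_nil, or_false, not_or] at nd
  have hb := k.mem b (by simp)
  have hc := k.mem c (by simp)
  have one : ∀ {u v}, v ∈ D → u * v = 1 → u = v := fun hv e =>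
    (eq_inv_of_mul_eq_one_left e).trans (inv_of_sq (h.sq _ hv))
  refine h.prod_ne (l := [a * (b * c), a, b, c]) (cl_cons.2 ⟨hx, k.nd, fun y hy => ⟨k.mem y hy, ?_,
    cm y hy⟩, k.cm⟩) (by simp) (by simp) (by simpa using h.sq _ hx)
  intro e
  simp only [List.mem_cons, List.not_mem_nil, or_false] at hy
  rcases hy with rfl | rfl | rfl
  · exact nd.2.1 (one hc (by simpa using e.symm))
  · rw [← mul_assoc, (k.cm a (by simp) y (by simp)).eq, mul_assoc] at e
    exact nd.1.2 (one hc (by simpa using e.symm))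
  · rw [← mul_assoc] at e
    exact nd.1.1 (one hb (by simpa using e.symm))

theorem mem_of_norm (m : MC D X) {t : G} (ht : t ∈ D) (k : ∀ x ∈ X, J t x ∈ X) : t ∈ X := by
  by_contra nt
  have a : ∀ p ∈ X, J t p ≠ p := fun p hp e => nt (m.mx t ht fun q hq => by
    by_contra c
    have tp : t ∈ Dd D p := ⟨ht, fun e => nt (e ▸ hp), (J_eq_self.1 e).symm⟩
    have : q ∈ Dd D p := ⟨m.sub hq, fun e => c (e ▸ tp.2.2.symm), m.cm p hp q hq⟩
    exact (h.lev p (m.sub hp)).t3.not_commute_J_right tp this c (m.cm _ hq _ (k q hq)))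
  have JJ : ∀ x, J t (J t x) = x := fun x => by rw [← J_mul, h.sq t ht, J_one]
  obtain ⟨p, hp⟩ : X.Nonempty := Set.nonempty_iff_ne_empty.2 fun e => nt (m.mx t ht (by simp [e]))
  have hp' : J t p ∈ Dd D p := ⟨m.sub (k p hp), a p hp, m.cm _ hp _ (k p hp)⟩
  obtain ⟨q, hq, n1, n2⟩ : ∃ q ∈ X, q ≠ p ∧ q ≠ J t p := by
    obtain ⟨y, hy⟩ := (h.lev p (m.sub hp)).ex_comm hp'
    by_contra! n
    refine hy.2.1 (n y (m.mx y hy.1.1 fun x hx => ?_) hy.1.2.1)
    by_cases e : x = p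
    · exact e ▸ hy.1.2.2.symm
    · exact n x hx e ▸ hy.2.2.symm
  have s : ∀ x ∈ X, x * J t x ∈ closure X ∧ x * J t x ≠ 1 ∧ Commute t (x * J t x) ∧
      J x t = x * J t x * t ∧ x * J t x * (x * J t x) = 1 := fun x hx => by
    have c := m.cm _ hx _ (k x hx)
    have sx := h.sq x (m.sub hx)
    refine ⟨mul_mem (subset_closure hx) (subset_closure (k x hx)), fun e => a x hx
      ((eq_inv_of_mul_eq_one_right e).trans (inv_of_sq sx)),
      J_eq_self.1 (by rw [J_map_mul, JJ, c.eq]), by simp [J, mul_assoc, inv_of_sq sx], ?_⟩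
    rw [mul_assoc, ← mul_assoc (J t x), ← c.eq, mul_assoc, h.sq _ (m.sub (k x hx)), mul_one, sx]
  obtain ⟨u1, u2, u3, u4, u5⟩ := s p hp
  obtain ⟨v1, v2, v3, v4, v5⟩ := s q hq
  have uv : p * J t p ≠ q * J t q := fun e => h.prod3 (cl_three (m.sub (k p hp)) (m.sub hq)
    (m.sub (k q hq)) n2.symm (fun e => n1 (J_injective t e).symm) (a q hq).symm
    (m.cm _ (k p hp) _ hq) (m.cm _ (k p hp) _ (k q hq)) (m.cm _ hq _ (k q hq)))
    (by rw [← e, hp'.2.2.eq, h.cancel hp'.1]; exact m.sub hp)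
  have w4 : J (p * q) t = q * J t q * (p * J t p * t) := by
    rw [J_mul, v4, J_map_mul, J_of_commute (m.comm hp v1), u4]
  have c : Commute (p * J t p) (q * J t q) := (m.comm hp v1).mul_left (m.comm (k p hp) v1)
  have m1 := h.conj p t ht
  have m2 := h.conj q t ht
  have m3 := h.conj (p * q) t ht
  rw [u4] at m1
  rw [v4] at m2
  rw [w4] at m3
  generalize p * J t p = u at *
  generalize q * J t q = v at *
  refine h.prod3 (cl_three ht m1 m2 (by simpa using u2) (by simpa using v2) (by simpa using uv)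
    (u3.mul_right (Commute.refl t)) (v3.mul_right (Commute.refl t))
    ((c.mul_right u3.symm).mul_left (v3.mul_right (Commute.refl t)))) ?_
  rwa [← mul_assoc, ← mul_assoc, ← mul_assoc, u3.eq, mul_assoc u, h.sq t ht, mul_one, c.eq, mul_assoc]

variable [Finite G]

theorem mem_of_pgroup (m : MC D X) {T : Subgroup G} (hT : IsPGroup 2 T) (s : X ⊆ T) {t : G} (ht : t ∈ D)
    (tT : t ∈ T) : t ∈ X := by
  have := hT.isNilpotent
  by_cases e : (nrm X).subgroupOf T = ⊤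
  · exact h.mem_of_norm m ht ((e ▸ mem_top (⟨t, tT⟩ : T) : (⟨t, tT⟩ : T) ∈ (nrm X).subgroupOf T))
  obtain ⟨g, hg, n⟩ := SetLike.exists_of_lt (Group.normalizerCondition_of_isNilpotent _ (lt_top_iff_ne_top.2 e))
  refine absurd (fun x hx => h.mem_of_norm m (h.conj _ _ (m.sub hx)) ?_) n
  exact (mem_normalizer_iff.1 hg ⟨x, s hx⟩).1 fun y hy => (J_of_commute (m.cm x hx y hy)).symm ▸ hy

theorem inK (m : MC D X) {K T : Subgroup G} (s : X ⊆ K) (hT : IsPGroup 2 T) (TK : T ≤ K) :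
    ∃ g ∈ K, ∃ T' : Subgroup G, T ≤ T' ∧ ∀ y, y ∈ J g '' X ↔ y ∈ D ∧ y ∈ T' := by
  have hQ := isPGroup_closure_of_commute (fun a ha => h.sq a (m.sub ha)) m.cm
  obtain ⟨S0, h0⟩ := (hQ.comap_subtype (K := K)).exists_le_sylow
  obtain ⟨S, h1⟩ := (hT.comap_subtype (K := K)).exists_le_sylow
  obtain ⟨g, rfl⟩ := MulAction.exists_smul_eq K S0 S
  have m' := m.conj h.conj g
  have : J (g : G) '' X ⊆ (g • S0).1.map K.subtype := by
    rintro _ ⟨x, hx, rfl⟩
    exact ⟨_, smul_mem_pointwise_smul (⟨x, s hx⟩ : K) (MulAut.conj g) _ (h0 (subset_closure hx)), rfl⟩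
  exact ⟨g, g.2, (g • S0).1.map K.subtype, fun x hx => ⟨⟨x, TK hx⟩, h1 hx, rfl⟩, fun y =>
    ⟨fun k => ⟨m'.sub k, this k⟩, fun k => h.mem_of_pgroup m' ((g • S0).2.map _) this k.1 k.2⟩⟩

theorem comm_of_pow {a b : G} (ha : a ∈ D) (hb : b ∈ D) {j : ℕ} (e : (a * b) ^ 2 ^ j = 1) :
    Commute a b := by
  obtain ⟨X, m, -⟩ := ex_mc2 ha ha (Commute.refl a)
  obtain ⟨g, -, T, l, k⟩ := h.inK m (K := ⊤) (by simp) (pgroup_pair (h.sq a ha) (h.sq b hb) e) le_top
  exact (m.conj h.conj g).cm _ ((k a).2 ⟨ha, l (subset_closure (by simp))⟩) _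
    ((k b).2 ⟨hb, l (subset_closure (by simp))⟩)

theorem odd_in (m : MC D X) : ∃ l : List G, (∀ x ∈ l, x ∈ X) ∧ Odd l.length ∧ l.prod = 1 := by
  obtain ⟨l, k, o, e⟩ := h.odd
  obtain ⟨Y, m', s⟩ := ex_mc (Y := {x | x ∈ l}) k.mem k.cm
  obtain ⟨g, -, T, le, i⟩ := h.inK m' (K := ⊤) (by simp)
    (isPGroup_closure_of_commute (fun a ha => h.sq a (m.sub ha)) m.cm) le_top
  refine ⟨l.map (J g), by
    simpa using fun x hx => m.mx _ (h.conj g x (k.mem x hx)) fun y hy => (m'.conj h.conj g).cm _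
      ⟨x, s hx, rfl⟩ _ ((i y).2 ⟨m.sub hy, le (subset_closure hy)⟩), by simpa, ?_⟩
  rw [← J_prod, e, J_map_one]

theorem dih {x y : G} (hx : x ∈ D) (hy : y ∈ D) : ∃ v ∈ zpowers (x * y), Commute (J v x) y ∧
    Commute x (J v x * y) := by
  obtain ⟨j, m, ⟨k, rfl⟩, e⟩ := Nat.exists_eq_two_pow_mul_odd (orderOf_pos (x * y)).ne'
  obtain ⟨a, b, -⟩ := dih_odd (h.sq x hx) (h.sq y hy) k
  have p : ((x * y) ^ (2 * k + 1)) ^ 2 ^ j = 1 := by rw [← pow_mul, mul_comm, ← e, pow_orderOf_eq_one]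
  exact ⟨_, npow_mem_zpowers _ k, h.comm_of_pow (h.conj _ _ hx) hy (a ▸ p), a.symm ▸ b ▸
    (Commute.refl x).mul_right (h.comm_of_pow hx (h.conj _ _ hy) (b ▸ p))⟩

theorem uniq {a b x : G} (ha : a ∈ D) (hb : b ∈ Dd D a) (hx : x ∈ D) (c : Commute x (a * b))
    (k : x * (a * b) ∈ D) : x = a ∨ x = b := by
  have fin : ∀ {x}, x ∈ D → Commute x a → Commute x b → x * (a * b) ∈ D → x = a ∨ x = b :=
    fun hx c1 c2 k => by
      by_contra! n
      exact h.prod3 (cl_three hx ha hb.1 n.1 n.2 hb.2.1.symm c1 c2 hb.2.2) k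
  obtain ⟨X, m, aX, bX⟩ := ex_mc2 ha hb.1 hb.2.2
  have all : ∀ y ∈ X, Commute x (a * y) := fun y hy => by
    by_cases e : y = a ∨ y = b
    · rcases e with rfl | rfl
      exacts [h.sq y ha ▸ Commute.one_right x, c]
    have hy' := m.sub hy
    have ya := m.cm y hy a aX
    have yb := m.cm y hy b bX
    obtain ⟨v, hv, c1, c2⟩ := h.dih hx hy'
    have cv : Commute v (a * b) := by
      obtain ⟨i, rfl⟩ := hv
      exact (c.mul_left (ya.mul_right yb)).zpow_left i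
    have k1 : J v x * (a * b) ∈ D := by
      rw [← J_of_commute cv, ← J_map_mul]; exact h.conj _ _ k
    simp only [not_or] at e
    have := (h.lev y hy').t3.commute_mul (a := a) (b := b) (e := J v x) ⟨ha, Ne.symm e.1, ya⟩
      ⟨hb.1, Ne.symm e.2, yb⟩ ⟨h.conj _ _ hx, fun q => (fin hy' ya yb (q ▸ k1)).elim e.1 e.2, c1.symm⟩
      hb.2.1.symm ((commute_J_of cv).2 c)
    rcases fin (h.conj _ _ hx) this.1 this.2 k1 with q | q <;> rw [q] at c2
    · exact c2
    · simpa [mul_assoc, h.cancel hb.1] using c.mul_right c2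
  obtain ⟨l, s, ⟨j, o⟩, e⟩ := h.odd_in m
  have : Commute x (a ^ l.length * l.prod) := by
    clear o e
    induction l with
    | nil => simp
    | cons y l ih =>
      rw [List.length_cons, List.prod_cons, pow_succ', mul_assoc, ← mul_assoc _ y,
        ((m.cm y (s y (by simp)) a aX).pow_right _).eq.symm, mul_assoc, ← mul_assoc]
      exact (all y (s y (by simp))).mul_right (ih fun z hz => s z (by simp [hz]))
  rw [e, o, pow_succ, pow_mul, pow_two, h.sq a ha, one_pow, one_mul, mul_one] at this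
  exact fin hx this (by simpa [h.cancel ha] using this.mul_right c) k

theorem swap {a b g : G} (ha : a ∈ D) (hb : b ∈ Dd D a) (c : Commute g (a * b)) :
    J g a = a ∧ J g b = b ∨ J g a = b ∧ J g b = a := by
  have e : J g a * J g b = a * b := by rw [← J_map_mul, J_of_commute c]
  rcases h.uniq ha hb (h.conj g a ha) ((commute_J_of c).2 ((Commute.refl a).mul_right hb.2.2))
    (by rw [← e, h.cancel (h.conj g a ha)]; exact h.conj g b hb.1) with q | q <;> rw [q] at e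
  exacts [.inl ⟨q, mul_left_cancel e⟩, .inr ⟨q, mul_left_cancel (e.trans hb.2.2.eq)⟩]

theorem cm2 {a b x : G} (ha : a ∈ D) (hb : b ∈ Dd D a) (hx : x ∈ D) (c : Commute x (a * b)) :
    Commute x a ∧ Commute x b := by
  rcases h.swap ha hb c with q | q
  · exact ⟨J_eq_self.1 q.1, J_eq_self.1 q.2⟩
  have : (x * a) ^ 2 = b * a := by simp [← q.1, J, pow_two, mul_assoc, inv_of_sq (h.sq x hx)]
  have := h.comm_of_pow hx ha (j := 2) (by
    rw [show 2 ^ 2 = 2 * 2 from rfl, pow_mul, this, ← hb.2.2.eq, hb.2.2.mul_pow, pow_two, pow_two,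
      h.sq a ha, h.sq b hb.1, mul_one])
  exact absurd (q.1.symm.trans (J_of_commute this)) hb.2.1

theorem odd_conj {x y : G} (hx : x ∈ D) (hy : y ∈ D) (c : ¬ Commute x y) :
    ∃ v ∈ zpowers (x * y), J v x = y := by
  obtain ⟨v, hv, c1, c2⟩ := h.dih hx hy
  refine ⟨v, hv, by_contra fun e => c (h.cm2 (h.conj v x hx) ⟨hy, Ne.symm e, c1⟩ hx c2).2⟩

theorem ex_sq {e : G} (he : e ∈ D) : ∃ f ∈ Dd D e, ∃ g, g * g = e * f := by
  have l := h.lev e he
  obtain ⟨_, a, q⟩ := l.ex (m := 2) (by omega)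
  obtain ⟨x, y, rfl⟩ := List.length_eq_two.1 q
  obtain ⟨hx, a⟩ := cl_cons.1 a
  have hy := a.mem y (by simp)
  obtain ⟨u, hu⟩ := l.pair_sq hx hy
  obtain ⟨g, rfl⟩ := h.trans x hx.1 e he
  exact ⟨_, J_mem_Dd (h.conj g) ⟨hy.1.1, hy.2⟩, J g u, by rw [← J_map_mul, hu, J_map_mul]⟩

theorem three_at {x y z : G} (k : CL D [x, y, z]) : ∃ X, MC D X ∧ x ∈ X ∧ y ∈ X ∧ z ∈ X ∧ ∃ c ∈ X,
    ∀ p ∈ X, ∀ q ∈ X, x * (y * z) * c ≠ p * q := by
  obtain ⟨X, m, a, ha, b, hb, c, hc, e, he, k', q⟩ := h.three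
  obtain ⟨hx, k⟩ := cl_cons.1 k
  obtain ⟨g, rfl⟩ := h.trans a (m.sub ha) x hx
  obtain ⟨g', hg, e'⟩ := (h.lev _ hx).trc (m := 2) (by omega) _ _
    (cl_cons.1 (k'.conj (h.conj g))).2 k rfl rfl
  rw [h.top _ hx, mem_cent1] at hg
  simp only [List.map_cons, List.map_nil, List.cons.injEq, and_true, ← J_mul] at e'
  rw [← J_of_commute hg, ← J_mul, ← e'.1, ← e'.2]
  refine ⟨_, m.conj h.conj (g' * g), ⟨a, ha, rfl⟩, ⟨b, hb, rfl⟩, ⟨c, hc, rfl⟩, _, ⟨e, he, rfl⟩, ?_⟩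
  rintro _ ⟨p, hp, rfl⟩ _ ⟨r, hr, rfl⟩
  simpa only [← J_map_mul, ne_eq, J_inj] using q p hp r hr

theorem common {a e : G} (ha : a ∈ D) (he : e ∈ D) (n : ¬ Commute a e) :
    ∃ c ∈ D, Commute a c ∧ Commute e c := by
  obtain ⟨f, hf, g, hg⟩ := h.ex_sq he
  have sa := h.sq a ha
  have su : e * f * (e * f) = 1 := by
    rw [mul_assoc, ← mul_assoc f, ← hf.2.2.eq, mul_assoc, h.sq f hf.1, mul_one, h.sq e he]
  rcases Nat.even_or_odd (orderOf (a * (e * f))) with o | o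
  swap
  · obtain ⟨k, q⟩ := H20.exists_zpow_conj_of_odd sa su o
    exact absurd (hg.trans q.symm) (h.nsq _ (h.conj _ a ha) g)
  obtain ⟨o, za, zu⟩ := H20.half_pow_spec sa su o
  obtain ⟨k, q | q⟩ := Nat.even_or_odd' (orderOf (a * (e * f)) / 2) <;> rw [q] at o za zu <;>
    obtain ⟨d1, d2, d3⟩ := dih_odd sa su k
  · have ha' := h.conj ((a * (e * f)) ^ k) a ha
    rw [d3] at ha'
    generalize (a * (e * f)) ^ (2 * k) = z at *
    have sz := H20.mul_self_of_orderOf_two o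
    have hb : z * a ∈ Dd D a := ⟨ha', by simpa using H20.ne_one_of_orderOf_two o,
      za.symm.mul_right (Commute.refl a)⟩
    have ez : a * (z * a) = z := by rw [za.eq, h.cancel ha]
    obtain ⟨X, m, eX, fX⟩ := ex_mc2 he hf.1 hf.2.2
    obtain ⟨v, hv, T, le, i⟩ := h.inK m (K := centralizer {e * f})
      (fun x hx => mem_cent1.2 ((m.cm x hx e eX).mul_right (m.cm x hx f fX)))
      (pgroup_pair sz sz (j := 0) (by simp [sz])) ((closure_le _).2 (by simpa [mem_cent1] using zu))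
    have m' := m.conj h.conj v
    have eX' : e ∈ J v '' X := (h.swap he hf (mem_cent1.1 hv)).elim (fun q => ⟨e, eX, q.1⟩)
      fun q => ⟨f, fX, q.2⟩
    generalize J v '' X = Y at *
    have zY : ∀ y ∈ Y, J z y ∈ Y := fun y hy => (i _).2 ⟨h.conj _ _ (m'.sub hy),
      J_mem (le (subset_closure (by simp))) ((i y).1 hy).2⟩
    by_contra! nc
    have nc : ∀ y ∈ Y, ¬ Commute a y := fun y hy c => nc y (m'.sub hy) c (m'.cm e eX' y hy)
    have sw : ∀ y ∈ Y, J (y * J z y) a = z * a ∧ J (y * J z y) (z * a) = a := fun y hy => by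
      have c := m'.cm _ hy _ (zY y hy)
      refine (h.swap ha hb (ez.symm ▸ (J_eq_self.1 (by
        rw [J_map_mul, ← J_mul, sz, J_one, c.eq])).symm)).resolve_left fun q => nc y hy ?_
      exact (h.cm2 (m'.sub hy) ⟨m'.sub (zY y hy), fun q => nc y hy
        (h.cm2 ha hb (m'.sub hy) (ez.symm ▸ (J_eq_self.1 q).symm)).1.symm, c⟩ ha (J_eq_self.1 q.1).symm).1
    obtain ⟨l, s, o', p⟩ := h.odd_in m'
    have : ∀ l : List G, (∀ x ∈ l, x ∈ Y) → J (l.prod * J z l.prod) a = if Odd l.length then z * a else a := by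
      intro l s
      induction l with
      | nil => simp [J_map_one]
      | cons y l ih =>
        have hy := s y (by simp)
        rw [List.prod_cons, J_map_mul, mul_assoc, ← mul_assoc l.prod, ← (m'.comm (zY y hy)
          (list_prod_mem fun x hx => subset_closure (s x (by simp [hx])))).eq, mul_assoc, ← mul_assoc,
          J_mul, ih fun x hx => s x (by simp [hx]), List.length_cons]
        by_cases q : Odd l.length <;> simp [q, sw y hy, Nat.odd_add_one]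
    have := this l s
    rw [p, if_pos o', J_map_one, one_mul, J_one] at this
    exact hb.2.1 this.symm
  have hx := h.conj ((a * (e * f)) ^ k) a ha
  have hp := h.conj ((a * (e * f)) ^ k)⁻¹ e he
  have hq := J_mem_Dd (h.conj ((a * (e * f)) ^ k)⁻¹) hf
  rw [J_map_mul] at d2
  generalize J ((a * (e * f)) ^ k) a = x at *
  generalize J ((a * (e * f)) ^ k)⁻¹ e = p at *
  generalize J ((a * (e * f)) ^ k)⁻¹ f = r at *
  generalize (a * (e * f)) ^ (2 * k + 1) = z at *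
  subst d1
  obtain ⟨c1, c2⟩ := h.cm2 he hf hx (by simpa [mul_assoc, su] using zu.mul_left (Commute.refl (e * f)))
  by_cases e1 : x = e
  · exact ⟨f, hf.1, by simpa [e1, h.cancel he] using za.symm, hf.2.2⟩
  by_cases e2 : x = f
  · exact absurd (by simpa [e2, hf.2.2.eq, h.cancel hf.1] using za.symm) n
  obtain ⟨X, m, xX, eX, fX, c, hc, k⟩ := h.three_at (cl_three hx he hf.1 e1 e2 hf.2.1.symm c1 c2 hf.2.2)
  refine ⟨c, m.sub hc, by_contra fun nc => ?_, m.cm e eX c hc⟩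
  obtain ⟨v, ⟨i, rfl⟩, hv⟩ := h.odd_conj ha (m.sub hc) nc
  have mz : x * (e * f) ∈ closure X :=
    mul_mem (subset_closure xX) (mul_mem (subset_closure eX) (subset_closure fX))
  have cz := m.comm hc mz
  have : x * (e * f) * c = J ((a * c) ^ i) p * J ((a * c) ^ i) r := by
    rw [← J_map_mul, ← h.cancel ha (p * r), d2, J_map_mul, hv,
      J_of_commute ((za.symm.mul_left cz).zpow_left i), cz.eq]
  have hq' := J_mem_Dd (h.conj ((a * c) ^ i)) hq
  have b := fun y (hy : y ∈ X) => h.cm2 (h.conj _ _ hp) hq' (m.sub hy)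
    (this ▸ m.comm hy (mul_mem mz (subset_closure hc)))
  exact k _ (m.mx _ (h.conj _ _ hp) fun y hy => (b y hy).1.symm) _
    (m.mx _ hq'.1 fun y hy => (b y hy).2.symm) this

theorem common' {a e : G} (ha : a ∈ D) (he : e ∈ D) (n : ¬ Commute a e) :
    ∃ c ∈ D, a ∈ Dd D c ∧ e ∈ Dd D c := by
  obtain ⟨c, hc, c1, c2⟩ := h.common ha he n
  exact ⟨c, hc, ⟨ha, fun q => n (q ▸ c2.symm), c1.symm⟩, he, fun q => n (q ▸ c1), c2.symm⟩

theorem t3 : T3 D := ⟨h.sq, fun d hd e => h.nsq d hd 1 (by simp [e]), fun d hd e he n => by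
  obtain ⟨c, hc, c1, c2⟩ := h.common' hd he n
  exact (h.lev c hc).t3.br d c1 e c2 n⟩

theorem exA {d : G} (hd : d ∈ D) : ∃ y ∈ D, ¬ Commute d y := by
  obtain ⟨x, hx, y, hy, n⟩ := (h.lev d hd).exn
  obtain ⟨g, rfl⟩ := h.trans x hx.1 d hd
  exact ⟨_, h.conj g y hy.1, mt commute_J.1 n⟩

theorem pg (g : ∀ d ∈ D, Good2 (Dd D d)) : PG D ∧ center G = ⊥ := by
  obtain ⟨X, m, d, hd, -⟩ := h.three
  have hd := m.sub hd
  obtain ⟨y, hy, n⟩ := h.exA hd
  obtain ⟨e, he⟩ : ∃ e ∈ Dd D d, ¬ Commute y e := by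
    by_contra! k
    rcases h.zc d hd y (zc_iff.2 k) with rfl | rfl
    exacts [n (Commute.one_right _), n (Commute.refl _)]
  have cn : ∀ x ∈ D, Cn D d x := fun x hx => by
    by_cases c : Commute d x
    · by_cases q : x = d
      · exact q ▸ Cn.refl _ _
      · exact ((h.t3.cn_of_not_commute subset_rfl hd hy n).trans
          (h.t3.cn_of_not_commute subset_rfl hy he.1.1 he.2)).trans
          (((h.lev d hd).con e he.1 x ⟨hx, q, c⟩).mono fun _ k => k.1)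
    · exact h.t3.cn_of_not_commute subset_rfl hd hx c
  have tg : TG D := ⟨h.t3, h.conj, eq_top_iff.2 fun g _ => by
    obtain ⟨k, hk, q⟩ := cn _ (h.conj g d hd)
    have : k⁻¹ * g ∈ closure D := closure_mono (fun _ k => k.1) ((h.top d hd).ge
      (mem_cent1.2 (J_eq_self.1 (by rw [J_mul, ← q, J_inv_J]))))
    simpa using mul_mem hk this⟩
  obtain ⟨o2, o3⟩ := tg.cores_of_perp h.trans (X := {d}) (by simpa) (perp_one D d ▸ g d hd)
  refine ⟨⟨tg, tg.prim_of_conn h.trans ⟨e, he.1.1, d, hd, he.1.2.1⟩ o2 o3 fun B s ⟨b, hb⟩ k y hy => ?_,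
    e, he.1.1, d, hd, he.1.2.1, he.1.2.2.symm⟩, eq_bot_iff.2 fun z hz => ?_⟩
  · by_cases c : Commute b y
    · exact k b hb y hy c
    · obtain ⟨c, hc, c1, c2⟩ := h.common (s hb) hy c
      exact k c (k b hb c hc c1) y hy c2.symm
  · rcases h.zc d hd z (zc_iff.2 fun x _ => commute_of_mem_center hz x) with rfl | rfl
    exacts [one_mem _, absurd (commute_of_mem_center hz y) n]

end GS

end Cfsg.Agent.H19
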