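import Cfsg.Agent.H19.MT1
import Cfsg.Prelude.Def_Transfer

/-! # The large elementary abelian subgroup spanned by a maximal commuting set -/

set_option autoImplicit false
set_option maxHeartbeats 400000

namespace Cfsg.Agent.H19

open Subgroup

variable {G : Type*} [Group G] {n r : ℕ} {D E : Set G} {d : G} {l : List G}

/-- all elements have order at most two -/
def El (B : Subgroup G) : Prop := ∀ b ∈ B, b * b = 1

theorem El.cm {B : Subgroup G} (h : El B) {a b : G} (ha : a ∈ B) (hb : b ∈ B) : Commute a b :=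
  (commute_iff_sq (h a ha) (h b hb)).2 ((pow_two _).trans (h _ (mul_mem ha hb)))

theorem El.pg {B : Subgroup G} (h : El B) : IsPGroup 2 B := fun a =>
  ⟨1, Subtype.ext (by simpa [pow_two] using h a a.2)⟩

theorem el_iff {B : Subgroup G} : IsElementaryAbelian 2 B ↔ El B :=
  ⟨fun h b hb => by simpa [pow_two] using h.2 b hb, fun h =>
    ⟨⟨⟨fun a b => Subtype.ext (h.cm a.2 b.2).eq⟩⟩, fun a ha => by simpa [pow_two] using h a ha⟩⟩

theorem El.map {H : Type*} [Group H] {B : Subgroup G} (h : El B) (f : G →* H) : El (B.map f) := by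
  rintro _ ⟨b, hb, rfl⟩
  rw [← map_mul, h b hb, map_one]

theorem el_closure {S : Set G} (h1 : ∀ s ∈ S, s * s = 1) (h2 : ∀ a ∈ S, ∀ b ∈ S, Commute a b) :
    El (closure S) := fun b hb => by
  induction hb using closure_induction with
  | mem x hx => exact h1 x hx
  | one => simp
  | mul x y hx hy a b =>
    have : Commute x y := commute_of_mem_closure
      (fun s hs => (commute_of_mem_closure (h2 s hs) hx).symm) hy
    rw [mul_assoc, ← mul_assoc y, ← this.eq, mul_assoc, b, mul_one, a]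
  | inv x _ a => rwa [inv_of_sq a]

theorem thompson_map {P : Type*} [Group P] [Finite P] {f : P →* G} (inj : Function.Injective f)
    {B : Subgroup G} (le : B ≤ f.range) (el : El B)
    (u : ∀ B' ≤ f.range, El B' → Nat.card B ≤ Nat.card B' → B' = B) :
    (thompsonSubgroup 2 P).map f = B := by
  have e : (B.comap f).map f = B := map_comap_eq_self le
  have k : ∀ A : Subgroup P, IsElementaryAbelian 2 A → Nat.card (B.comap f) ≤ Nat.card A →
      A = B.comap f := fun A a c => map_injective inj ((u _ (map_le_range f A) ((el_iff.1 a).map f)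
        (by rwa [← e, card_map_of_injective inj, card_map_of_injective inj])).trans e.symm)
  have el' : IsElementaryAbelian 2 (B.comap f) := el_iff.2 fun b hb => inj (by simpa using el _ hb)
  have : maxElementaryAbelianSubgroups 2 P = {B.comap f} := Set.eq_singleton_iff_unique_mem.2
    ⟨⟨el', fun A a => (le_total _ _).elim id fun c => (k A a c ▸ le_rfl)⟩, fun A a => k A a.1 (a.2 _ el')⟩
  rw [thompsonSubgroup, this, sSup_singleton, e]

/-- the elements conjugated into `A` -/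
def cm (g : G) (A : Subgroup G) : Subgroup G := A.comap (MulAut.conj g : G →* G)

theorem mem_cm {g x : G} {A : Subgroup G} : x ∈ cm g A ↔ J g x ∈ A := Iff.rfl

theorem card_cm (g : G) (A : Subgroup G) : Nat.card (cm g A) = Nat.card A := by
  rw [cm, comap_equiv_eq_map_symm, card_map_of_injective (MulAut.conj g).symm.injective]

theorem El.cm' {A : Subgroup G} (h : El A) (g : G) : El (H19.cm g A) := fun b hb =>
  J_injective g (by rw [J_map_mul, h _ (mem_cm.1 hb), J_map_one])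

/-- the group spanned by `d` and `l` -/
abbrev AA (d : G) (l : List G) : Subgroup G := closure {x | x ∈ d :: l}

theorem Mx.absorb (m : Mx E l) (t : T3 E) {T : Subgroup G} (hT : IsPGroup 2 T) {g x : G}
    (n : ∀ e ∈ E, J g e ∈ E ∧ J g⁻¹ e ∈ E) (k : ∀ a ∈ l, J g⁻¹ a ∈ T) (hx : x ∈ E) (xT : x ∈ T) :
    J g x ∈ l := m.2 _ (n x hx).1 fun a ha => commute_J_left.2
      (t.commute_of_pgroup2 hT hx (n a (m.1.mem a ha)).2 xT (k a ha))

theorem Mx.conj (m : Mx E l) {g : G} (n : ∀ e ∈ E, J g e ∈ E ∧ J g⁻¹ e ∈ E) : Mx E (l.map (J g)) :=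
  ⟨m.1.conj fun e he => (n e he).1, fun y hy k => List.mem_map.2 ⟨_, m.2 _ (n y hy).2 fun a ha =>
    commute_J_left.2 (by simpa using k _ (List.mem_map_of_mem ha)), J_J_inv g y⟩⟩

/-- every elementary abelian subgroup of `K` of order `2 ^ r` is conjugate to `⟨d, l⟩` -/
structure JS (K : Subgroup G) (E : Set G) (d : G) (l : List G) (r : ℕ) : Prop where
  t3 : T3 E
  sub : E ⊆ K
  nrm : ∀ k ∈ K, ∀ e ∈ E, J k e ∈ E
  dK : d ∈ K
  cen : ∀ k ∈ K, Commute k d
  sq : d * d = 1
  mx : Mx E l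
  card : Nat.card (AA d l) = 2 ^ r
  ja : ∀ B ≤ K, El B → 2 ^ r ≤ Nat.card B → ∃ g ∈ K, B ≤ cm g (AA d l)

namespace JS
variable {K : Subgroup G} (h : JS K E d l r)
include h

theorem le : AA d l ≤ K := (closure_le _).2 fun _ hx =>
  (List.mem_cons.1 hx).elim (fun e => e ▸ h.dK) fun k => h.sub (h.mx.1.mem _ k)

theorem cmA {x : G} (hx : x ∈ d :: l) : ∀ y ∈ d :: l, Commute x y := fun y hy => by
  rcases List.mem_cons.1 hy with rfl | hy'
  · exact h.cen x (h.le (subset_closure hx))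
  rcases List.mem_cons.1 hx with rfl | hx
  exacts [(h.cen y (h.sub (h.mx.1.mem y hy'))).symm, h.mx.1.cm x hx y hy']

theorem el : El (AA d l) := el_closure
  (fun _ hx => (List.mem_cons.1 hx).elim (fun e => e ▸ h.sq) fun k => h.t3.sq _ (h.mx.1.mem _ k))
  fun _ hx => h.cmA hx

theorem mem_l {x : G} (hx : x ∈ E) (xA : x ∈ AA d l) : x ∈ l :=
  h.mx.2 x hx fun _ ha => h.el.cm xA (subset_closure (List.mem_cons_of_mem _ ha))

theorem cm_le {g : G} (hg : g ∈ K) : cm g (AA d l) ≤ K := fun x hx => by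
  simpa only [J_inv_J] using J_mem (inv_mem hg) (h.le (mem_cm.1 hx))

variable [Finite G]

theorem ja' {B : Subgroup G} (le : B ≤ K) (el : El B) (c : 2 ^ r ≤ Nat.card B) :
    ∃ g ∈ K, B = cm g (AA d l) := by
  obtain ⟨g, hg, k⟩ := h.ja B le el c
  exact ⟨g, hg, eq_of_le_of_card_ge k (by rwa [card_cm, h.card])⟩

omit [Finite G] in
theorem uniq {T : Subgroup G} (hT : IsPGroup 2 T) {g g' : G} (hg : g ∈ K) (hg' : g' ∈ K)
    (a : cm g (AA d l) ≤ T) (a' : cm g' (AA d l) ≤ T) : cm g (AA d l) ≤ cm g' (AA d l) := by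
  have m : ∀ g, ∀ a ∈ l, J g⁻¹ a ∈ cm g (AA d l) := fun g a ha =>
    mem_cm.2 (by rw [J_J_inv]; exact subset_closure (List.mem_cons_of_mem _ ha))
  have : AA d l ≤ cm g⁻¹ (cm g' (AA d l)) := (closure_le _).2 fun x hx => by
    rcases List.mem_cons.1 hx with rfl | hx
    · exact mem_cm.2 (mem_cm.2 (by
        rw [J_of_commute (h.cen _ (inv_mem hg)), J_of_commute (h.cen _ hg')]
        exact subset_closure List.mem_cons_self))
    · exact subset_closure (List.mem_cons_of_mem _ (h.mx.absorb h.t3 hT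
        (fun e he => ⟨h.nrm _ hg' e he, h.nrm _ (inv_mem hg') e he⟩) (fun b hb => a' (m _ b hb))
        (h.nrm _ (inv_mem hg) x (h.mx.1.mem x hx)) (a (m _ x hx))))
  intro x hx
  simpa only [mem_cm, J_inv_J] using this (mem_cm.1 hx)

theorem uniq' {T : Subgroup G} (hT : IsPGroup 2 T) (TK : T ≤ K) {g : G} (hg : g ∈ K)
    (a : cm g (AA d l) ≤ T) {B : Subgroup G} (le : B ≤ T) (el : El B) (c : 2 ^ r ≤ Nat.card B) :
    B = cm g (AA d l) := by
  obtain ⟨g', hg', rfl⟩ := h.ja' (le.trans TK) el c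
  exact le_antisymm (h.uniq hT hg' hg le a) (h.uniq hT hg hg' a le)

theorem sylow (S : Sylow 2 K) : ∃ g ∈ K, cm g (AA d l) ≤ S.1.map K.subtype := by
  obtain ⟨S0, h0⟩ := (h.el.pg.comap_subtype (K := K)).exists_le_sylow
  obtain ⟨g, rfl⟩ := MulAction.exists_smul_eq K S S0
  exact ⟨g, g.2, fun x hx => ⟨⟨x, h.cm_le g.2 hx⟩, (smul_mem_pointwise_smul_iff (a := MulAut.conj g)).1
    (h0 (show J g ⟨x, h.cm_le g.2 hx⟩ ∈ (AA d l).comap K.subtype from hx)), rfl⟩⟩

theorem thompson (S : Sylow 2 K) :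
    ∃ g ∈ K, (thompsonSubgroupOf 2 S.1).map K.subtype = cm g (AA d l) := by
  obtain ⟨g, hg, k⟩ := h.sylow S
  have e : (K.subtype.comp S.1.subtype).range = S.1.map K.subtype := by
    rw [MonoidHom.range_comp, range_subtype]
  refine ⟨g, hg, (map_map _ _ _).trans (thompson_map (f := K.subtype.comp S.1.subtype)
    (K.subtype_injective.comp S.1.subtype_injective) (e ▸ k) (h.el.cm' g) fun B le el c => h.uniq' (S.2.map _) (map_subtype_le _) hg k (e ▸ le) el ?_)⟩
  rwa [card_cm, h.card] at c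

end JS

theorem JS.top [Finite G] (h : JS ⊤ D 1 l r) (T : Sylow 2 G) : ∃ g, cm g (AA 1 l) ≤ T ∧
    cm g (AA 1 l) = closure {x | x ∈ D ∧ x ∈ T.1} ∧
      ∀ B ≤ T.1, El B → 2 ^ r ≤ Nat.card B → B = cm g (AA 1 l) := by
  obtain ⟨S0, h0⟩ := h.el.pg.exists_le_sylow
  obtain ⟨g, rfl⟩ := MulAction.exists_smul_eq G T S0
  have k : cm g (AA 1 l) ≤ T := fun x hx =>
    (smul_mem_pointwise_smul_iff (a := MulAut.conj g)).1 (h0 hx)
  have m : ∀ a ∈ l, J g⁻¹ a ∈ cm g (AA 1 l) := fun a ha =>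
    mem_cm.2 (by rw [J_J_inv]; exact subset_closure (List.mem_cons_of_mem _ ha))
  refine ⟨g, k, le_antisymm ?_ ((closure_le _).2 fun x hx => subset_closure (List.mem_cons_of_mem _
    (h.mx.absorb h.t3 T.2 (fun e he => ⟨h.nrm _ trivial e he, h.nrm _ trivial e he⟩)
      (fun a ha => k (m a ha)) hx.1 hx.2))), fun B => h.uniq' T.2 le_top trivial k⟩
  have : AA 1 l ≤ cm g⁻¹ (closure {x | x ∈ D ∧ x ∈ T.1}) := (closure_le _).2 fun x hx => by
    rcases List.mem_cons.1 hx with rfl | hx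
    · exact one_mem _
    · exact subset_closure ⟨h.nrm _ trivial x (h.mx.1.mem x hx), k (m x hx)⟩
  intro x hx
  simpa only [mem_cm, J_inv_J] using this (mem_cm.1 hx)

/-! ### from the point stabiliser to the whole group -/

theorem AA_one (d : G) (l : List G) : AA 1 (d :: l) = AA d l := le_antisymm
  ((closure_le _).2 fun _ hx => (List.mem_cons.1 hx).elim (fun e => e ▸ one_mem _) fun k => subset_closure k)
  (closure_mono fun _ hx => List.mem_cons_of_mem _ hx)

theorem Mx.cons (hd : d ∈ D) (m : Mx (Dd D d) l) : Mx D (d :: l) :=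
  ⟨cl_cons.2 ⟨hd, m.1⟩, fun y hy k => (eq_or_ne y d).elim (fun e => e ▸ List.mem_cons_self) fun e =>
    List.mem_cons_of_mem _ (m.2 y ⟨hy, e, (k d (by simp)).symm⟩ fun a ha => k a (by simp [ha]))⟩

theorem ncard_list {α : Type*} {l : List α} (h : l.Nodup) : {a | a ∈ l}.ncard = l.length := by
  classical
  rw [← List.coe_toFinset, Set.ncard_coe_finset, List.toFinset_card_of_nodup h]

/-- a small orbit of a `2`-group -/
theorem ex_orbit [Finite G] {B : Subgroup G} (hB : IsPGroup 2 B) {X : Set G}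
    (k : ∀ g ∈ B, ∀ x ∈ X, J g x ∈ X) {j : ℕ} (c : ¬ 2 ^ (j + 1) ∣ X.ncard) :
    ∃ x ∈ X, (centralizer {x}).relIndex B ∣ 2 ^ j := by
  let _ := cjAct B X k
  by_contra! q
  have := Fintype.ofFinite (MulAction.orbitRel.Quotient B X)
  refine c ?_
  rw [← Nat.card_coe_set_eq, Nat.card_congr (MulAction.selfEquivSigmaOrbits B X), Nat.card_sigma]
  refine Finset.dvd_sum fun ω _ => ?_
  obtain ⟨i, e⟩ := hB.card_orbit ω.out
  have e' : (centralizer {(ω.out : X).1}).relIndex B = 2 ^ i := by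
    rw [← e, Nat.card_coe_set_eq, ← MulAction.index_stabilizer, relIndex]
    congr 1
    ext g
    rw [mem_subgroupOf, mem_cent1, MulAction.mem_stabilizer_iff, Subtype.ext_iff, ← J_eq_self]
    rfl
  rw [e]
  refine pow_dvd_pow 2 (not_le.1 fun le => q _ ω.out.2 (e' ▸ pow_dvd_pow 2 le))

/-- adjoin a commuting involution -/
def ext2 (B : Subgroup G) (p : G) (sq : p * p = 1) (c : ∀ b ∈ B, Commute p b) : Subgroup G where
  carrier := {x | x ∈ B ∨ p * x ∈ B}
  one_mem' := .inl (one_mem _)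
  mul_mem' := by
    have e : ∀ x, p * (p * x) = x := fun x => by rw [← mul_assoc, sq, one_mul]
    rintro x y (hx | hx) (hy | hy)
    · exact .inl (mul_mem hx hy)
    · exact .inr (by rw [← mul_assoc, (c x hx).eq, mul_assoc]; exact mul_mem hx hy)
    · exact .inr (by rw [← mul_assoc]; exact mul_mem hx hy)
    · exact .inl (by
        have := mul_mem hx hy
        rwa [← mul_assoc, ← (c _ hx).eq, e] at this)
  inv_mem' := by
    rintro x (hx | hx)
    · exact .inl (inv_mem hx)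
    · refine .inr ?_
      have : Commute p x := by simpa [← mul_assoc, sq] using (Commute.refl p).mul_right (c _ hx)
      rw [this.inv_right.eq, ← inv_of_sq sq, ← mul_inv_rev]
      exact inv_mem hx

namespace FG
variable [Finite G] (h : FG (n + 1) D) (hd : d ∈ D) (j : JS (centralizer {d}) (Dd D d) d l r)
include h hd j

theorem fixJ {B : Subgroup G} (el : El B) (c : 2 ^ r ≤ Nat.card B) {q : G} (hq : q ∈ D)
    (le : B ≤ centralizer {q}) : ∃ g, B = cm g (AA d l) := by
  obtain ⟨k, rfl⟩ := h.pg.trans d hd q hq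
  obtain ⟨g, -, e⟩ := j.ja' (B := cm k B) (fun x hx => mem_cent1.2
    (commute_J.1 (mem_cent1.1 (le (mem_cm.1 hx))))) (el.cm' _) (by rwa [card_cm])
  exact ⟨g * k⁻¹, by ext x; rw [mem_cm, J_mul, ← mem_cm, ← e, mem_cm, J_J_inv]⟩

theorem up (k : ∀ B : Subgroup G, El B → 2 ^ r ≤ Nat.card B → ∃ q ∈ D, B ≤ centralizer {q}) :
    JS ⊤ D 1 (d :: l) r :=
  ⟨h.pg.toT3, fun _ _ => trivial, fun g _ => h.pg.conj g, trivial, fun _ _ => Commute.one_right _,
    one_mul 1, j.mx.cons hd, (AA_one d l).symm ▸ j.card, fun B _ el c => by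
      obtain ⟨q, hq, le⟩ := k B el c
      obtain ⟨g, e⟩ := h.fixJ hd j el c hq le
      exact ⟨g, trivial, (AA_one d l).symm ▸ e.le⟩⟩

theorem orb {B : Subgroup G} (el : El B) {i : ℕ} (c : ¬ 2 ^ (i + 1) ∣ 22 + n) :
    ∃ (T : Subgroup G) (X : List G), IsPGroup 2 T ∧ B ≤ T ∧ Mx D X ∧ X.length = 22 + n ∧
      (∀ x, x ∈ X ↔ x ∈ D ∧ x ∈ T) ∧ ∃ x ∈ X, (centralizer {x}).relIndex B ∣ 2 ^ i := by
  have m := j.mx.cons hd
  obtain ⟨g, -, T, hT, le, -, k⟩ := m.sylow h.pg.toT3 (K := ⊤) (fun _ _ => trivial)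
    (fun g _ => h.pg.conj g) el.pg le_top
  have m' := m.conj (g := g) fun e he => ⟨h.pg.conj _ e he, h.pg.conj _ e he⟩
  have ln := (m'.width h.pg.toT3 h.lev.cl).symm.trans h.lev.width
  have i : ∀ x, x ∈ (d :: l).map (J g) ↔ x ∈ D ∧ x ∈ T := fun x =>
    ⟨fun hx => ⟨m'.1.mem x hx, by
      obtain ⟨y, hy, rfl⟩ := List.mem_map.1 hx
      exact (k y (m.1.mem y hy)).2 hy⟩, fun hx => List.mem_map.2
        ⟨_, (k _ (h.pg.conj g⁻¹ x hx.1)).1 (by simpa using hx.2), J_J_inv g x⟩⟩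
  exact ⟨T, _, hT, le, m', by omega, i, ex_orbit el.pg (X := {x | x ∈ (d :: l).map (J g)})
    (fun b hb x hx => (i _).2 ⟨h.pg.conj b x ((i x).1 hx).1, J_mem (le hb) ((i x).1 hx).2⟩)
    (by rwa [ncard_list m'.1.nd, ln, ← add_assoc, add_right_comm])⟩

end FG

theorem FG.up23 [Finite G] (h : FG 2 D) (hd : d ∈ D) (j : JS (centralizer {d}) (Dd D d) d l r) :
    JS ⊤ D 1 (d :: l) r := h.up hd j fun B el _ => by
  obtain ⟨T, X, -, -, m, -, -, x, hx, k⟩ := h.orb hd j el (i := 0) (by decide)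
  exact ⟨x, m.1.mem x hx, relIndex_eq_one.1 (by simpa using k)⟩

theorem hexad_off (h : FG 1 D) {X : List G} (m : Mx D X) (ln : X.length = 22) {p q : G} (hp : p ∈ X)
    (hq : q ∈ X) (n : p ≠ q) : ∃ s : List G, (∀ x ∈ s, x ∈ X ∧ x ≠ p ∧ x ≠ q) ∧ p * s.prod = 1 := by
  classical
  have ex : ∀ s : List G, s.length < 22 → ∃ x ∈ X, x ∉ s := fun s k => by
    by_contra! a
    exact absurd (m.1.nd.subperm a).length_le (by omega)
  have tri : ∀ {a b c}, a ∈ X → b ∈ X → c ∈ X → a ≠ b → a ≠ c → b ≠ c → CL D [a, b, c] :=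
    fun ha hb hc n1 n2 n3 => cl_three (m.1.mem _ ha) (m.1.mem _ hb) (m.1.mem _ hc) n1 n2 n3
      (m.1.cm _ ha _ hb) (m.1.cm _ ha _ hc) (m.1.cm _ hb _ hc)
  obtain ⟨a, ha, na⟩ := ex [p, q] (by simp)
  simp only [List.mem_cons, List.not_mem_nil, or_false, not_or] at na
  obtain ⟨s0, l0, -, -, k0⟩ := h.lev.rel (tri hp ha hq (Ne.symm na.1) n na.2) rfl
  obtain ⟨b, hb, nb⟩ := ex ([p, a, q] ++ s0) (by simp [l0])
  have nb' : ¬ b = p ∧ ¬ b = a ∧ ¬ b = q := by simp only [List.mem_append, List.mem_cons] at nb; tauto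
  have t := tri hp ha hb (Ne.symm na.1) (Ne.symm nb'.1) (Ne.symm nb'.2.1)
  obtain ⟨s, l1, c1, z, -⟩ := h.lev.rel t rfl
  have cs := c1.sublist (List.sublist_append_right _ _)
  have sX : ∀ x ∈ s, x ∈ X := fun x hx => m.2 x (cs.mem x hx) fun e he =>
    mem_of_prod h.pg.toT3 cs l1.le z hx (m.1.mem e he) fun y hy => m.1.cm y (by
      simp only [List.mem_cons, List.not_mem_nil, or_false] at hy
      rcases hy with rfl | rfl | rfl <;> assumption) e he
  have z := h.one z
  by_cases hs : q ∈ s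
  · refine absurd (k0 b (m.1.mem b hb) fun e he k => ?_) nb
    have c2 : CL D (b :: s.erase q) := c1.sublist
      (((List.erase_sublist.cons_cons b).cons a).cons p)
    rw [(List.perm_cons_erase hs).prod_eq' (cs.nd.pairwise_of_forall_ne fun x hx y hy _ => cs.cm x hx y hy),
      List.prod_cons] at z
    refine (c2.commute_prod h.pg.toT3 (by simp [List.length_erase_of_mem hs, l1]) he ?_ b (by simp)).symm
    have : (b :: s.erase q).prod = (p * (a * q))⁻¹ := by
      rw [eq_inv_iff_mul_eq_one, ← mul_eq_one_comm, ← z]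
      simp only [List.prod_cons, List.prod_nil, mul_one, mul_assoc, ← mul_assoc q b,
        (m.1.cm q hq b hb).eq]
    rw [this]
    exact ((k p (by simp)).symm.mul_right ((k a (by simp)).symm.mul_right (k q (by simp)).symm)).inv_right
  · have nd := c1.nd
    refine ⟨a :: b :: s, ?_, by simpa [mul_assoc] using z⟩
    simp only [List.mem_cons, forall_eq_or_imp]
    exact ⟨⟨ha, na⟩, ⟨hb, nb'.1, nb'.2.2⟩, fun x hx => ⟨sX x hx, fun e => by simp [← e, hx] at nd,
      fun e => hs (e ▸ hx)⟩⟩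

theorem FG.up22 [Finite G] (h : FG 1 D) (hd : d ∈ D) (j : JS (centralizer {d}) (Dd D d) d l r) :
    JS ⊤ D 1 (d :: l) r := h.up hd j fun B el c => by
  obtain ⟨T, X, hT, le, m, ln, i, p, hp, k⟩ := h.orb hd j el (i := 1) (by decide)
  have pD := m.1.mem p hp
  by_contra! nf
  obtain ⟨b, hb, nb⟩ := SetLike.not_le_iff_exists.1 (nf p pD)
  have i2 : (centralizer {p}).relIndex B = 2 := ((Nat.dvd_prime Nat.prime_two).1 k).resolve_left
    fun e => nf p pD (relIndex_eq_one.1 e)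
  have cp : ∀ x ∈ centralizer {p} ⊓ B, Commute p x := fun x hx => (mem_cent1.1 hx.1).symm
  have sp := h.pg.sq p pD
  have pB : p ∉ centralizer {p} ⊓ B := fun e => nb (mem_cent1.2 (el.cm hb e.2))
  have lt : centralizer {p} ⊓ B < ext2 _ p sp cp := lt_of_le_of_ne (fun x hx => .inl hx) fun e =>
    pB (e.ge (.inr (sp ▸ one_mem _)))
  have c1 : 2 ^ r ≤ Nat.card (ext2 _ p sp cp) := by
    have a := card_mul_index ((centralizer {p}).subgroupOf B)
    rw [← relIndex, i2, ← inf_subgroupOf_right,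
      Nat.card_congr (subgroupOfEquivOfLe inf_le_right).toEquiv] at a
    obtain ⟨u, hu⟩ := card_dvd_of_le lt.le
    have := not_le.1 (mt (eq_of_le_of_card_ge lt.le) lt.ne)
    have : 2 ≤ u := by
      by_contra! q
      interval_cases u <;> omega
    nlinarith
  have e : ∀ x, p * (p * x) = x := fun x => by rw [← mul_assoc, sp, one_mul]
  obtain ⟨g, eg⟩ := h.fixJ hd j (B := ext2 _ p sp cp) (fun x hx => hx.elim (fun k => el x k.2) fun k => by
      have := el _ k.2
      have c : Commute p x := e x ▸ (Commute.refl p).mul_right (cp _ k)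
      rwa [mul_assoc, ← mul_assoc x, ← c.eq, mul_assoc, e] at this) c1 pD
    fun x hx => hx.elim (fun k => k.1) fun k => e x ▸ mul_mem (mem_cent1.2 (Commute.refl p)) k.1
  have all : ∀ x ∈ X, x ∈ ext2 _ p sp cp := fun x hx => eg ▸ subset_closure ((j.mx.cons hd).absorb
    h.pg.toT3 hT (fun e he => ⟨h.pg.conj _ e he, h.pg.conj _ e he⟩) (fun a ha => by
      have : J g⁻¹ a ∈ ext2 _ p sp cp := eg ▸ mem_cm.2 (by rw [J_J_inv]; exact subset_closure ha)
      exact this.elim (fun k => le k.2) fun k => e (J g⁻¹ a) ▸ mul_mem ((i p).1 hp).2 (le k.2))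
    ((i x).1 hx).1 ((i x).1 hx).2)
  have bX : ∀ x ∈ X, J b x ∈ X := fun x hx =>
    (i _).2 ⟨h.pg.conj b x ((i x).1 hx).1, J_mem (le hb) ((i x).1 hx).2⟩
  have n : p ≠ J b p := fun q => nb (mem_cent1.2 (J_eq_self.1 q.symm))
  obtain ⟨s, hs, z⟩ := hexad_off h m ln hp (bX p hp) n
  refine pB (inv_mem_iff.1 (eq_inv_of_mul_eq_one_right z ▸ list_prod_mem fun x hx => ?_))
  obtain ⟨hx, n1, n2⟩ := hs x hx
  refine (all x hx).resolve_right fun k => ?_
  have q : J b p * J b x = p * x := by rw [← J_map_mul, J_of_commute (el.cm hb k.2)]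
  have := h.uniq (l := [J b p, J b x]) (l' := [p, x])
    (cl_two (m.1.mem _ (bX p hp)) (m.1.mem _ (bX x hx)) (by simpa using n1.symm)
      (m.1.cm _ (bX p hp) _ (bX x hx)))
    (cl_two pD (m.1.mem x hx) n1.symm (m.1.cm p hp x hx)) (by simp) (by simp) (by simpa using q)
  have a1 := this x (by simp)
  simp only [List.mem_cons, List.not_mem_nil, or_false] at a1
  rcases a1 with a1 | a1
  · exact n2 a1
  · rw [← a1, mul_left_inj] at q
    exact n q.symm

end Cfsg.Agent.H19
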