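import Cfsg.Agent.H19.MT2

/-! # Fusion in the centraliser of an involution of type `M̃(22)`, `M̃(23)` -/

set_option autoImplicit false
set_option maxHeartbeats 400000

namespace Cfsg.Agent.H19

open Subgroup

variable {G : Type*} [Group G] {n r : ℕ} {D E : Set G} {d : G} {l : List G}

theorem ja_lift [Finite G] {H : Type*} [Group H] [Finite H] {K : Subgroup G} (σ : K →* H)
    (hs : Function.Surjective σ) (hk : ∀ u : K, σ u = 1 → u.1 = 1 ∨ u.1 = d) {D' : Set H} {l' : List H}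
    (j : JS ⊤ D' 1 l' r) (k : ∀ y ∈ l', ∃ x : K, x.1 ∈ l ∧ σ x = y) :
    ∀ B ≤ K, El B → 2 ^ (r + 1) ≤ Nat.card B → ∃ g ∈ K, B ≤ cm g (AA d l) := fun B le el c => by
  let f := σ.comp (inclusion le)
  have a := f.ker.card_mul_index
  have b : Nat.card f.ker ≤ 2 := (Nat.card_le_card_of_injective
    (fun z : f.ker => (⟨z.1.1, hk (inclusion le z.1) z.2⟩ : ({1, d} : Set G)))
    fun _ _ e => Subtype.ext (Subtype.ext (congrArg (fun z : ({1, d} : Set G) => z.1) e))).trans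
      ((Set.ncard_insert_le _ _).trans (by simp))
  rw [index_ker] at a
  obtain ⟨g, -, e⟩ := j.ja f.range le_top (by
    rintro _ ⟨x, rfl⟩
    rw [← map_mul, show x * x = 1 from Subtype.ext (el _ x.2), map_one]) (by
      rw [pow_succ] at c; nlinarith)
  obtain ⟨g, rfl⟩ := hs g
  have : AA 1 l' ≤ ((AA d l).subgroupOf K).map σ := (closure_le _).2 fun y hy => by
    rcases List.mem_cons.1 hy with rfl | hy
    · exact one_mem _
    · obtain ⟨x, hx, rfl⟩ := k y hy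
      exact mem_map_of_mem _ (subset_closure (List.mem_cons_of_mem _ hx))
  refine ⟨g, g.2, fun x hx => ?_⟩
  obtain ⟨u, hu, q⟩ := this (mem_cm.1 (e ⟨⟨x, hx⟩, rfl⟩))
  have : (u⁻¹ * J g ⟨x, le hx⟩).1 ∈ AA d l := (hk (u⁻¹ * J g ⟨x, le hx⟩) (by
    rw [map_mul, map_inv, q, map_J]; exact inv_mul_cancel _)).elim (fun q => q ▸ one_mem _)
      fun q => q ▸ subset_closure List.mem_cons_self
  exact (mul_mem_cancel_left (inv_mem (mem_subgroupOf.1 hu))).1 this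

/-- the number of ways to write `x` as a product of two elements of `W ∩ A` -/
noncomputable def FF (A : Subgroup G) (W : Set G) (x : G) : ℕ := {p | p ∈ A ∧ p ∈ W ∧ p * x ∈ W}.ncard

/-- the structure of the centraliser of `d` -/
structure LS (n : ℕ) (d : G) (E : Set G) (l : List G) : Prop where
  lev : Lev n E
  inv : Inv E 3
  top : closure E = centralizer {d}
  zc : ∀ u ∈ centralizer E, u = 1 ∨ u = d
  ne : d ≠ 1
  js : JS (centralizer {d}) E d l (10 + n)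
  odd : ∃ s, CL E s ∧ Even s.length ∧ s.prod = d
  three : ∃ x ∈ l, ∃ y ∈ l, ∃ c ∈ l, x ≠ y ∧ ∀ p ∈ d :: l, ∀ q ∈ d :: l, d * (x * y) * c ≠ p * q
  om : ∀ W : Set G, (∀ g ∈ centralizer {d}, ∀ x ∈ W, J g x ∈ W) → d ∈ W → 1 ∉ W →
    (∀ x ∈ l, ∀ y ∈ l, x * y ∉ W) → (∀ x ∈ AA d l, x ∈ W → FF (AA d l) W x = FF (AA d l) W d) →
    (∀ x ∈ AA d l, x ∈ W → x = d ∨ x ∈ E) ∨ ∀ x ∈ AA d l, x ∈ W → x = d ∨ d * x ∈ E

theorem conj_J (g : G) {x : G} (hx : x ∈ conjugatesOf d) : J g x ∈ conjugatesOf d :=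
  hx.trans (isConj_iff.2 ⟨g, rfl⟩)

theorem image_J_Dd (g : G) : (MulAut.conj g : G →* G) '' Dd (conjugatesOf d) d =
    Dd (conjugatesOf d) (J g d) := Set.Subset.antisymm
  (by rintro _ ⟨x, hx, rfl⟩; exact J_mem_Dd (fun _ => conj_J g) hx) fun x hx =>
    ⟨J g⁻¹ x, by simpa using J_mem_Dd (g := g⁻¹) (fun _ => conj_J _) hx, J_J_inv g x⟩

theorem lev_conj (h : Lev n (Dd (conjugatesOf d) d)) {x : G} (hx : x ∈ conjugatesOf d) :
    Lev n (Dd (conjugatesOf d) x) := by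
  obtain ⟨g, rfl⟩ := isConj_iff.1 hx
  exact image_J_Dd g ▸ h.map (MulAut.conj g).injective

namespace LS
variable (h : LS n d E l)
include h

theorem dz : d ∈ centralizer E := zc_iff.2 fun e he => (h.js.cen e (h.js.sub he)).symm

theorem cancel (x : G) : d * (d * x) = x := by rw [← mul_assoc, h.js.sq, one_mul]

theorem not_mem : d ∉ E := fun k => by
  obtain ⟨e, he, n⟩ := h.lev.noiso k
  exact n (zc_iff.1 h.dz e he)

theorem dec {g : G} (hg : g ∈ centralizer {d}) (k : g * g ∈ centralizer E) :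
    ∃ s, CL E s ∧ (g = s.prod ∨ g = d * s.prod) := by
  obtain ⟨s, c, -, z⟩ := h.inv g (h.top ▸ hg) k
  have q := inv_of_sq (c.sq h.lev.t3)
  refine ⟨s, c, (h.zc _ z).imp (fun e => (eq_inv_of_mul_eq_one_right e).trans q) fun e => ?_⟩
  rw [← (h.js.cen _ (h.top ▸ c.prod_mem)).eq, ← e, ← mul_assoc, c.sq h.lev.t3, one_mul]

theorem sq1 {g : G} (hg : g ∈ centralizer {d}) (k : g * g ∈ centralizer E) : g * g = 1 := by
  obtain ⟨s, c, rfl | rfl⟩ := h.dec hg k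
  · exact c.sq h.lev.t3
  · rw [mul_assoc, ← mul_assoc s.prod, (h.js.cen _ (h.top ▸ c.prod_mem)).eq, mul_assoc, h.cancel,
      c.sq h.lev.t3]

theorem nsq {x : G} (hx : x ∈ conjugatesOf d) (g : G) : g * g ≠ x := fun e => by
  obtain ⟨k, rfl⟩ := isConj_iff.1 hx
  have e' : J k⁻¹ g * J k⁻¹ g = d := by rw [← J_map_mul, e]; exact J_inv_J k d
  exact h.ne (e'.symm.trans (h.sq1 (mem_cent1.2 (e' ▸ (Commute.refl _).mul_right (Commute.refl _)))
    (e' ▸ h.dz)))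

theorem sqD {x : G} (hx : x ∈ conjugatesOf d) : x * x = 1 := by
  obtain ⟨k, rfl⟩ := isConj_iff.1 hx
  exact (J_map_mul k d d).symm.trans (by rw [h.js.sq, J_map_one])

variable [Finite G]

theorem into {x : G} (hx : x ∈ centralizer {d}) (sq : x * x = 1) :
    ∃ g ∈ centralizer {d}, J g x ∈ AA d l := by
  obtain ⟨s, c, e⟩ := h.dec hx (sq ▸ one_mem _)
  obtain ⟨g, hg, T, -, le, -, k⟩ := h.js.mx.sylow h.lev.t3 h.js.sub h.js.nrm
    (isPGroup_closure_of_commute (S := {a | a ∈ s}) (fun a ha => h.lev.t3.sq a (c.mem a ha)) c.cm)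
    ((closure_le _).2 fun a ha => h.js.sub (c.mem a ha))
  have : s.prod ∈ cm g⁻¹ (AA d l) := list_prod_mem fun a ha => subset_closure (List.mem_cons_of_mem _
    ((k _ (h.js.nrm _ (inv_mem hg) a (c.mem a ha))).1 (by simpa using le (subset_closure ha))))
  refine ⟨g⁻¹, inv_mem hg, mem_cm.1 ?_⟩
  rcases e with rfl | rfl
  · exact this
  · exact mul_mem (mem_cm.2 ((J_of_commute (h.js.cen _ (inv_mem hg))).symm ▸
      subset_closure List.mem_cons_self)) this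

theorem ctrl {x : G} (hx : x ∈ conjugatesOf d) (xA : x ∈ AA d l) :
    ∃ k, J k x = d ∧ ∀ y, J k y ∈ AA d l ↔ y ∈ AA d l := by
  obtain ⟨k, rfl⟩ := isConj_iff.1 hx
  obtain ⟨g, hg, e⟩ := h.js.ja' (B := cm k (AA d l)) (fun y hy => mem_cent1.2
    (commute_J.1 (h.js.el.cm (mem_cm.1 hy) xA))) (h.js.el.cm' k) (by rw [card_cm, h.js.card])
  exact ⟨g * k⁻¹, by rw [J_mul, ← J_def, J_inv_J, J_of_commute (mem_cent1.1 hg)], fun y => by
    rw [J_mul, ← mem_cm, ← e, mem_cm, J_J_inv]⟩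

theorem main1 (hn : ∃ g : G, g * d * g⁻¹ ∈ centralizer ({d} : Set G) ∧ g * d * g⁻¹ ≠ d) :
    Dd (conjugatesOf d) d = E ∨ Dd (conjugatesOf d) d = (d * ·) '' E := by
  obtain ⟨g, g1, g2⟩ := hn
  have m0 : J g d ∈ Dd (conjugatesOf d) d := ⟨conj_J g (IsConj.refl d), g2, (mem_cent1.1 g1).symm⟩
  have key : ∀ z, (z = 1 ∨ z = d) → (∀ x ∈ AA d l, x ∈ conjugatesOf d → x = d ∨ z * x ∈ E) →
      Dd (conjugatesOf d) d = (z * ·) '' E := fun z hz k => by
    have cz : ∀ g ∈ centralizer {d}, ∀ x, J g (z * x) = z * J g x := fun g hg x => by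
      rw [J_map_mul, J_of_commute (hz.elim (fun e => e ▸ Commute.one_right g) fun e => e ▸ mem_cent1.1 hg)]
    have zz : ∀ x, z * (z * x) = x := fun x => hz.elim (fun e => by simp [e]) fun e => e ▸ h.cancel x
    have a : ∀ x ∈ Dd (conjugatesOf d) d, z * x ∈ E := fun x hx => by
      obtain ⟨u, hu, q⟩ := h.into (mem_cent1.2 hx.2.2.symm) (h.sqD hx.1)
      have := h.js.nrm _ (inv_mem hu) _ ((k _ q (conj_J u hx.1)).resolve_left fun e =>
        hx.2.1 (J_injective u (e.trans (J_of_commute (mem_cent1.1 hu)).symm)))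
      rwa [← cz u hu, J_inv_J] at this
    refine Set.Subset.antisymm (fun x hx => ⟨_, a x hx, zz x⟩) ?_
    rintro _ ⟨e, he, rfl⟩
    obtain ⟨u, hu, rfl⟩ := h.lev.con _ (a _ m0) e he
    rw [h.top] at hu
    have := J_mem_Dd (g := u) (fun _ => conj_J u) m0
    rw [J_of_commute (mem_cent1.1 hu)] at this
    simpa only [cz u hu, zz] using this
  refine (h.om (conjugatesOf d) (fun g _ _ => conj_J g) (IsConj.refl d)
    (fun k => h.nsq k 1 (one_mul 1)) (fun x hx y hy k => ?_) fun x xA hx => ?_).imp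
    (fun k => by simpa using key 1 (.inl rfl) (by simpa using k)) (key d (.inr rfl))
  · have m := h.js.mx.1
    by_cases e : y = x
    · exact h.nsq k x (by rw [e])
    · obtain ⟨u, hu⟩ := h.lev.pair_sq (m.mem x hx) ⟨m.mem y hy, e, m.cm x hx y hy⟩
      exact h.nsq k u hu
  · obtain ⟨k, e, q⟩ := h.ctrl hx xA
    rw [FF, FF, ← Set.ncard_image_of_injective _ (J_injective k)]
    congr 1
    ext p
    refine ⟨by
      rintro ⟨p, ⟨a, b, c⟩, rfl⟩
      exact ⟨(q p).2 a, conj_J k b, by rw [← e, ← J_map_mul, e]; exact conj_J k c⟩, fun ⟨a, b, c⟩ =>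
      ⟨J k⁻¹ p, ⟨(q _).1 (by simpa using a), conj_J _ b, ?_⟩, J_J_inv k p⟩⟩
    have := conj_J k⁻¹ c
    rwa [J_map_mul, ← e, J_inv_J, e] at this

variable (e : Dd (conjugatesOf d) d = E)
include e

omit [Finite G] in
theorem mem_iff {x : G} : x ∈ AA d l ∧ x ∈ conjugatesOf d ↔ x ∈ d :: l :=
  ⟨fun ⟨a, b⟩ => (eq_or_ne x d).elim (fun q => q ▸ List.mem_cons_self) fun q => List.mem_cons_of_mem _
    (h.js.mem_l (e ▸ ⟨b, q, h.js.el.cm (subset_closure List.mem_cons_self) a⟩) a),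
    fun k => ⟨subset_closure k, (List.mem_cons.1 k).elim (fun q => q ▸ IsConj.refl _) fun q =>
      (e.ge (h.js.mx.1.mem x q)).1⟩⟩

omit [Finite G] in
theorem gs : GS n (conjugatesOf d) := by
  have m : Mx (conjugatesOf d) (d :: l) := Mx.cons (IsConj.refl d) (e ▸ h.js.mx)
  refine ⟨fun g _ => conj_J g, fun a ha b hb => isConj_iff.1 (ha.symm.trans hb), fun _ => h.sqD,
    fun _ => lev_conj (e ▸ h.lev), fun x hx => ?_, fun x hx u hu => ?_, fun _ => h.nsq, ?_, ?_⟩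
  · obtain ⟨g, rfl⟩ := isConj_iff.1 hx
    rw [← J_def, ← image_J_Dd, ← MonoidHom.map_closure, e, h.top]
    ext y
    exact ⟨by rintro ⟨y, hy, rfl⟩; exact mem_cent1.2 (commute_J.2 (mem_cent1.1 hy)), fun hy =>
      ⟨J g⁻¹ y, mem_cent1.2 (commute_J_left.2 (by simpa using mem_cent1.1 hy)), J_J_inv g y⟩⟩
  · obtain ⟨g, rfl⟩ := isConj_iff.1 hx
    rw [← J_def] at hu ⊢
    refine (h.zc (J g⁻¹ u) (zc_iff.2 fun y hy => commute_J_left.2 (zc_iff.1 hu _ ?_))).imp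
      (fun q => by simpa using congrArg (J g) q) fun q => by simpa using congrArg (J g) q
    exact (inv_inv g).symm ▸ J_mem_Dd (g := g) (fun _ => conj_J g) (e.ge hy)
  · obtain ⟨s, c, o, p⟩ := h.odd
    exact ⟨d :: s, cl_cons.2 ⟨IsConj.refl d, e ▸ c⟩, o.add_one, by rw [List.prod_cons, p, h.js.sq]⟩
  · obtain ⟨x, hx, y, hy, c, hc, ne, k⟩ := h.three
    have a := h.js.mx.1
    exact ⟨{x | x ∈ d :: l}, ⟨m.1.mem, m.1.cm, m.2⟩, d, List.mem_cons_self, x, List.mem_cons_of_mem _ hx,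
      y, List.mem_cons_of_mem _ hy, c, List.mem_cons_of_mem _ hc, cl_cons.2 ⟨IsConj.refl d,
        e ▸ cl_two (a.mem x hx) (a.mem y hy) ne (a.cm x hx y hy)⟩, k⟩

theorem final (S : Sylow 2 (centralizer ({d} : Set G))) (A : Subgroup G)
    (hA : A = (thompsonSubgroupOf 2 S.1).map (centralizer ({d} : Set G)).subtype) :
    IsElementaryAbelian 2 A ∧ Nat.card A = 2 ^ (10 + n) ∧ Set.ncard {x : G | x ∈ A ∧ IsConj d x} = 22 + n ∧
      ∀ x ∈ A, ∀ y ∈ A, IsConj d x → IsConj d y → ∃ n ∈ normalizer (A : Set G), n * x * n⁻¹ = y := by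
  obtain ⟨g, hg, q⟩ := h.js.thompson S
  obtain rfl := hA.trans q
  have m : Mx (conjugatesOf d) (d :: l) := Mx.cons (IsConj.refl d) (e ▸ h.js.mx)
  refine ⟨el_iff.2 (h.js.el.cm' g), (card_cm _ _).trans h.js.card, ?_, fun x hx y hy cx cy => ?_⟩
  · have ln := (h.js.mx.width h.lev.t3 h.lev.cl).symm.trans h.lev.width
    rw [← Set.ncard_image_of_injective _ (J_injective g), show 22 + n = (d :: l).length by simp [ln]; omega,
      ← ncard_list m.1.nd]
    congr 1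
    ext x
    refine ⟨by rintro ⟨x, a, rfl⟩; exact (h.mem_iff e).1 ⟨a.1, conj_J g a.2⟩, fun k =>
      ⟨J g⁻¹ x, ⟨mem_cm.2 ?_, conj_J _ ((h.mem_iff e).2 k).2⟩, J_J_inv g x⟩⟩
    simpa using ((h.mem_iff e).2 k).1
  · obtain ⟨k, e1, q1⟩ := h.ctrl (conj_J g cx) hx
    obtain ⟨k', e2, q2⟩ := h.ctrl (conj_J g cy) hy
    refine ⟨g⁻¹ * (k'⁻¹ * (k * g)), mem_normalizer_iff.2 fun u => ?_, ?_⟩
    · rw [← J_def, mem_cm, mem_cm, J_mul, J_J_inv, ← q2 (J (k'⁻¹ * _) u), J_mul, J_J_inv, J_mul, q1]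
    · rw [← J_def, J_mul, J_mul, J_mul, e1, ← e2, J_inv_J, J_inv_J]

end LS

end Cfsg.Agent.H19
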