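import Cfsg.Agent.H19.MT3

/-! # Coordinates in the group spanned by a maximal commuting set -/

set_option autoImplicit false
set_option maxHeartbeats 400000

namespace Cfsg.Agent.H19

open Cfsg.Agent.H14 Cfsg.Agent.H15 Subgroup

variable {G : Type*} [Group G]

/-- the element with coordinates `v`: bit `0` for `d`, bit `i + 1` for `e i` -/
noncomputable def io (d : G) (e : ℕ → G) (r v : ℕ) : G :=
  Nat.rec (cond (tb v 0) d 1) (fun i ih => cond (tb v (i + 1)) (e i * ih) ih) r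

/-- the linear map that fixes bit `0` and sends bit `i + 1` to `f i` -/
noncomputable def Lm (f : ℕ → ℕ) (r v : ℕ) : ℕ :=
  Nat.rec (Nat.land v 1) (fun i ih => cond (tb v (i + 1)) (Nat.xor (f i) ih) ih) r

/-- the word of a vector -/
noncomputable def wrd (f : ℕ → ℕ) (r v : ℕ) : List ℕ :=
  Nat.rec [] (fun i ih => cond (tb v (i + 1)) (f i :: ih) ih) r

theorem io_succ (d : G) (e : ℕ → G) (r v : ℕ) :
    io d e (r + 1) v = cond (tb v (r + 1)) (e r * io d e r v) (io d e r v) := rfl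

theorem io_wrd (d : G) (c : ℕ → G) (f : ℕ → ℕ) (r v : ℕ) :
    io d (fun i => c (f i)) r v = lprod c (wrd f r v) * cond (tb v 0) d 1 := by
  induction r with
  | zero => exact (one_mul _).symm
  | succ r ih =>
    show cond _ _ _ = lprod c (cond _ _ _) * _
    cases tb v (r + 1)
    · exact ih
    · show c (f r) * io d _ r v = lprod c (f r :: wrd f r v) * _
      rw [ih, lprod_cons, mul_assoc]

theorem wrd_mem {f : ℕ → ℕ} {r v x : ℕ} (h : x ∈ wrd f r v) : ∃ i < r, x = f i := by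
  induction r with
  | zero => exact absurd h List.not_mem_nil
  | succ r ih =>
    replace h : x ∈ cond (tb v (r + 1)) (f r :: wrd f r v) (wrd f r v) := h
    have k : x ∈ wrd f r v → ∃ i < r + 1, x = f i := fun h => (ih h).imp fun _ k => ⟨by omega, k.2⟩
    cases e : tb v (r + 1) <;> rw [e] at h
    exacts [k h, (List.mem_cons.1 h).elim (fun q => ⟨r, by omega, q⟩) k]

theorem io_small (d : G) (e : ℕ → G) {k r v : ℕ} (hv : v < 2 ^ (k + 1)) (h : k ≤ r) :
    io d e r v = io d e k v := by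
  induction h with
  | refl => rfl
  | step h ih => rw [io_succ, tb_eq, Nat.testBit_lt_two_pow (hv.trans_le
      (Nat.pow_le_pow_right two_pos (Nat.succ_le_succ h))), cond_false, ih]

theorem io_and (d : G) (e : ℕ → G) (r v : ℕ) : io d e r (v &&& 1) = cond (tb v 0) d 1 := by
  rw [io_small d e (k := 0) (Nat.lt_succ_of_le Nat.and_le_right) (Nat.zero_le r)]
  show cond (tb _ 0) d 1 = _
  simp [tb_eq]

theorem Lm_lt {f : ℕ → ℕ} {r k : ℕ} (h : ∀ i < r, f i < 2 ^ (k + 1)) (v : ℕ) : Lm f r v < 2 ^ (k + 1) := by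
  induction r with
  | zero => exact (Nat.lt_succ_of_le Nat.and_le_right).trans_le (Nat.le_self_pow (by omega) 2)
  | succ r ih =>
    show cond _ _ _ < _
    have := ih fun i hi => h i (by omega)
    cases tb v (r + 1)
    exacts [this, Nat.xor_lt_two_pow (h r (by omega)) this]

section
variable {A : Subgroup G} {d : G} {e : ℕ → G} {r : ℕ} (hd : d ∈ A) (he : ∀ i < r, e i ∈ A)
include hd he

theorem io_mem (v : ℕ) : io d e r v ∈ A := by
  induction r with
  | zero => show cond _ _ _ ∈ _; cases tb v 0; exacts [one_mem _, hd]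
  | succ r ih =>
    have := ih fun i hi => he i (by omega)
    rw [io_succ]
    cases tb v (r + 1)
    exacts [this, mul_mem (he r (by omega)) this]

theorem io_xor (el : El A) (u v : ℕ) : io d e r (u ^^^ v) = io d e r u * io d e r v := by
  induction r with
  | zero =>
    show cond _ _ _ = cond _ _ _ * cond _ _ _
    simp only [tb_eq, Nat.testBit_xor]
    cases u.testBit 0 <;> cases v.testBit 0 <;> simp [el d hd]
  | succ r ih =>
    have he' : ∀ i < r, e i ∈ A := fun i hi => he i (by omega)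
    have c := (el.cm (he r (by omega)) (io_mem hd he' u)).eq
    simp only [io_succ, tb_eq, Nat.testBit_xor, ih he']
    cases u.testBit (r + 1) <;> cases v.testBit (r + 1) <;>
      simp only [Bool.xor_false, Bool.xor_true, Bool.not_true, Bool.not_false, cond_true, cond_false]
    · rw [← mul_assoc, c, mul_assoc]
    · rw [mul_assoc]
    · rw [c, mul_assoc, ← mul_assoc (e r), el _ (he r (by omega)), one_mul]

theorem J_io (el : El A) {g : G} (c : Commute g d) {f : ℕ → ℕ} {k : ℕ}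
    (h : ∀ i < k, J g (e i) = io d e r (f i)) (v : ℕ) : J g (io d e k v) = io d e r (Lm f k v) := by
  induction k with
  | zero =>
    refine .trans ?_ (io_and d e r v).symm
    show J g (cond _ _ _) = _
    cases tb v 0
    exacts [J_map_one g, J_of_commute c]
  | succ k ih =>
    have := ih fun i hi => h i (by omega)
    show J g (cond _ _ _) = io d e r (cond _ _ _)
    cases tb v (k + 1)
    · exact this
    · exact (J_map_mul _ _ _).trans ((congrArg₂ _ (h k (by omega)) this).trans (io_xor hd he el _ _).symm)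

end

/-- count with an accumulator -/
noncomputable def cntA (q : ℕ → Bool) (n : ℕ) : ℕ → ℕ :=
  Nat.rec (fun a => a) (fun i ih a => cond (q i) (frcN (a + 1) ih) (ih a)) n

theorem cntA_eq (q : ℕ → Bool) (n : ℕ) : {v | v < n ∧ q v = true}.ncard = cntA q n 0 := by
  have : ∀ a, cntA q n a = a + Nat.count (q · = true) n := by
    induction n with
    | zero => intro a; rfl
    | succ n ih =>
      intro a
      show cond (q n) (cntA q n (a + 1)) (cntA q n a) = _
      rw [Nat.count_succ]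
      cases q n <;> simp [ih] <;> omega
  rw [this, zero_add, Nat.count_eq_card_filter_range, ← Set.ncard_coe_finset]
  congr 1
  ext
  simp

/-- the class representatives -/
def rp : List ℕ := [1, 2, 3, 6, 7, 14]

/-- the relations of the points in the model -/
noncomputable def relOk (R' R : Raw) (π : ℕ → ℕ) (r : ℕ) (pl : List ℕ) (vs : ℕ → ℕ) : Bool :=
  allLt pl.length fun j => frc (vs j) fun v => frcL (nthN pl j :: wrd (nthN pl) r v) fun w =>
    Nat.blt v (2 ^ (r + 1)) && okW R'.n w && R.trivP (cond (tb v 0) (0 :: w.map π) (w.map π))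

/-- the word maps the basis points to points of the list -/
noncomputable def Raw.nrmOk (R : Raw) (r : ℕ) (pl w : List ℕ) (σ : ℕ → ℕ) : Bool :=
  okW R.n w && allLt r fun i => frc (σ i) fun k =>
    Nat.blt k pl.length && Nat.beq (R.pw id w (nthN pl i)) (nthN pl k)

/-- descent to the representatives -/
noncomputable def dsV (tab vs : ℕ → ℕ) (gp : List (List ℕ)) (k r v : ℕ) : Bool :=
  frc (tab v) fun e => cond (Nat.beq v 0) (Nat.beq (Nat.land e 7) 6) (Nat.blt (Nat.land e 7) 6 &&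
    cond (Nat.beq (Nat.shiftRight e 6) 0) (Nat.beq v (nthN rp (Nat.land e 7)))
      (frc (Nat.land (Nat.shiftRight e 3) 7) fun j => Nat.blt j k &&
        frc (tab (Lm (fun i => vs (nthN (nthW gp j) i)) r v)) fun e' =>
          Nat.blt (Nat.shiftRight e' 6) (Nat.shiftRight e 6) && Nat.beq (Nat.land e' 7) (Nat.land e 7)))

/-- the number of decompositions -/
noncomputable def cntS (tab : ℕ → ℕ) (N S u : ℕ) : ℕ :=
  cntA (fun v => tb S (Nat.land (tab v) 7) && tb S (Nat.land (tab (Nat.xor v u)) 7)) N 0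

/-- the possible invariant sets -/
noncomputable def omOk (tab : ℕ → ℕ) (N : ℕ) : Bool := allLt 64 fun S =>
  !tb S 0 || tb S 3 || Nat.beq S 1 || Nat.beq S 3 || Nat.beq S 5 || frc (cntS tab N S 1) fun a =>
    anyLt 6 fun k => tb S k && !Nat.beq (cntS tab N S (nthN rp k)) a

/-- a double cover as the centraliser of an involution, with coordinates -/
structure Cq (n : ℕ) (R : Raw) (r : ℕ) (pl : List ℕ) (vs : ℕ → ℕ) (d : G) (c : ℕ → G) : Prop where
  lab : Lab R c
  lev : Lev n (Im R c)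
  top : closure (Im R c) = centralizer {d}
  sq : d * d = 1
  ne : d ≠ 1
  zc : ∀ u ∈ centralizer (Im R c), u = 1 ∨ u = d
  mx : Mx (Im R c) (pl.map c)
  ok : okW R.n pl = true ∧ 3 ≤ r ∧ r ≤ pl.length ∧ R.clOk [nthN pl 2, nthN pl 1, nthN pl 0] = true
  rel : ∀ j < pl.length, vs j < 2 ^ (r + 1) ∧ c (nthN pl j) = io d (fun i => c (nthN pl i)) r (vs j)

theorem Exa.rel {R' R : Raw} {π : ℕ → ℕ} {d : G} {c : ℕ → G} (h : Exa R' R π d c) (l : Lab R' c)
    (sq : d * d = 1) {r : ℕ} {pl : List ℕ} {vs : ℕ → ℕ} (k : relOk R' R π r pl vs = true) :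
    ∀ j < pl.length, vs j < 2 ^ (r + 1) ∧ c (nthN pl j) = io d (fun i => c (nthN pl i)) r (vs j) :=
  fun j hj => by
  have := allLt_iff.1 k j hj
  simp only [frc_eq, frcL_eq, Bool.and_eq_true, Nat.blt_eq] at this
  refine ⟨this.1.1, ?_⟩
  have e := h _ _ this.1.2 this.2
  rw [List.map_cons, List.prod_cons, ← lprod_eq_map, ← eq_inv_mul_iff_mul_eq,
    inv_of_sq (l.sq _ (okW_iff.1 this.1.2 _ List.mem_cons_self))] at e
  rw [io_wrd, e, mul_assoc]
  cases tb (vs j) 0 <;> simp [sq]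

namespace Cq
variable {n : ℕ} {R : Raw} {r : ℕ} {pl : List ℕ} {vs : ℕ → ℕ} {d : G} {c : ℕ → G}
  (h : Cq n R r pl vs d c)
include h

theorem cen {g : G} (hg : g ∈ closure (Im R c)) : Commute g d := mem_cent1.1 (h.top ▸ hg)

theorem dz : d ∈ centralizer (Im R c) := zc_iff.2 fun _ k => (h.cen (subset_closure k)).symm

theorem el : El (AA d (pl.map c)) := el_closure
  (fun _ hx => (List.mem_cons.1 hx).elim (fun e => e ▸ h.sq) fun k => h.lab.sq_im _ (h.mx.1.mem _ k))
  fun x hx y hy => by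
    rcases List.mem_cons.1 hy with rfl | hy'
    · exact (List.mem_cons.1 hx).elim (fun e => e ▸ Commute.refl _) fun k =>
        h.cen (subset_closure (h.mx.1.mem _ k))
    rcases List.mem_cons.1 hx with rfl | hx
    exacts [(h.cen (subset_closure (h.mx.1.mem _ hy'))).symm, h.mx.1.cm x hx y hy']

omit h in
theorem dA : d ∈ AA d (pl.map c) := subset_closure List.mem_cons_self

omit h in
theorem pA {j : ℕ} (hj : j < pl.length) : c (nthN pl j) ∈ AA d (pl.map c) :=
  subset_closure (List.mem_cons_of_mem _ (List.mem_map_of_mem (nthN_mem hj)))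

theorem eA : ∀ i < r, c (nthN pl i) ∈ AA d (pl.map c) := fun _ hi => pA (hi.trans_le h.ok.2.2.1)

theorem le : AA d (pl.map c) ≤ centralizer {d} := fun _ hx => mem_cent1.2 (h.el.cm hx dA)

theorem xor (u v : ℕ) : io d (fun i => c (nthN pl i)) r (u ^^^ v) =
    io d (fun i => c (nthN pl i)) r u * io d (fun i => c (nthN pl i)) r v := io_xor dA h.eA h.el u v

theorem mem {x : G} : x ∈ AA d (pl.map c) ↔ ∃ v < 2 ^ (r + 1), x = io d (fun i => c (nthN pl i)) r v := by
  refine ⟨fun hx => ?_, by rintro ⟨v, -, rfl⟩; exact io_mem dA h.eA v⟩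
  induction hx using closure_induction with
  | mem x hx =>
    rcases List.mem_cons.1 hx with rfl | hx
    · exact ⟨1, Nat.one_lt_two_pow (by omega), (io_and x _ r 1).symm⟩
    · obtain ⟨y, hy, rfl⟩ := List.mem_map.1 hx
      obtain ⟨j, hj, rfl⟩ := exists_nthN hy
      exact ⟨_, h.rel j hj⟩
  | one => exact ⟨0, Nat.two_pow_pos _, (io_and d _ r 0).symm⟩
  | mul x y _ _ a b =>
    obtain ⟨u, hu, rfl⟩ := a
    obtain ⟨v, hv, rfl⟩ := b
    exact ⟨_, Nat.xor_lt_two_pow hu hv, (h.xor u v).symm⟩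
  | inv x hx a => rwa [inv_of_sq (h.el x hx)]

theorem nrm {w : List ℕ} {σ : ℕ → ℕ} (k : R.nrmOk r pl w σ = true) : lprod c w ∈ centralizer {d} ∧
    ∀ v, Lm (fun i => vs (σ i)) r v < 2 ^ (r + 1) ∧ J (lprod c w)⁻¹ (io d (fun i => c (nthN pl i)) r v) =
      io d (fun i => c (nthN pl i)) r (Lm (fun i => vs (σ i)) r v) := by
  simp only [Raw.nrmOk, frc_eq, Bool.and_eq_true, allLt_iff, Nat.blt_eq, nbeq_iff] at k
  have m := h.lab.word_mem k.1
  refine ⟨inv_mem_iff.1 (h.top ▸ m), fun v => ⟨Lm_lt (fun i hi => (h.rel _ (k.2 i hi).1).1) v,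
    J_io dA h.eA h.el (h.cen m) (fun i hi => ?_) v⟩⟩
  rw [← (h.rel _ (k.2 i hi).1).2, ← (k.2 i hi).2]
  exact (h.lab.pw_id k.1 (okW_iff.1 h.ok.1 _ (nthN_mem (hi.trans_le h.ok.2.2.1)))).2.symm

theorem rep : io d (fun i => c (nthN pl i)) r 1 = d ∧ io d (fun i => c (nthN pl i)) r 2 = c (nthN pl 0) ∧
    io d (fun i => c (nthN pl i)) r 3 = c (nthN pl 0) * d ∧
    io d (fun i => c (nthN pl i)) r 6 = c (nthN pl 1) * c (nthN pl 0) ∧
    io d (fun i => c (nthN pl i)) r 7 = c (nthN pl 1) * (c (nthN pl 0) * d) ∧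
    io d (fun i => c (nthN pl i)) r 14 = c (nthN pl 2) * (c (nthN pl 1) * c (nthN pl 0)) ∧
    io d (fun i => c (nthN pl i)) r 15 = c (nthN pl 2) * (c (nthN pl 1) * (c (nthN pl 0) * d)) := by
  have k : ∀ v < 16, io d (fun i => c (nthN pl i)) r v = io d (fun i => c (nthN pl i)) 3 v :=
    fun v hv => io_small d _ hv h.ok.2.1
  rw [k 1 (by decide), k 2 (by decide), k 3 (by decide), k 6 (by decide), k 7 (by decide),
    k 14 (by decide), k 15 (by decide)]
  exact ⟨rfl, mul_one _, rfl, congrArg _ (mul_one _), rfl, congrArg _ (congrArg _ (mul_one _)), rfl⟩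

variable {tab : ℕ → ℕ} {gw gp : List (List ℕ)} {k : ℕ}
  (hg : (allLt k fun j => R.nrmOk r pl (nthW gw j) (nthN (nthW gp j))) = true)
  (hd : RAll (dsV tab vs gp k r) 0 (2 ^ (r + 1)))
include hg hd

theorem desc {v : ℕ} (hv : v < 2 ^ (r + 1)) : v = 0 ∧ tab v &&& 7 = 6 ∨ tab v &&& 7 < 6 ∧
    ∃ g ∈ centralizer {d}, J g (io d (fun i => c (nthN pl i)) r v) =
      io d (fun i => c (nthN pl i)) r (nthN rp (tab v &&& 7)) := by
  induction e : tab v >>> 6 using Nat.strong_induction_on generalizing v with | _ m ih => ?_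
  have := hd v (Nat.zero_le _) hv
  simp only [dsV, frc_eq, Bool.cond_eq_ite, Bool.ite_eq_true_distrib, Bool.and_eq_true, nbeq_iff, Nat.blt_eq,
    Nat.land_eq, Nat.shiftRight_eq] at this
  split_ifs at this with h0 h1
  · exact .inl ⟨h0, this⟩
  · exact .inr ⟨this.1, 1, one_mem _, by rw [J_one, ← this.2]⟩
  obtain ⟨a, b, q1, q2⟩ := this
  obtain ⟨m1, m2⟩ := h.nrm (allLt_iff.1 hg _ b)
  rcases ih _ (e ▸ q1) (m2 v).1 rfl with q | ⟨-, g, hg', q⟩
  · omega
  · exact .inr ⟨a, g * _, mul_mem hg' (inv_mem m1), by rw [J_mul, (m2 v).2, q, q2]⟩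

theorem inj {u v : ℕ} (hu : u < 2 ^ (r + 1)) (hv : v < 2 ^ (r + 1))
    (e : io d (fun i => c (nthN pl i)) r u = io d (fun i => c (nthN pl i)) r v) : u = v := by
  rcases h.desc hg hd (Nat.xor_lt_two_pow hu hv) with q | ⟨q, g, -, e'⟩
  · exact Nat.xor_eq_zero_iff.1 q.1
  exfalso
  rw [h.xor, e, h.el _ (io_mem dA h.eA v), J_map_one] at e'
  obtain ⟨r1, r2, r3, r6, r7, r14, -⟩ := h.rep
  have cl := h.lab.clOk h.ok.2.2.2
  have z : ∀ x, 1 = x * d → x ∈ centralizer (Im R c) := fun x e =>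
    eq_inv_of_mul_eq_one_left e.symm ▸ inv_mem h.dz
  have n1 := h.lev.prod_ne (cl.sublist (l' := [c (nthN pl 0)]) (by simp)) (by simp) (by simp)
  have n2 := h.lev.prod_ne (cl.sublist (l' := [c (nthN pl 1), c (nthN pl 0)]) (by simp)) (by simp) (by simp)
  have n3 := h.lev.prod_ne cl (by simp) (by simp)
  simp only [List.map_cons, List.map_nil, List.prod_cons, List.prod_nil, mul_one] at n1 n2 n3
  generalize tab (u ^^^ v) &&& 7 = j at *
  interval_cases j
  exacts [h.ne (e'.trans r1).symm, n1 (e'.trans r2 ▸ one_mem _), n1 (z _ (e'.trans r3)),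
    n2 (e'.trans r6 ▸ one_mem _), n2 (z _ ((e'.trans r7).trans (mul_assoc _ _ _).symm)),
    n3 (e'.trans r14 ▸ one_mem _)]

theorem ncard (q : ℕ → Prop) : (io d (fun i => c (nthN pl i)) r '' {v | v < 2 ^ (r + 1) ∧ q v}).ncard =
    {v | v < 2 ^ (r + 1) ∧ q v}.ncard :=
  Set.InjOn.ncard_image fun _ hu _ hv => h.inj hg hd hu.1 hv.1

theorem card : Nat.card (AA d (pl.map c)) = 2 ^ (r + 1) := by
  have := h.ncard hg hd fun _ => True
  simp only [and_true] at this
  rw [← Set.ncard_Iio_nat (2 ^ (r + 1)), ← show _ = (Set.Iio _).ncard from this]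
  exact congrArg Set.ncard (Set.ext fun _ => h.mem.trans (by simp [eq_comm]))

theorem om (ho : omOk tab (2 ^ (r + 1)) = true) (W : Set G)
    (hW : ∀ g ∈ centralizer {d}, ∀ x ∈ W, J g x ∈ W) (w0 : d ∈ W) (w1 : 1 ∉ W)
    (w2 : ∀ x ∈ pl.map c, ∀ y ∈ pl.map c, x * y ∉ W)
    (w3 : ∀ x ∈ AA d (pl.map c), x ∈ W → FF (AA d (pl.map c)) W x = FF (AA d (pl.map c)) W d) :
    (∀ x ∈ AA d (pl.map c), x ∈ W → x = d ∨ x ∈ Im R c) ∨
      ∀ x ∈ AA d (pl.map c), x ∈ W → x = d ∨ d * x ∈ Im R c := by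
  classical
  obtain ⟨r1, r2, r3, r6, -⟩ := h.rep
  obtain ⟨S, hS, b⟩ : ∃ S < 64, ∀ j, tb S j = true ↔ j < 6 ∧ io d (fun i => c (nthN pl i)) r (nthN rp j) ∈ W :=
    ⟨Nat.ofBits fun j : Fin 6 => decide (io d (fun i => c (nthN pl i)) r (nthN rp j) ∈ W),
      Nat.ofBits_lt_two_pow _, fun j => by rw [tb_eq, Nat.testBit_ofBits]; split <;> simp [*]⟩
  have m : ∀ v < 2 ^ (r + 1), io d (fun i => c (nthN pl i)) r v ∈ W ↔ tb S (tab v &&& 7) = true :=
    fun v hv => by
    rcases h.desc hg hd hv with ⟨rfl, q⟩ | ⟨q, g, hg', e⟩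
    · rw [b, q, show io d _ r 0 = 1 from io_and d _ r 0]; simp [w1]
    · rw [b, ← e]
      exact ⟨fun k => ⟨q, hW g hg' _ k⟩, fun k => by simpa using hW _ (inv_mem hg') _ k.2⟩
  have F : ∀ u < 2 ^ (r + 1), FF (AA d (pl.map c)) W (io d (fun i => c (nthN pl i)) r u) =
      cntS tab (2 ^ (r + 1)) S u := fun u hu => by
    rw [cntS, ← cntA_eq, ← h.ncard hg hd, FF]
    congr 1
    ext p
    simp only [Bool.and_eq_true, Nat.land_eq, Nat.xor_eq]
    refine ⟨fun ⟨a, b, e⟩ => ?_, ?_⟩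
    · obtain ⟨v, hv, rfl⟩ := h.mem.1 a
      exact ⟨v, ⟨hv, (m v hv).1 b, (m _ (Nat.xor_lt_two_pow hv hu)).1 (h.xor v u ▸ e)⟩, rfl⟩
    · rintro ⟨v, ⟨hv, b, e⟩, rfl⟩
      exact ⟨io_mem dA h.eA v, (m v hv).2 b, h.xor v u ▸ (m _ (Nat.xor_lt_two_pow hv hu)).2 e⟩
  have p16 : 16 ≤ 2 ^ (r + 1) := Nat.pow_le_pow_right two_pos (show 4 ≤ r + 1 from Nat.succ_le_succ h.ok.2.1)
  have p0 : ∀ i < 3, c (nthN pl i) ∈ pl.map c := fun i hi =>
    List.mem_map_of_mem (nthN_mem (by have := h.ok.2; omega))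
  have key : ∀ x ∈ AA d (pl.map c), x ∈ W → ∃ j, tb S j = true ∧ (j = 0 → x = d) ∧
      (j = 1 → x ∈ Im R c) ∧ (j = 2 → d * x ∈ Im R c) := fun x hx xW => by
    obtain ⟨v, hv, rfl⟩ := h.mem.1 hx
    refine ⟨_, (m v hv).1 xW, ?_⟩
    rcases h.desc hg hd hv with ⟨-, q⟩ | ⟨-, g, hg', e⟩
    · omega
    have c0 := J_of_commute (mem_cent1.1 (inv_mem hg'))
    have c1 := h.lab.J_mem (h.top ▸ inv_mem hg') _ (h.mx.1.mem _ (p0 0 (by decide)))
    replace e := (J_inv_J g _).symm.trans (congrArg (J g⁻¹) e)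
    refine ⟨fun q => ?_, fun q => ?_, fun q => ?_⟩ <;> rw [e, q]
    · exact (congrArg _ r1).trans c0
    · exact (congrArg (J g⁻¹) r2).symm ▸ c1
    · rwa [show nthN rp 2 = 3 from rfl, r3, J_map_mul, c0, (h.cen (subset_closure c1)).eq, ← mul_assoc,
        h.sq, one_mul]
  have := allLt_iff.1 ho S hS
  simp only [Bool.or_eq_true, Bool.not_eq_true', nbeq_iff, frc_eq, anyLt_iff, Bool.and_eq_true,
    nbeq_false] at this
  have t : ∀ j, tb 1 j = true ∨ tb 3 j = true → j = 0 ∨ j = 1 := fun j k => by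
    by_contra! q
    obtain ⟨j, rfl⟩ : ∃ i, j = i + 2 := ⟨j - 2, by omega⟩
    simp [tb_eq, Nat.testBit_succ] at k
  rcases this with ((((q | q) | rfl) | rfl) | rfl) | ⟨j, hj, q, e⟩
  · exact absurd ((b 0).2 ⟨by decide, r1.symm ▸ w0⟩) (by simp [q])
  · exact absurd (r6 ▸ ((b 3).1 q).2) (w2 _ (p0 1 (by decide)) _ (p0 0 (by decide)))
  · exact .inl fun x hx xW => (key x hx xW).elim fun j k => (t j (.inl k.1)).imp k.2.1 k.2.2.1
  · exact .inl fun x hx xW => (key x hx xW).elim fun j k => (t j (.inr k.1)).imp k.2.1 k.2.2.1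
  · refine .inr fun x hx xW => (key x hx xW).elim fun j k => Or.imp k.2.1 k.2.2.2 ?_
    have := ((b j).1 k.1).1
    have := k.1
    interval_cases j <;> simp_all [tb]
  · have lt : nthN rp j < 2 ^ (r + 1) := ((by decide : ∀ j < 6, nthN rp j < 16) j hj).trans_le p16
    rw [← F _ lt, ← F 1 (by omega), r1] at e
    exact absurd (w3 _ (io_mem dA h.eA _) ((b j).1 q).2) e

theorem three (k3 : (allLt (pl.length + 1) fun i => allLt (pl.length + 1) fun j =>
      !Nat.beq (Nat.xor (nthN (1 :: (List.range pl.length).map vs) i)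
        (nthN (1 :: (List.range pl.length).map vs) j)) 15) = true) :
    ∃ x ∈ pl.map c, ∃ y ∈ pl.map c, ∃ z ∈ pl.map c, x ≠ y ∧
      ∀ p ∈ d :: pl.map c, ∀ q ∈ d :: pl.map c, d * (x * y) * z ≠ p * q := by
  have p0 : ∀ i < 3, c (nthN pl i) ∈ pl.map c := fun i hi =>
    List.mem_map_of_mem (nthN_mem (by have := h.ok.2; omega))
  have v : ∀ p ∈ d :: pl.map c, ∃ u ∈ 1 :: (List.range pl.length).map vs, u < 2 ^ (r + 1) ∧
      p = io d (fun i => c (nthN pl i)) r u := fun p hp => by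
    rcases List.mem_cons.1 hp with rfl | hp
    · exact ⟨1, List.mem_cons_self, Nat.one_lt_two_pow (by omega), h.rep.1.symm⟩
    · obtain ⟨y, hy, rfl⟩ := List.mem_map.1 hp
      obtain ⟨j, hj, rfl⟩ := exists_nthN hy
      exact ⟨_, List.mem_cons_of_mem _ (List.mem_map_of_mem (List.mem_range.2 hj)), h.rel j hj⟩
  have nd := (h.lab.clOk h.ok.2.2.2).nd
  refine ⟨_, p0 2 (by decide), _, p0 1 (by decide), _, p0 0 (by decide), fun e => by simp [e] at nd,
    fun p hp q hq e => ?_⟩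
  obtain ⟨u, hu, lu, rfl⟩ := v p hp
  obtain ⟨w, hw, lw, rfl⟩ := v q hq
  obtain ⟨i, hi, rfl⟩ := exists_nthN hu
  obtain ⟨j, hj, rfl⟩ := exists_nthN hw
  have := allLt_iff.1 (allLt_iff.1 k3 i (by simpa using hi)) j (by simpa using hj)
  rw [Bool.not_eq_true', nbeq_false] at this
  refine this (h.inj hg hd (Nat.xor_lt_two_pow lu lw) ((by decide : 15 < 2 ^ 4).trans_le
    (Nat.pow_le_pow_right two_pos (Nat.succ_le_succ h.ok.2.1))) ?_)
  have a := fun i hi => h.mx.1.mem _ (p0 i hi)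
  rw [Nat.xor_eq, h.xor, ← e, h.rep.2.2.2.2.2.2, mul_assoc, ← (h.cen (mul_mem (mul_mem (subset_closure (a 2 (by decide)))
    (subset_closure (a 1 (by decide)))) (subset_closure (a 0 (by decide))))).eq]
  simp only [mul_assoc]

end Cq

end Cfsg.Agent.H19
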