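import Cfsg.Agent.H19.MT5

/-! # Groups of type `M̃(22)` and `M̃(23)` -/

set_option autoImplicit false
set_option maxRecDepth 100000
set_option maxHeartbeats 400000

namespace Cfsg.Agent.H19

open Cfsg.Agent.H14 Cfsg.Agent.H15 Subgroup MT

variable {G : Type*} [Group G] [Finite G] {d : G} {c : ℕ → G}

theorem card_le_mul {B A : Subgroup G} {W : ℕ → G} {I : Set ℕ} (f : I.Finite)
    (k : ∀ b ∈ B, ∃ j ∈ I, ∃ a ∈ A, b = a * W j) (k' : ∀ j ∈ I, ∃ a ∈ A, a * W j ∈ B) :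
    Nat.card B ≤ I.ncard * Nat.card ↥(B ⊓ A) := by
  choose! a ha hb using k'
  have := f.to_subtype
  rw [← Nat.card_coe_set_eq, ← Nat.card_prod]
  refine Nat.card_le_card_of_surjective
    (fun p : I × ↥(B ⊓ A) => (⟨p.2 * (a p.1 * W p.1), mul_mem p.2.2.1 (hb _ p.1.2)⟩ : B)) fun b => ?_
  obtain ⟨j, hj, u, hu, e⟩ := k b b.2
  exact ⟨(⟨j, hj⟩, ⟨b * (a j * W j)⁻¹, mem_inf.2 ⟨mul_mem b.2 (inv_mem (hb j hj)), by
    simpa [e, mul_assoc] using mul_mem hu (inv_mem (ha j hj))⟩⟩), Subtype.ext (inv_mul_cancel_right _ _)⟩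

theorem ja0 (h : Cq 0 RU 9 pl0 vs0 d c) (cd : Nat.card (centralizer ({d} : Set G)) = 2 * 9196830720) :
    ∀ B ≤ centralizer {d}, El B → 2 ^ 10 ≤ Nat.card B → ∃ g ∈ centralizer {d}, B ≤ cm g (AA d (pl0.map c)) := by
  set A := AA d (pl0.map c)
  set ι := io d (fun i => c (nthN pl0 i)) 9
  have t1 := fun j hj => Bool.and_eq_true_iff.1 (allLt_iff.1 s1 j hj)
  have nr : ∀ j < 64, lprod c (PW j) ∈ centralizer {d} ∧ ∀ v, LL j v < 2 ^ (9 + 1) ∧
      J (lprod c (PW j))⁻¹ (ι v) = ι (LL j v) := fun j hj => h.nrm (t1 j hj).2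
  have inj : ∀ u v, u < _ → v < _ → ι u = ι v → u = v := fun u v => h.inj gn0 ds0
  have mA : ∀ v, ι v ∈ A := io_mem Cq.dA h.eA
  have nA : ∀ j < 64, ∀ a ∈ A, J (lprod c (PW j)) a ∈ A := fun j hj =>
    inv_mem_iff (H := nrm (A : Set G)).1 fun a ha => by
      obtain ⟨v, -, rfl⟩ := h.mem.1 ha
      exact ((nr j hj).2 v).2 ▸ mA _
  have act : ∀ j < 64, ∀ a ∈ A, ∀ v, J (a * lprod c (PW j))⁻¹ (ι v) = ι (LL j v) := fun j hj a ha v => by
    rw [mul_inv_rev, J_mul, J_of_commute (h.el.cm (inv_mem ha) (mA v)), ((nr j hj).2 v).2]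
  let X : Set G := {g | ∃ j < 64, ∃ a ∈ A, g = a * lprod c (PW j)}
  have xs : ∀ i < 4, lprod c (nthW sw i) ∈ rst X := by
    rintro i hi _ ⟨j, hj, a, ha, rfl⟩
    have := allLt_iff.1 (allLt_iff.1 s2 j hj) i hi
    rw [frc_eq, Bool.and_eq_true, Nat.blt_eq] at this
    generalize ct (j * 4 + i) = e at this
    have ok := (Bool.and_eq_true_iff.1 (t1 _ this.1).2).1
    have z := h.lab.trivP this.2
    rw [← lprod_eq_map, lprod_append, lprod_append, lprod_append,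
      lprod_reverse fun a ha => h.lab.sq a (okW_iff.1 ok a ha)] at z
    have z : _ ∈ A := (h.zc _ z).elim (fun q => q ▸ one_mem _) fun q => q ▸ Cq.dA
    have w : lprod c (wrd (nthN pl0) 9 (e / 64)) ∈ A := lprod_mem fun x hx => by
      obtain ⟨i, hi, rfl⟩ := wrd_mem hx
      exact h.eA i hi
    exact ⟨_, this.1, _, mul_mem ha (mul_mem z (inv_mem w)), by group⟩
  have x1 : (1 : G) ∈ X := ⟨0, by decide, 1, one_mem _, (one_mul _).symm⟩
  have xA : A ≤ rst X := by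
    rintro u hu _ ⟨j, hj, a, ha, rfl⟩
    exact ⟨j, hj, _, mul_mem ha (nA j hj u hu), by simp [J, mul_assoc]⟩
  have mS : ∀ g, g ∈ rst X ↔ g ∈ X := fun g => ⟨fun k => by simpa using k 1 x1, by
    rintro ⟨j, hj, a, ha, rfl⟩
    exact mul_mem (xA ha) (by
      rw [PW, lprod_subst]; exact lprod_mem fun i hi => xs i (okW_iff.1 (t1 j hj).1 i hi))⟩
  have vl : ∀ i < 9, vs0 i < 2 ^ (9 + 1) := by decide +kernel
  have cS : Nat.card (rst X) = 2 ^ 16 := by
    rw [← Nat.card_eq_of_bijective (fun p : A × Fin 64 => (⟨p.1 * lprod c (PW p.2),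
      (mS _).2 ⟨_, p.2.2, _, p.1.2, rfl⟩⟩ : rst X)) ⟨?_, fun g => ?_⟩, Nat.card_prod, h.card gn0 ds0]
    · simp
    · rintro ⟨a, j⟩ ⟨a', k⟩ e
      replace e : a * lprod c (PW j) = a' * lprod c (PW k) := congrArg Subtype.val e
      have := allLt_iff.1 (allLt_iff.1 s3 j j.2) k k.2
      simp only [Bool.or_eq_true, nbeq_iff, anyLt_iff, Bool.not_eq_true', nbeq_false] at this
      obtain rfl : j = k := Fin.ext (this.resolve_right fun ⟨i, _, n⟩ => n (inj _ _ ((nr j j.2).2 _).1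
        ((nr k k.2).2 _).1 (by rw [← act j j.2 a a.2, e, act k k.2 a' a'.2])))
      rw [Subtype.ext (mul_right_cancel e)]
    · obtain ⟨j, hj, a, ha, e⟩ := (mS g).1 g.2
      exact ⟨(⟨a, ha⟩, ⟨j, hj⟩), Subtype.ext e.symm⟩
  have SK : rst X ≤ centralizer {d} := fun g hg => by
    obtain ⟨j, hj, a, ha, rfl⟩ := (mS g).1 hg
    exact mul_mem (h.le ha) (nr j hj).1
  intro B0 le el0 c0
  obtain ⟨g, hg, q⟩ := conj_into (K := centralizer {d}) (IsPGroup.of_card cS) (by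
    have := card_mul_index ((rst X).subgroupOf (centralizer {d}))
    rw [Nat.card_congr (subgroupOfEquivOfLe SK).toEquiv, cS, cd, ← relIndex] at this
    omega) el0.pg le
  refine ⟨g, hg, fun x hx => mem_cm.2 ?_⟩
  have el := el0.cm' g⁻¹
  rw [← card_cm g⁻¹] at c0
  have BS : ∀ b ∈ cm g⁻¹ B0, b ∈ X := fun b hb => (mS b).1 (by simpa using mem_cm.1 (q (mem_cm.1 hb)))
  have hb : J g x ∈ cm g⁻¹ B0 := mem_cm.2 (by simpa using hx)
  generalize J g x = b at hb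
  generalize cm g⁻¹ B0 = B at *
  obtain ⟨j, hj, a, ha, rfl⟩ := BS b hb
  let I : Set ℕ := {j | j < 64 ∧ ∃ a ∈ A, a * lprod c (PW j) ∈ B}
  have up := card_le_mul (B := B) (A := A) (W := fun j => lprod c (PW j)) (I := I)
    ((Set.finite_lt_nat 64).subset fun _ k => k.1) (fun b hb => by
      obtain ⟨j, hj, a, ha, rfl⟩ := BS b hb
      exact ⟨j, ⟨hj, a, ha, hb⟩, a, ha, rfl⟩) fun j hj => hj.2
  have iv : ∀ j ∈ I, j ∈ flt invo (rng 64) := fun j ⟨hj, a, ha, k⟩ => mem_flt (mem_rng hj)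
    (allLt_iff.2 fun i hi => nbeq_iff.2 (inj _ _ ((nr j hj).2 _).1 (vl i hi) (by
      rw [← act j hj a ha, ← act j hj a ha, ← J_mul, ← mul_inv_rev, el _ k, inv_one, J_one])))
  have fx : ∀ l : List ℕ, (∀ v < 1024, (∀ j ∈ I, Nat.beq (LL j v) v = true) → v ∈ l) →
      Nat.card ↥(B ⊓ A) ≤ l.length := fun l k => by
    refine (ncard_le_length (l := l.map ι) fun x hx => ?_).trans (by simp)
    obtain ⟨v, hv, rfl⟩ := h.mem.1 hx.2
    exact List.mem_map_of_mem (k v hv fun j ⟨hj, a, ha, m⟩ => nbeq_iff.2 (inj _ _ ((nr j hj).2 _).1 hv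
      ((act j hj a ha v).symm.trans (J_of_commute (el.cm (inv_mem m) hx.1)))))
  have jI : j ∈ I := ⟨hj, a, ha, hb⟩
  have := s4
  simp only [frcL_eq, Bool.and_eq_true, Nat.ble_eq, allL_iff, Bool.or_eq_true, nbeq_iff] at this
  obtain ⟨i28, this⟩ := this
  rcases this j (iv j jI) with rfl | ⟨f64, i15⟩
  · exact mul_mem ha (one_mem _)
  exfalso
  by_cases q : ∃ k ∈ I, (flt (fun v => Nat.beq (LL k v) v)
      (flt (fun v => Nat.beq (LL j v) v) (rng 1024))).length ≤ 32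
  · obtain ⟨k, hk, q⟩ := q
    have := Nat.mul_le_mul ((ncard_le_length iv).trans i28)
      ((fx _ fun v hv m => mem_flt (mem_flt (mem_rng hv) (m j jI)) (m k hk)).trans q)
    omega
  · have := Nat.mul_le_mul ((ncard_le_length fun k hk => mem_flt (iv k hk)
      (Nat.blt_eq.mpr (not_le.1 fun e => q ⟨k, hk, e⟩))).trans i15)
      ((fx _ fun v hv m => mem_flt (mem_rng hv) (m j jI)).trans f64)
    omega

theorem Cq.js {n r k : ℕ} {R : Raw} {pl : List ℕ} {vs tab : ℕ → ℕ} {gw gp : List (List ℕ)}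
    (h : Cq n R r pl vs d c) (hg : (allLt k fun j => R.nrmOk r pl (nthW gw j) (nthN (nthW gp j))) = true)
    (hd : RAll (dsV tab vs gp k r) 0 (2 ^ (r + 1))) (ja : ∀ B ≤ centralizer {d}, El B →
      2 ^ (r + 1) ≤ Nat.card B → ∃ g ∈ centralizer {d}, B ≤ cm g (AA d (pl.map c))) :
    JS (centralizer {d}) (Im R c) d (pl.map c) (r + 1) :=
  ⟨h.lev.t3, fun _ hx => h.top ▸ subset_closure hx, fun _ hk => h.lab.J_mem (h.top ▸ hk),
    mem_cent1.2 (Commute.refl d), fun _ => mem_cent1.1, h.sq, h.mx, h.card hg hd, ja⟩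

/-- a double cover as the centraliser of an involution -/
structure Cv (R' R : Raw) (π : ℕ → ℕ) (N : ℕ) (d : G) (c : ℕ → G) : Prop where
  lab : Lab R' c
  t3 : T3 (Im R' c)
  top : closure (Im R' c) = centralizer {d}
  sq : d * d = 1
  ne : d ≠ 1
  zc : ∀ u ∈ centralizer (Im R' c), u = 1 ∨ u = d
  card : Nat.card (centralizer ({d} : Set G)) = 2 * N
  ex : Exa R' R π d c

omit [Finite G] in
theorem Cov2.cv {R' R : Raw} {π : ℕ → ℕ} {N : ℕ} {hd : d ∈ centralizer {d}}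
    {c : ℕ → centralizer ({d} : Set G)} (h : Cov2 R' N ⟨d, hd⟩ c) (ex : Exa R' R π ⟨d, hd⟩ c) :
    Cv R' R π N d fun x => c x := by
  have i : (Im R' fun x => (c x : G)) = (centralizer {d}).subtype '' Im R' c := Set.image_comp _ c _
  have t : closure (Im R' fun x => (c x : G)) = centralizer {d} := by
    rw [i, ← MonoidHom.map_closure, h.top, ← MonoidHom.range_eq_map, range_subtype]
  refine ⟨h.lab.map (centralizer {d}).subtype fun _ _ _ _ e => Subtype.ext e,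
    i ▸ h.t3.image _ fun x hx e => h.t3.ne x hx (Subtype.ext e), t, congrArg Subtype.val h.sq,
    fun e => h.ne (Subtype.ext e), fun u hu => ?_, h.card, fun w ε a b => ?_⟩
  · have m : u ∈ centralizer {d} := mem_cent1.2 (zc_mul_comm (t.ge hd) hu)
    exact (h.zc ⟨u, m⟩ (zc_iff.2 (by
      rintro _ ⟨x, hx, rfl⟩; exact Subtype.ext (zc_iff.1 hu _ (mem_Im hx)).eq))).imp
        (congrArg Subtype.val) (congrArg Subtype.val)
  · have := congrArg (centralizer {d}).subtype (ex w ε a b)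
    rw [map_list_prod, List.map_map] at this
    exact this.trans (by cases ε <;> rfl)

theorem FG.cv {n : ℕ} {R' R : Raw} {π : ℕ → ℕ} (l : Lab R c) (f : FG (n + 1) (Im R c)) (h0 : 0 < R.n)
    (s : Lab R' (fun x => c (π x)) ∧ Im R' (fun x => c (π x)) = Dd (Im R c) (c 0)) :
    Cv R' R π (Nat.card (Qt (Dd (Im R c) (c 0)))) (c 0) fun x => c (π x) :=
  have m := mem_Im (c := c) h0
  ⟨s.1, s.2 ▸ (f.lev.loc m).t3, s.2 ▸ f.cent_eq m, l.sq 0 h0, f.pg.ne _ m, fun u hu =>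
    f.zc m (zc_mul_comm (f.self_mem m) (s.2 ▸ hu)) (s.2 ▸ hu), f.cent_eq m ▸ (f.card_dd m).1,
    l.exa (fun _ => f.one) h0 π⟩

omit [Finite G] in
theorem Cv.cq0 {N : ℕ} (h : Cv RU R22 (· + 1) N d c) : Cq 0 RU 9 pl0 vs0 d c :=
  ⟨h.lab, .zero ⟨c, h.lab, rfl⟩, h.top, h.sq, h.ne, h.zc, h.lab.mx (by decide +kernel) mx0,
    by decide +kernel, h.ex.rel h.lab h.sq rel0⟩

omit [Finite G] in
theorem Cv.cq1 {N : ℕ} (h : Cv R22 R23 beta N d c) : Cq 1 R22 10 pl1 vs1 d c :=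
  ⟨h.lab, lev22 h.t3 ⟨c, h.lab, rfl⟩, h.top, h.sq, h.ne, h.zc, h.lab.mx (by decide +kernel) mx1,
    by decide +kernel, h.ex.rel h.lab h.sq rel1⟩

theorem Cv.ls0 (h : Cv RU R22 (· + 1) 9196830720 d c) : LS 0 d (Im RU c) (pl0.map c) :=
  have q := h.cq0
  ⟨q.lev, q.lev.inv0, h.top, h.zc, h.ne, q.js gn0 ds0 (ja0 q h.card),
    ⟨_, h.lab.clOk (l := [0, 10, 13, 17, 130, 142]) (by decide +kernel), ⟨3, rfl⟩,
      h.ex _ true (by decide +kernel) (by decide +kernel)⟩,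
    q.three gn0 ds0 (by decide +kernel), q.om gn0 ds0 om0⟩

theorem js22 (l : Lab R22 c) (f : FG 1 (Im R22 c)) : JS ⊤ (Im R22 c) 1 (pl1.map c) 10 := by
  have m0 : c 0 ∈ Im R22 c := mem_Im (by decide)
  have h := f.cv l (by decide) (subU l)
  rw [cardU (f.lev.loc m0).lb] at h
  exact f.up22 m0 ((subU l).2 ▸ h.ls0.js)

theorem Cv.ls1 {N : ℕ} (h : Cv R22 R23 beta N d c) : LS 1 d (Im R22 c) (pl1.map c) := by
  have q := h.cq1
  refine ⟨q.lev, q.lev.inv1, h.top, h.zc, h.ne, q.js gn1 ds1 ?_,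
    ⟨_, h.lab.clOk (l := [0, 1, 11, 45, 629, 634]) (by decide +kernel), ⟨3, rfl⟩,
      h.ex _ true (by decide +kernel) (by decide +kernel)⟩,
    q.three gn1 ds1 (by decide +kernel), q.om gn1 ds1 om1⟩
  have : Finite Spor.Fi22 := Nat.finite_of_card_ne_zero (by rw [Fi22.card]; norm_num)
  obtain ⟨c2, l2, f⟩ := model22
  obtain ⟨e, k⟩ := h.lab.qt_model l2 f.pg.top f.z
  rw [← h.top]
  refine ja_lift (e.toMonoidHom.comp (QuotientGroup.mk' _)) (e.surjective.comp (QuotientGroup.mk'_surjective _))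
    (fun u hu => h.zc _ (mem_center_closure.1
      ((QuotientGroup.eq_one_iff _).1 ((MulEquiv.map_eq_one_iff e).1 hu)))) (js22 l2 f) fun y hy => ?_
  obtain ⟨x, hx, rfl⟩ := List.mem_map.1 hy
  exact ⟨_, List.mem_map_of_mem hx, k x (okW_iff.1 q.ok.1 x hx)⟩

theorem js23 (l : Lab R23 c) (f : FG 2 (Im R23 c)) : ∃ X, JS ⊤ (Im R23 c) 1 X 11 :=
  ⟨_, f.up23 (mem_Im (by decide)) ((sub22 l).2 ▸ (f.cv l (by decide) (sub22 l)).ls1.js)⟩

theorem JS.th {D : Set G} {l : List G} {r : ℕ} (h : JS ⊤ D 1 l r) (T : Sylow 2 G) :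
    closure {x | x ∈ D ∧ x ∈ T.1} = thompsonSubgroupOf 2 T.1 := by
  obtain ⟨g, a, b, k⟩ := h.top T
  refine b.symm.trans (thompson_map T.1.subtype_injective (by rwa [range_subtype]) (h.el.cm' g)
    fun B le el q => k B (by rwa [range_subtype] at le) el (by rwa [card_cm, h.card] at q)).symm

section
variable (hd : orderOf d = 2) (hq : IsQuasisimple (centralizer ({d} : Set G)))
  [((zpowers d).subgroupOf (centralizer ({d} : Set G))).Normal]
include hd hq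

theorem cov2_cent {Q : Type*} [Group Q] {R : Raw} {N : ℕ} {c : ℕ → Q} (l : Lab R c)
    (k : LiftOk (Im R c)) (hN : Nat.card Q = N)
    (e : centralizer ({d} : Set G) ⧸ (zpowers d).subgroupOf (centralizer ({d} : Set G)) ≃* Q) :
    ∃ (m : d ∈ centralizer {d}) (c' : ℕ → centralizer ({d} : Set G)), Cov2 R N ⟨d, m⟩ c' ∧
      Cov2 R N ⟨d, m⟩ fun x => ⟨d, m⟩ * c' x := by
  have m : d ∈ centralizer {d} := mem_cent1.2 (Commute.refl d)
  refine ⟨m, cov2_of l k hN (e.toMonoidHom.comp (QuotientGroup.mk' _))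
    (e.surjective.comp (QuotientGroup.mk'_surjective _)) ?_ ((orderOf_coe _).symm.trans hd)
    (mem_center_iff.2 fun g => Subtype.ext (mem_cent1.1 g.2).eq) hq.1.commutator_eq_top⟩
  ext x
  rw [MonoidHom.mem_ker, MonoidHom.comp_apply, MulEquiv.toMonoidHom_eq_coe, MonoidHom.coe_coe,
    MulEquiv.map_eq_one_iff, QuotientGroup.mk'_apply, QuotientGroup.eq_one_iff, mem_subgroupOf]
  exact ⟨fun ⟨i, q⟩ => ⟨i, Subtype.ext q⟩, fun ⟨i, q⟩ => ⟨i, congrArg Subtype.val q⟩⟩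

variable (hn : ∃ g : G, g * d * g⁻¹ ∈ centralizer ({d} : Set G) ∧ g * d * g⁻¹ ≠ d)
include hn

theorem mt0 {K : Type*} [Field K] [Fintype K] (hK : Fintype.card K = 4)
    (e : centralizer ({d} : Set G) ⧸ (zpowers d).subgroupOf (centralizer ({d} : Set G)) ≃* PSU 6 K 2) :
    ∃ l, LS 0 d (Dd (conjugatesOf d) d) l := by
  obtain ⟨c', l', t, -⟩ := psu_lab hK (MulEquiv.refl _)
  have := psu_simple hK
  have z := center_bot_of_simple (rel_one.1 (l'.rel_of (p := 0) (q := 2) (by decide +kernel)))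
  obtain ⟨e', -⟩ := qt_top t.top z
  obtain ⟨m, c, h, h'⟩ := cov2_cent hd hq l' (liftU l' t z)
    ((Nat.card_congr e'.toEquiv).symm.trans (cardU ⟨c', l', rfl⟩)) e
  obtain ⟨c, h, ex⟩ := dcU h h'
  have k := (h.cv ex).ls0
  rcases k.main1 hn with q | q
  · exact ⟨_, q ▸ k⟩
  exfalso
  have l2 := (h.lab.tw h.sq h.z).map (centralizer {d}).subtype fun _ _ _ _ e => Subtype.ext e
  have i : (Im RU fun x => (centralizer {d}).subtype (⟨d, m⟩ * c x)) = Dd (conjugatesOf d) d :=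
    (Set.image_comp (d * ·) (fun x => (c x : G)) _).trans q.symm
  have cl := (l2.clOk (l := [0, 10, 44, 628, 633]) (by decide +kernel)).mono (i.le.trans fun _ k => k.1)
  obtain ⟨h0, cl⟩ := cl_cons.1 cl
  refine (lev_conj (.zero ⟨_, l2, i⟩) h0).prod_ne cl (by simp) (by simp) ?_
  have p := lprod_tw (e := c) h.z [0, 10, 44, 628, 633] 1
  rw [pow_one, pow_one, lprod_eq_map c, ex _ true (by decide +kernel) (by decide +kernel), cond_true,
    ← pow_succ, show [0, 10, 44, 628, 633].length * 1 + 1 = 2 * 3 from rfl, pow_mul, pow_two, h.sq,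
    one_pow] at p
  replace p := congrArg (centralizer {d}).subtype p
  rw [map_lprod, lprod_cons, map_one, lprod_eq_map] at p
  rw [eq_inv_of_mul_eq_one_right p]
  exact inv_mem (zc_iff.2 fun _ k => k.2.2)

theorem mt1 (e : Spor.IsoFi22 (centralizer ({d} : Set G) ⧸ (zpowers d).subgroupOf (centralizer ({d} : Set G)))) :
    ∃ l, LS 1 d (Dd (conjugatesOf d) d) l := by
  obtain ⟨e⟩ := e
  obtain ⟨c', l', f⟩ := model22
  obtain ⟨m, c, h, h'⟩ := cov2_cent hd hq l' (lift22 l' f) Fi22.card e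
  obtain ⟨c1, h1, i1, ex1⟩ := dc22 h h'
  obtain ⟨c2, h2, i2, ex2⟩ := dc22 h' (by simpa only [← mul_assoc, h.sq, one_mul] using h)
  have k := (h1.cv ex1).ls1
  rcases k.main1 hn with q | q
  · exact ⟨_, q ▸ k⟩
  suffices Dd (conjugatesOf d) d = Im R22 fun x => (c2 x : G) from ⟨_, this ▸ (h2.cv ex2).ls1⟩
  have i : ∀ c : ℕ → centralizer ({d} : Set G),
      (Im R22 fun x => (c x : G)) = (centralizer {d}).subtype '' Im R22 c := fun c => Set.image_comp _ c _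
  rw [q, i, i, i1, i2, ← i, ← i]
  exact (Set.image_comp (d * ·) (fun x => (c x : G)) _).symm

end

theorem LS.fg0 {l : List G} (h : LS 0 d (Dd (conjugatesOf d) d) l) :
    FG 1 (conjugatesOf d) ∧ Spor.IsoFi22 G := by
  have g := h.gs rfl
  obtain ⟨F, _, _, hF⟩ := exists_F4
  have := psu_simple hF
  obtain ⟨p, z⟩ := g.pg fun x hx => (qtU (g.lev x hx).lb hF).elim (good2_of_equiv (psu_not_solvable hF))
  obtain ⟨e, i⟩ := core22 p z fun x hx => (g.lev x hx).lb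
  obtain ⟨c, l, i', -⟩ := M22.lab
  exact ⟨⟨p, z, lev22 p.toT3 ⟨_, (l.equiv e).1, i ▸ i' ▸ (l.equiv e).2⟩⟩, ⟨e.symm⟩⟩

theorem LS.fg1 {l : List G} (h : LS 1 d (Dd (conjugatesOf d) d) l) :
    FG 2 (conjugatesOf d) ∧ Spor.IsoFi23 G := by
  have g := h.gs rfl
  obtain ⟨c2, l2, -⟩ := model22
  have := Fi22.simple
  obtain ⟨p, z⟩ := g.pg fun x hx => (qt22 (g.lev x hx).lb22).elim (good2_of_equiv
    (not_solvable_of_simple (rel_one.1 (l2.rel_of (p := 0) (q := 695) (by decide +kernel)))))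
  obtain ⟨e, i⟩ := core23 p z fun x hx => (g.lev x hx).lb22
  obtain ⟨c, l, i', -⟩ := M23.lab
  exact ⟨⟨p, z, lev23 p.toT3 ⟨_, (l.equiv e).1, i ▸ i' ▸ (l.equiv e).2⟩⟩, ⟨e.symm⟩⟩

omit [Finite G] in
theorem FG.cls {n : ℕ} (h : FG n (conjugatesOf d)) : IsThreeTranspositionClass (conjugatesOf d) :=
  tclass_iff.2 ⟨h.pg.toTG, h.pg.trans, d, IsConj.refl d⟩

omit [Finite G] in
theorem LS.lift {n : ℕ} {E : Set G} {l : List G} (h : LS n d E l)
    [((zpowers d).subgroupOf (centralizer ({d} : Set G))).Normal] :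
    (∀ x : centralizer ({d} : Set G) ⧸ (zpowers d).subgroupOf (centralizer ({d} : Set G)), orderOf x = 2 →
      ∃ y : centralizer ({d} : Set G), orderOf y = 2 ∧ QuotientGroup.mk y = x) ∧ ¬ ∃ g : G, g ^ 2 = d := by
  refine ⟨fun x hx => ?_, fun ⟨g, e⟩ => h.nsq (IsConj.refl d) g ((pow_two g).symm.trans e)⟩
  obtain ⟨y, rfl⟩ := QuotientGroup.mk_surjective x
  refine ⟨y, orderOf_eq_prime ((pow_two y).trans (Subtype.ext (h.sq1 y.2 ?_))) (by
    rintro rfl; simp at hx), rfl⟩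
  exact zpowers_le.2 h.dz ((QuotientGroup.eq_one_iff (y * y)).1 (H20.mul_self_of_orderOf_two hx))

theorem iso22_of (h : ∃ d' : G, orderOf d' = 2 ∧ IsQuasisimple (centralizer ({d'} : Set G)) ∧
    (∃ (K : Type) (_ : Field K) (_ : Fintype K), Fintype.card K = 4 ∧
      ∃ _ : ((zpowers d').subgroupOf (centralizer ({d'} : Set G))).Normal,
        Nonempty (centralizer ({d'} : Set G) ⧸ (zpowers d').subgroupOf (centralizer ({d'} : Set G)) ≃*
          PSU 6 K 2)) ∧ ∃ g, g * d' * g⁻¹ ∈ centralizer ({d'} : Set G) ∧ g * d' * g⁻¹ ≠ d') :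
    Spor.IsoFi22 G := by
  obtain ⟨d, a, b, ⟨K, _, _, hK, _, ⟨e⟩⟩, n⟩ := h
  obtain ⟨l, k⟩ := mt0 a b n hK e
  exact k.fg0.2

end Cfsg.Agent.H19
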