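import Mathlib

/-! Sylow 2-subgroups with elementary abelian abelianization: the group theoretic part. -/

set_option autoImplicit false

namespace Cfsg.Agent.H19.Oc

open scoped commutatorElement Pointwise

/-- squares lie in the derived subgroup -/
def SqD {G : Type*} [Group G] (S : Subgroup G) : Prop := ∀ x ∈ S, x ^ 2 ∈ ⁅S, S⁆

theorem SqD.map {G H : Type*} [Group G] [Group H] {S : Subgroup G} (h : SqD S) (f : G →* H) :
    SqD (S.map f) := by
  rintro _ ⟨x, hx, rfl⟩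
  rw [← Subgroup.map_commutator, ← map_pow]
  exact ⟨_, h x hx, rfl⟩

theorem SqD.commutator {G : Type*} [Group G] {S : Subgroup G} (h : SqD S) (x : S) :
    x ^ 2 ∈ commutator S := by
  have := h x x.2
  rw [← S.map_subtype_commutator] at this
  obtain ⟨y, hy, e⟩ := this
  rwa [show x ^ 2 = y from Subtype.ext e.symm]

theorem sqD_sylow {M R : Type*} [Group M] [Group R] [Finite M] [Finite R] (A : Subgroup M)
    [A.Normal] (hA : ∀ a ∈ A, ∀ b ∈ A, a * b = b * a) (h2 : ∀ x, x ^ 2 ∈ A) (f : M →* R)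
    (hf : ¬ 2 ∣ f.range.index) (hc : ∀ x, ∃ c, ∃ y ∈ A, f (x ^ 2) = f ⁅y, c⁆)
    (P : Sylow 2 R) : SqD (P : Subgroup R) := by
  obtain ⟨S⟩ : Nonempty (Sylow 2 M) := inferInstance
  have hS : ¬ 2 ∣ ((S : Subgroup M).map f).index := by
    rw [Subgroup.index_map]
    intro h
    rcases (Nat.prime_two.dvd_mul).1 h with h | h
    · exact S.not_dvd_index (h.trans (Subgroup.index_dvd_of_le le_sup_left))
    · exact hf h
  obtain ⟨g, rfl⟩ := MulAction.exists_smul_eq R ((S.2.map f).toSylow hS) P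
  refine SqD.map (S := (S : Subgroup M).map f) ?_ (MulAut.conj g).toMonoidHom
  rintro _ ⟨x, hx, rfl⟩
  obtain ⟨c, y, hy, e⟩ := hc x
  have hq : IsPGroup 2 (M ⧸ A) := fun z => ⟨1, by
    obtain ⟨z, rfl⟩ := QuotientGroup.mk_surjective z
    rw [pow_one, ← QuotientGroup.mk_pow, QuotientGroup.eq_one_iff]; exact h2 z⟩
  have ht := (S.mapSurjective (QuotientGroup.mk'_surjective A)).3 (hq.to_subgroup ⊤) le_top
  obtain ⟨d, hd, e1⟩ : (QuotientGroup.mk' A c) ∈ (S : Subgroup M).map (QuotientGroup.mk' A) :=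
    (ht.le (Subgroup.mem_top _) : _)
  have e2 : d⁻¹ * c ∈ A := QuotientGroup.eq.1 e1
  have hN : ∀ a ∈ A, ∀ g, g * a * g⁻¹ ∈ A := fun a ha g => Subgroup.Normal.conj_mem ‹_› a ha g
  have e3 : ∀ a ∈ A, ⁅a, c⁆ = ⁅a, d⁆ := fun a ha => by
    have := hA _ e2 _ (inv_mem ha)
    rw [commutatorElement_def, commutatorElement_def]
    calc a * c * a⁻¹ * c⁻¹ = a * d * (d⁻¹ * c * a⁻¹) * c⁻¹ := by group
      _ = _ := by rw [this]; group
  have e4 : ∀ n : ℕ, ⁅y, d⁆ ^ n = ⁅y ^ n, d⁆ := fun n => by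
    have h1 : Commute y (d * y⁻¹ * d⁻¹) := hA _ hy _ (hN _ (inv_mem hy) d)
    have h3 : ∀ a : M, ⁅a, d⁆ = a * (d * a⁻¹ * d⁻¹) := fun a => by
      rw [commutatorElement_def]; group
    rw [h3, h3, h1.mul_pow, conj_pow, inv_pow]
  obtain ⟨k, hk⟩ := S.2.exists_card_eq
  have hco : Nat.Coprime (S : Subgroup M).index (2 ^ k) :=
    (((Nat.prime_two.coprime_iff_not_dvd).2 S.not_dvd_index).symm).pow_right k
  obtain ⟨u, hu⟩ : ∃ u, (S : Subgroup M).index * u ≡ 1 [MOD 2 ^ k] := by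
    rcases k with _ | k
    · exact ⟨0, by simp [Nat.modEq_one]⟩
    · obtain ⟨u, -, hu⟩ := Nat.exists_mul_mod_eq_one_of_coprime hco (Nat.one_lt_two_pow (by omega))
      exact ⟨u, by rw [Nat.ModEq, hu, Nat.mod_eq_of_lt (Nat.one_lt_two_pow (by omega))]⟩
  set n := (S : Subgroup M).index * u
  have e5 : (x ^ 2) ^ n = x ^ 2 := by
    have : (x ^ 2) ^ 2 ^ k = 1 := by
      have := congrArg Subtype.val (pow_card_eq_one' (x := (⟨x, hx⟩ : (S : Subgroup M)) ^ 2))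
      rwa [hk] at this
    rw [pow_eq_pow_of_modEq hu this, pow_one]
  let B : Subgroup M :=
    { carrier := {a | a ∈ A ∧ a ^ 2 ^ k = 1}
      mul_mem' := fun {a b} ha hb => ⟨mul_mem ha.1 hb.1, by
        rw [Commute.mul_pow (hA _ ha.1 _ hb.1), ha.2, hb.2, one_mul]⟩
      one_mem' := ⟨one_mem _, one_pow _⟩
      inv_mem' := fun {a} ha => ⟨inv_mem ha.1, by rw [inv_pow, ha.2, inv_one]⟩ }
  have : B.Normal := ⟨fun a ha g => ⟨hN _ ha.1 g, by rw [conj_pow, ha.2]; simp⟩⟩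
  have hB : IsPGroup 2 B := fun a => ⟨k, Subtype.ext a.2.2⟩
  have e6 : y ^ n ∈ (S : Subgroup M) := hB.le_sylow_of_normal S ⟨pow_mem hy _, by
    rw [← pow_mul, mul_right_comm, ← hk, Subgroup.index_mul_card, pow_mul, pow_card_eq_one',
      one_pow]⟩
  rw [← map_pow, ← e5, map_pow, e, e3 y hy, ← map_pow, e4, ← Subgroup.map_commutator]
  exact ⟨_, Subgroup.commutator_mem_commutator e6 hd, rfl⟩

end Cfsg.Agent.H19.Oc
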