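import Cfsg.Agent.H19.Oc1

/-! Sylow 2-subgroups of quotients of `{(g₁, g₂) ∈ GL₂ × GL₂ | det g₁ = det g₂}` by scalars. -/

set_option autoImplicit false

namespace Cfsg.Agent.H19.Oc

open scoped commutatorElement
open Matrix

variable (F : Type*) [Field F]

/-- pairs with equal determinant -/
def Gam : Subgroup (GL (Fin 2) F × GL (Fin 2) F) :=
  MonoidHom.ker (GeneralLinearGroup.det.comp (MonoidHom.fst _ _) /
    GeneralLinearGroup.det.comp (MonoidHom.snd _ _) : _ →* Fˣ)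

instance : (Gam F).Normal := MonoidHom.normal_ker _

/-- the element of order four -/
def jj : GL (Fin 2) F := ⟨!![0, -1; 1, 0], !![0, 1; -1, 0], by simp [one_fin_two], by
  simp [one_fin_two]⟩

/-- a reflection -/
def ww : GL (Fin 2) F := ⟨!![1, 0; 0, -1], !![1, 0; 0, -1], by simp [one_fin_two], by
  simp [one_fin_two]⟩

/-- the torus -/
def tT : Subgroup (GL (Fin 2) F) := Subgroup.centralizer {jj F}

/-- the normalizer of the torus -/
def nN : Subgroup (GL (Fin 2) F) where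
  carrier := {g | g * jj F = jj F * g ∨ g * jj F = -(jj F * g)}
  one_mem' := .inl (by simp)
  mul_mem' := by
    rintro a b (ha | ha) (hb | hb)
    exacts [.inl (by rw [mul_assoc, hb, ← mul_assoc, ha, mul_assoc]),
      .inr (by rw [mul_assoc, hb, mul_neg, ← mul_assoc, ha, mul_assoc]),
      .inr (by rw [mul_assoc, hb, ← mul_assoc, ha, neg_mul, mul_assoc]),
      .inl (by rw [mul_assoc, hb, mul_neg, ← mul_assoc, ha, neg_mul, neg_neg, mul_assoc])]
  inv_mem' := by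
    rintro a (ha | ha)
    · exact .inl (by rw [inv_mul_eq_iff_eq_mul, ← mul_assoc, ha, mul_inv_cancel_right])
    · exact .inr (by
        rw [inv_mul_eq_iff_eq_mul, mul_neg, ← mul_assoc, ha, neg_mul, neg_neg,
          mul_inv_cancel_right])

variable {F}

theorem mem_Gam {x : GL (Fin 2) F × GL (Fin 2) F} :
    x ∈ Gam F ↔ (x.1 : Matrix (Fin 2) (Fin 2) F).det = (x.2 : Matrix (Fin 2) (Fin 2) F).det := by
  simp [Gam, div_eq_one, Units.ext_iff]

theorem isT_iff {g : GL (Fin 2) F} : g * jj F = jj F * g ↔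
    ∃ a b, (g : Matrix (Fin 2) (Fin 2) F) = !![a, -b; b, a] := by
  rw [Units.ext_iff, Units.val_mul, Units.val_mul]
  generalize (g : Matrix (Fin 2) (Fin 2) F) = m
  refine ⟨fun h => ⟨m 0 0, m 1 0, ?_⟩, by rintro ⟨a, b, rfl⟩; simp [jj]⟩
  have h1 := congrFun (congrFun h 0) 0
  have h2 := congrFun (congrFun h 0) 1
  simp [jj, mul_apply, vecMul, dotProduct] at h1 h2
  rw [eta_fin_two m]; simp [h1, h2]

theorem isU_iff {g : GL (Fin 2) F} : g * jj F = -(jj F * g) ↔
    ∃ a b, (g : Matrix (Fin 2) (Fin 2) F) = !![a, b; b, -a] := by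
  rw [Units.ext_iff, Units.val_neg, Units.val_mul, Units.val_mul]
  generalize (g : Matrix (Fin 2) (Fin 2) F) = m
  refine ⟨fun h => ⟨m 0 0, m 1 0, ?_⟩, by rintro ⟨a, b, rfl⟩; simp [jj]⟩
  have h1 := congrFun (congrFun h 0) 0
  have h2 := congrFun (congrFun h 0) 1
  simp [jj, mul_apply, vecMul, dotProduct] at h1 h2
  rw [eta_fin_two m]; simp [h1, ← h2]

theorem mem_tT {g : GL (Fin 2) F} :
    g ∈ tT F ↔ ∃ a b, (g : Matrix (Fin 2) (Fin 2) F) = !![a, -b; b, a] := by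
  rw [tT, Subgroup.mem_centralizer_singleton_iff, isT_iff]

theorem mem_nN {g : GL (Fin 2) F} :
    g ∈ nN F ↔ (∃ a b, (g : Matrix (Fin 2) (Fin 2) F) = !![a, -b; b, a]) ∨
      ∃ a b, (g : Matrix (Fin 2) (Fin 2) F) = !![a, b; b, -a] := by
  rw [← isT_iff, ← isU_iff]; rfl

theorem tT_le : tT F ≤ nN F := fun _ h => mem_nN.2 (.inl (mem_tT.1 h))

theorem card_tT [Fintype F] (hF : Odd (Fintype.card F)) :
    (Fintype.card F % 4 = 1 ∧ Nat.card (tT F) = (Fintype.card F - 1) * (Fintype.card F - 1)) ∨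
      (Fintype.card F % 4 = 3 ∧ Nat.card (tT F) = Fintype.card F ^ 2 - 1) := by
  classical
  have h2 : ringChar F ≠ 2 := fun h => by
    have := FiniteField.even_card_iff_char_two.1 h
    obtain ⟨k, hk⟩ := hF; omega
  have h2' : (2 : F) ≠ 0 := Ring.two_ne_zero h2
  have e : Nat.card (tT F) = Nat.card {p : F × F // p.1 ^ 2 + p.2 ^ 2 ≠ 0} := by
    refine (Nat.card_eq_of_bijective (fun p => ⟨GeneralLinearGroup.mkOfDetNeZero
      !![p.1.1, -p.1.2; p.1.2, p.1.1] (by simpa [sq] using p.2), mem_tT.2 ⟨_, _, rfl⟩⟩)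
      ⟨fun p q h => ?_, fun g => ?_⟩).symm
    · have h1 := congrArg (fun g : tT F => (g.1 : Matrix (Fin 2) (Fin 2) F)) h
      exact Subtype.ext (Prod.ext (congrFun (congrFun h1 0) 0) (congrFun (congrFun h1 1) 0))
    · obtain ⟨a, b, h⟩ := mem_tT.1 g.2
      have := g.1.det_ne_zero
      rw [h] at this
      exact ⟨⟨(a, b), by simpa [sq] using this⟩, Subtype.ext (Units.ext h.symm)⟩
  by_cases h : IsSquare (-1 : F)
  · refine .inl ⟨by have := FiniteField.isSquare_neg_one_iff.1 h; obtain ⟨k, hk⟩ := hF; omega, ?_⟩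
    obtain ⟨i, hi⟩ := h
    have hi0 : i ≠ 0 := by rintro rfl; simp at hi
    rw [e, ← Fintype.card_units, ← Fintype.card_prod, ← Nat.card_eq_fintype_card]
    have k : ∀ p : F × F, p.1 ^ 2 + p.2 ^ 2 = (p.1 + i * p.2) * (p.1 - i * p.2) := fun p => by
      linear_combination (-p.2 ^ 2) * hi
    refine Nat.card_eq_of_bijective (fun p => (Units.mk0 _ (left_ne_zero_of_mul (k _ ▸ p.2)),
      Units.mk0 _ (right_ne_zero_of_mul (k _ ▸ p.2)))) ⟨fun p q h => ?_, fun u => ?_⟩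
    · simp only [Prod.mk.injEq, Units.mk0_inj] at h
      refine Subtype.ext (Prod.ext (mul_left_cancel₀ h2' ?_) (mul_left_cancel₀
        (mul_ne_zero h2' hi0) ?_))
      · linear_combination h.1 + h.2
      · linear_combination h.1 - h.2
    · have k1 : ((u.1 : F) + u.2) / 2 + i * ((u.1 - u.2) / (2 * i)) = u.1 := by field_simp; ring
      have k2 : ((u.1 : F) + u.2) / 2 - i * ((u.1 - u.2) / (2 * i)) = u.2 := by field_simp; ring
      exact ⟨⟨((u.1 + u.2) / 2, (u.1 - u.2) / (2 * i)), by rw [k, k1, k2]; simp⟩,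
        Prod.ext (Units.ext k1) (Units.ext k2)⟩
  · refine .inr ⟨by simpa [FiniteField.isSquare_neg_one_iff] using h, ?_⟩
    have k : ∀ p : F × F, p.1 ^ 2 + p.2 ^ 2 ≠ 0 ↔ p ≠ 0 := fun p => by
      refine not_congr ⟨fun h1 => ?_, by rintro rfl; simp⟩
      by_cases h0 : p.2 = 0
      · exact Prod.ext (by simpa [h0] using h1) h0
      · exact (h ⟨p.1 / p.2, by field_simp; linear_combination -h1⟩).elim
    simp only [e, k, Nat.card_eq_fintype_card]
    rw [Fintype.card_subtype_compl, Fintype.card_subtype_eq, Fintype.card_prod, sq]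

theorem index_nN [Fintype F] (hF : Odd (Fintype.card F)) : ¬ 2 ∣ (nN F).index := by
  classical
  have h2 : ringChar F ≠ 2 := fun h => by
    have := FiniteField.even_card_iff_char_two.1 h
    obtain ⟨k, hk⟩ := hF; omega
  have h1 : (tT F).relIndex (nN F) = 2 := by
    refine Subgroup.index_eq_two_iff_exists_notMem_and.2 ⟨⟨ww F, mem_nN.2 (.inr ⟨1, 0, rfl⟩)⟩,
      fun h => ?_, fun g => ?_⟩
    · obtain ⟨a, b, h⟩ := mem_tT.1 h
      have h3 : (1 : F) = a := congrFun (congrFun h 0) 0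
      have h4 : (-1 : F) = a := congrFun (congrFun h 1) 1
      exact Ring.neg_one_ne_one_of_char_ne_two h2 (h4.trans h3.symm)
    · rcases mem_nN.1 g.2 with h | ⟨a, b, h⟩
      · exact .inr (mem_tT.2 h)
      · exact .inl (mem_tT.2 ⟨a, b, by simp [h, ww]⟩)
  have h3 := (tT F).index_mul_card
  rw [← Subgroup.relIndex_mul_index tT_le, h1, card_GL_field, Fin.prod_univ_two] at h3
  have hq := Fintype.one_lt_card (α := F)
  rintro ⟨k, hk⟩
  simp only [Fin.val_zero, Fin.val_one, pow_zero, pow_one] at h3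
  have hp : 1 ≤ Fintype.card F ^ 2 := Nat.one_le_pow _ _ hq.le
  have hp' : Fintype.card F ≤ Fintype.card F ^ 2 := Nat.le_self_pow two_ne_zero _
  rcases card_tT hF with ⟨h4, h5⟩ | ⟨h4, h5⟩ <;> rw [h5, hk] at h3 <;>
    generalize Fintype.card F = q at *
  · have : 4 * k = q * (q + 1) := by
      refine Nat.eq_of_mul_eq_mul_right (m := (q - 1) * (q - 1)) (Nat.mul_pos (by omega)
        (by omega)) ?_
      zify [hp, hp', hq.le] at h3 ⊢
      linear_combination h3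
    have h6 := congrArg (· % 4) this
    simp [Nat.mul_mod, Nat.add_mod, h4] at h6
  · have : 4 * k + q = q * q := by
      have : 4 * k = q ^ 2 - q := Nat.eq_of_mul_eq_mul_right (m := q ^ 2 - 1) (by
        have : 1 < q ^ 2 := Nat.one_lt_pow two_ne_zero hq
        omega) (by rw [mul_comm (q ^ 2 - q), ← h3]; ring)
      rw [this, ← sq]; omega
    have h6 := congrArg (· % 4) this
    simp [Nat.mul_mod, Nat.add_mod, h4] at h6

theorem index_M [Fintype F] (hF : Odd (Fintype.card F)) :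
    ¬ 2 ∣ ((nN F).prod (nN F)).relIndex (Gam F) := by
  have h1 : (nN F).prod (nN F) ⊔ Gam F = ⊤ := by
    refine eq_top_iff.2 fun x _ => ?_
    obtain ⟨a, b, h⟩ := FiniteField.exists_root_sum_quadratic (R := F)
      (f := Polynomial.X ^ 2 - Polynomial.C ((x.1 : Matrix (Fin 2) (Fin 2) F).det /
        (x.2 : Matrix (Fin 2) (Fin 2) F).det)) (g := Polynomial.X ^ 2)
      (Polynomial.degree_X_pow_sub_C (by simp) _) (Polynomial.degree_X_pow 2)
      (Nat.odd_iff.1 hF)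
    have h1 := x.1.det_ne_zero
    have h2 := x.2.det_ne_zero
    have h3 : (!![a, -b; b, a]).det = (x.1 : Matrix (Fin 2) (Fin 2) F).det /
        (x.2 : Matrix (Fin 2) (Fin 2) F).det := by
      simp at h ⊢; linear_combination h
    let n := GeneralLinearGroup.mkOfDetNeZero !![a, -b; b, a] (h3 ▸ div_ne_zero h1 h2)
    rw [show x = (n, 1) * (n⁻¹ * x.1, x.2) by simp]
    refine Subgroup.mul_mem_sup ⟨mem_nN.2 (.inl ⟨a, b, rfl⟩), one_mem _⟩ (mem_Gam.2 ?_)
    have : (n : Matrix (Fin 2) (Fin 2) F).det = _ := h3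
    simp [this, h1]
  have h2 := Subgroup.relIndex_sup_right ((nN F).prod (nN F)) (Gam F)
  rw [h1, Subgroup.relIndex_top_right] at h2
  have h3 := Subgroup.relIndex_mul_index (inf_le_left (a := (nN F).prod (nN F)) (b := Gam F))
  have h4 := Subgroup.relIndex_mul_index (inf_le_right (a := (nN F).prod (nN F)) (b := Gam F))
  rw [Subgroup.inf_relIndex_left, ← h2, ← h4, Subgroup.inf_relIndex_right, mul_comm] at h3
  rw [← Nat.eq_of_mul_eq_mul_right (Nat.pos_of_ne_zero Subgroup.index_ne_zero_of_finite) h3,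
    Subgroup.index_prod]
  exact fun h => index_nN hF ((Nat.prime_two.dvd_mul.1 h).elim id id)

theorem sqD_gam [Fintype F] (hF : Odd (Fintype.card F)) {R : Type*} [Group R] (Φ : Gam F →* R)
    (hs : Function.Surjective Φ) (hZ : ∀ (x : Gam F) (l : F),
      (x.1.1 : Matrix (Fin 2) (Fin 2) F) = l • 1 → (x.1.2 : Matrix (Fin 2) (Fin 2) F) = l • 1 →
        Φ x = 1) (P : Sylow 2 R) : SqD (P : Subgroup R) := by
  classical
  have : Finite R := .of_surjective _ hs
  let M := ((nN F).prod (nN F)).subgroupOf (Gam F)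
  let A : Subgroup M := ((tT F).prod (tT F)).comap ((Gam F).subtype.comp M.subtype)
  have hn : ∀ a ∈ tT F, ∀ g ∈ nN F, g * a * g⁻¹ ∈ tT F := fun a ha g hg => by
    have ha' := Subgroup.mem_centralizer_singleton_iff.1 ha
    refine Subgroup.mem_centralizer_singleton_iff.2 ?_
    rcases hg with h | h
    · exact ((Commute.mul_left h ha').mul_left (Commute.inv_left h)).eq
    · have h1 : g⁻¹ * jj F = -(jj F * g⁻¹) := by
        rw [inv_mul_eq_iff_eq_mul, mul_neg, ← mul_assoc, h, neg_mul, neg_neg, mul_inv_cancel_right]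
      rw [mul_assoc, h1, mul_neg, ← mul_assoc, mul_assoc g, ha', ← mul_assoc, h]
      simp [mul_assoc]
  have : A.Normal := ⟨fun a ha g => ⟨hn _ ha.1 _ g.2.1, hn _ ha.2 _ g.2.2⟩⟩
  have hc : ∀ a ∈ tT F, ∀ b ∈ tT F, a * b = b * a := fun a ha b hb => by
    obtain ⟨x, y, h⟩ := mem_tT.1 ha
    obtain ⟨z, w, h'⟩ := mem_tT.1 hb
    refine Units.ext ?_
    simp only [Units.val_mul, h, h', mul_fin_two]
    ext i j; fin_cases i <;> fin_cases j <;> simp <;> ring
  have hsq : ∀ g ∈ nN F, g ^ 2 ∈ tT F := fun g hg => by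
    rcases mem_nN.1 hg with h | ⟨a, b, h⟩
    · exact pow_mem (mem_tT.2 h) _
    · exact mem_tT.2 ⟨a * a + b * b, 0, by simp [sq, h]; ring_nf; simp⟩
  refine sqD_sylow A (fun a ha b hb => Subtype.ext (Subtype.ext (Prod.ext (hc _ ha.1 _ hb.1)
    (hc _ ha.2 _ hb.2)))) (fun x => ⟨hsq _ x.2.1, hsq _ x.2.2⟩) (Φ.comp M.subtype) (fun h => ?_)
    (fun x => ?_) P
  · rw [MonoidHom.range_comp, Subgroup.range_subtype] at h
    exact index_M hF (h.trans (Subgroup.index_map_dvd _ hs))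
  have key : ∀ (c y : M) (l : F), (x.1.1.1 : Matrix (Fin 2) (Fin 2) F) * x.1.1.1 * c.1.1.1 * y.1.1.1
      = l • (y.1.1.1 * c.1.1.1) → (x.1.1.2 : Matrix (Fin 2) (Fin 2) F) * x.1.1.2 * c.1.1.2 *
      y.1.1.2 = l • (y.1.1.2 * c.1.1.2) →
      Φ.comp M.subtype (x ^ 2) = Φ.comp M.subtype ⁅y, c⁆ := fun c y l h1 h2 => by
    rw [← mul_inv_eq_one, ← map_inv, ← map_mul, show x ^ 2 * ⁅y, c⁆⁻¹ = x * x * c * y * (y * c)⁻¹ by
      rw [commutatorElement_def, sq]; group]
    have k : ∀ a b : GL (Fin 2) F, (a : Matrix (Fin 2) (Fin 2) F) = l • b →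
        ((a * b⁻¹ : GL (Fin 2) F) : Matrix (Fin 2) (Fin 2) F) = l • 1 := fun a b h => by
      rw [Units.val_mul, h, smul_mul_assoc, Units.mul_inv]
    exact hZ _ l (k _ (y.1.1.1 * c.1.1.1) h1) (k _ (y.1.1.2 * c.1.1.2) h2)
  let s : M := ⟨⟨(ww F, ww F), mem_Gam.2 rfl⟩, mem_nN.2 (.inr ⟨1, 0, rfl⟩),
    mem_nN.2 (.inr ⟨1, 0, rfl⟩)⟩
  have hd := mem_Gam.1 x.1.2
  have hj : ∀ g ∈ tT F, jj F * g ∈ tT F := fun g hg => mul_mem (mem_tT.2 ⟨0, 1, rfl⟩) hg
  have hj' : ∀ g : GL (Fin 2) F, ((jj F * g : GL (Fin 2) F) : Matrix (Fin 2) (Fin 2) F).det =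
    (g : Matrix (Fin 2) (Fin 2) F).det := fun g => by
      rw [Units.val_mul, det_mul]; simp [jj]
  rcases mem_nN.1 x.2.1 with ⟨a, b, h⟩ | ⟨a, b, h⟩ <;>
    rcases mem_nN.1 x.2.2 with ⟨a', b', h'⟩ | ⟨a', b', h'⟩ <;>
    change (x.1.1.1 : Matrix (Fin 2) (Fin 2) F) = _ at h <;>
    change (x.1.1.2 : Matrix (Fin 2) (Fin 2) F) = _ at h' <;>
    rw [h, h', det_fin_two_of, det_fin_two_of] at hd
  · refine ⟨s, x, ⟨mem_tT.2 ⟨a, b, h⟩, mem_tT.2 ⟨a', b', h'⟩⟩, key _ _ (a * a + b * b) ?_ ?_⟩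
    all_goals
      simp only [s, Subgroup.coe_mul, Prod.fst_mul, Prod.snd_mul, Units.val_mul, h, h', jj, ww,
        mul_fin_two, Subgroup.coe_one, Prod.fst_one, Prod.snd_one, Units.val_one, mul_one]
      ext i j; fin_cases i <;> fin_cases j <;> simp <;> grind
  · have ht := mem_tT.2 ⟨a, b, h⟩
    refine ⟨x * s, ⟨⟨(jj F * x.1.1.1, x.1.1.1), mem_Gam.2 (hj' _)⟩, tT_le (hj _ ht), tT_le ht⟩,
      ⟨hj _ ht, ht⟩, key _ _ (-(a * a + b * b)) ?_ ?_⟩
    all_goals
      simp only [s, Subgroup.coe_mul, Prod.fst_mul, Prod.snd_mul, Units.val_mul, h, h', jj, ww,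
        mul_fin_two, Subgroup.coe_one, Prod.fst_one, Prod.snd_one, Units.val_one, mul_one]
      ext i j; fin_cases i <;> fin_cases j <;> simp <;> grind
  · have ht := mem_tT.2 ⟨a', b', h'⟩
    refine ⟨x * s, ⟨⟨(x.1.1.2, jj F * x.1.1.2), mem_Gam.2 (hj' _).symm⟩, tT_le ht, tT_le (hj _ ht)⟩,
      ⟨ht, hj _ ht⟩, key _ _ (-(a' * a' + b' * b')) ?_ ?_⟩
    all_goals
      simp only [s, Subgroup.coe_mul, Prod.fst_mul, Prod.snd_mul, Units.val_mul, h, h', jj, ww,
        mul_fin_two, Subgroup.coe_one, Prod.fst_one, Prod.snd_one, Units.val_one, mul_one]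
      ext i j; fin_cases i <;> fin_cases j <;> simp <;> grind
  · refine ⟨1, 1, one_mem _, key _ _ (a * a + b * b) ?_ ?_⟩
    all_goals
      simp only [s, Subgroup.coe_mul, Prod.fst_mul, Prod.snd_mul, Units.val_mul, h, h', jj, ww,
        mul_fin_two, Subgroup.coe_one, Prod.fst_one, Prod.snd_one, Units.val_one, mul_one]
      ext i j; fin_cases i <;> fin_cases j <;> simp <;> grind

end Cfsg.Agent.H19.Oc
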