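import Cfsg.Agent.H19.Oc5

/-! The octonion automorphism group in characteristic two is covered by two conjugacy classes of
proper subgroups. -/

set_option autoImplicit false
set_option maxHeartbeats 400000

namespace Cfsg.Agent.H19.Oc

open Module Matrix Cfsg.Lie

variable {F : Type*} [Field F]

theorem bil_mu_left (x y z : Fin 8 → F) : bil (mu x y) z = bil y (mu (bar x) z) := by
  simp only [mu_co, e_co, tr_def, bil_def, bar, Pi.sub_apply, Pi.smul_apply, smul_eq_mul]; ring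

theorem bil_mu_mu (x y v : Fin 8 → F) : bil (mu x v) (mu y v) = nrm v * bil x y := by
  simp only [mu_co, bil_def, nrm]; ring

section
variable {A : Type*} [AddCommGroup A] [Module F A]

/-- a non-degenerate subalgebra closed under conjugation -/
structure Emb (m : A → A → A) (c : A → A) (ψ : A →ₗ[F] (Fin 8 → F)) : Prop where
  mul : ∀ a b, mu (ψ a) (ψ b) = ψ (m a b)
  bar : ∀ a, bar (ψ a) = ψ (c a)
  one : ∃ a, ψ a = e1
  nd : ∀ a, (∀ b, bil (ψ a) (ψ b) = 0) → a = 0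

/-- the doubled product -/
def dbl (m : A → A → A) (c : A → A) (p q : A × A) : A × A :=
  (m p.1 q.1 - m (c q.2) p.2, m q.2 p.1 + m p.2 (c q.1))

variable {m : A → A → A} {c : A → A} {ψ : A →ₗ[F] (Fin 8 → F)}

theorem Emb.exists_v [Finite F] [FiniteDimensional F A] (h : Emb m c ψ) (hA : finrank F A ≤ 5) :
    ∃ v, (∀ a, bil (ψ a) v = 0) ∧ nrm v = 1 := by
  let f : (Fin 8 → F) →ₗ[F] Dual F A := (bil ∘ₗ ψ).flip
  have hf : ∀ z a, f z a = bil (ψ a) z := fun _ _ => rfl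
  have h1 := LinearMap.finrank_range_add_finrank_ker f
  have h2 := Submodule.finrank_le (LinearMap.range f)
  rw [Subspace.dual_finrank_eq] at h2
  simp only [finrank_fintype_fun_eq_card, Fintype.card_fin] at h1
  obtain ⟨x, hx, h3, h4⟩ := exists_sing (LinearMap.ker f) (by omega)
  have h5 : Function.Surjective (f ∘ₗ ψ) :=
    (LinearMap.injective_iff_surjective_of_finrank_eq_finrank Subspace.dual_finrank_eq.symm).1
      ((injective_iff_map_eq_zero _).2 fun a ha => h.nd a fun b => by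
        rw [bil_comm]; exact congrArg (· b) ha)
  obtain ⟨z, hz⟩ : ∃ z, bil x z ≠ 0 := by by_contra! h6; exact h3 (bil_nondeg h6)
  obtain ⟨a, ha⟩ := h5 (f z)
  have h6 : ∀ b, bil (ψ b) x = 0 := fun b => congrArg (· b) hx
  have h7 : bil (z - ψ a) x = bil x z := by simp [h6, bil_comm z]
  refine ⟨z - ψ a + ((1 - nrm (z - ψ a)) / bil x z) • x, fun b => ?_, ?_⟩
  · have : bil (ψ b) (ψ a) = bil (ψ b) z := congrArg (· b) ha
    simp [h6, this]
  · rw [nrm_add, nrm_smul, h4, map_smul, h7, smul_eq_mul, div_mul_cancel₀ _ hz]; ring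

theorem Emb.dbl (h : Emb m c ψ) {v : Fin 8 → F} (hv : ∀ a, bil (ψ a) v = 0) (hn : nrm v = 1) :
    Emb (dbl m c) (fun p => (c p.1, -p.2)) (ψ.coprod (mu.flip v ∘ₗ ψ)) := by
  obtain ⟨o, ho⟩ := h.one
  have hf : ∀ p, ψ.coprod (mu.flip v ∘ₗ ψ) p = ψ p.1 + mu (ψ p.2) v := fun _ => rfl
  have hW : ∀ a b, bil (mu (ψ b) v) (ψ a) = 0 := fun a b => by
    rw [bil_mu_left, h.bar, h.mul, bil_comm, hv]
  have tv : tr v = 0 := by rw [← bil_one, bil_comm, ← ho, hv]
  have bv : Oc.bar v = -v := by simp [Oc.bar, tv]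
  have bw : ∀ b, Oc.bar (mu (ψ b) v) = -mu (ψ b) v := fun b => by
    rw [Oc.bar, ← bil_one, ← ho, hW, zero_smul, zero_sub]
  have vv : ∀ z, mu (mu z v) v = -z := fun z => by simp [right_alt, mu_self, tv, hn]
  have k0 : ∀ a z, mu v (mu (ψ (c a)) z) = mu (ψ a) (mu v z) := fun a z => by
    have := left_id v (ψ a) z
    rw [bv, bil_comm, hv, h.bar] at this
    simpa [add_neg_eq_zero] using this
  have k1 : ∀ a, mu (ψ a) v = mu v (ψ (c a)) := fun a => by simpa using (k0 a e1).symm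
  have k2 : ∀ a d, mu (ψ a) (mu (ψ d) v) = mu (ψ (m d a)) v := fun a d => by
    rw [k1 d, ← k0, k1, ← h.bar (m d a), ← h.mul, bar_mu, h.bar, h.bar]
  have k3 : ∀ b a, mu (mu (ψ b) v) (ψ a) = mu (ψ (m b (c a))) v := fun b a => by
    have := right_id v (Oc.bar (ψ a)) (ψ b)
    rw [bar_bar, bv, h.bar, bil_comm, hv, h.mul] at this
    simpa [add_neg_eq_zero] using this
  have k4 : ∀ b d, mu (mu (ψ b) v) (mu (ψ d) v) = -ψ (m (c d) b) := fun b d => by
    have := left_id (mu (ψ b) v) (Oc.bar (ψ d)) v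
    rw [bar_bar, bw, h.bar, hW] at this
    simpa [vv, h.mul, add_eq_zero_iff_eq_neg] using this
  refine ⟨fun p q => ?_, fun p => ?_, ⟨(o, 0), by simp [ho]⟩, fun p hp => Prod.ext
    (h.nd _ fun b => by simpa [hW] using hp (b, 0)) (h.nd _ fun b => ?_)⟩
  · simp only [hf, Oc.dbl, map_add, map_sub, LinearMap.add_apply, h.mul, k2, k3, k4]
    abel
  · rw [hf, hf, ← h.bar, map_neg, map_neg, LinearMap.neg_apply, ← bw]
    simp only [Oc.bar, map_add]; module
  · have := hp (0, b)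
    rwa [hf, hf, map_zero, zero_add, map_add, LinearMap.add_apply, bil_comm, hW, bil_mu_mu, hn,
      zero_add, one_mul] at this

end

theorem exists_aut [Finite F] (h2 : (2 : F) = 0) {x y : Fin 8 → F} (hx : tr x = 1) (hy : tr y = 1)
    (hn : nrm x = nrm y) : ∃ g : G2 F, g.1.1 *ᵥ x = y := by
  have key : ∀ z : Fin 8 → F, tr z = 1 → ∃ Θ : (((F × F) × (F × F)) × ((F × F) × (F × F)))
      ≃ₗ[F] (Fin 8 → F), Θ (((0, 1), 0), 0) = z ∧ ∀ p q, mu (Θ p) (Θ q) = Θ (dbl (dbl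
        (fun a b : F × F => (a.1 * b.1 - nrm z * a.2 * b.2, a.1 * b.2 + a.2 * b.1 + a.2 * b.2))
        (fun a => (a.1 + a.2, -a.2))) (fun p => ((p.1.1 + p.1.2, -p.1.2), -p.2)) p q) := by
    intro z hz
    have h0 : Emb (fun a b : F × F => (a.1 * b.1 - nrm z * a.2 * b.2,
        a.1 * b.2 + a.2 * b.1 + a.2 * b.2)) (fun a => (a.1 + a.2, -a.2))
        ((LinearMap.toSpanSingleton F _ e1).coprod (LinearMap.toSpanSingleton F _ z)) := by
      refine ⟨fun a b => ?_, fun a => ?_, ⟨(1, 0), by simp⟩, fun a ha => ?_⟩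
      · simp only [LinearMap.coprod_apply, LinearMap.toSpanSingleton_apply, map_add, map_smul,
          LinearMap.add_apply, LinearMap.smul_apply, one_mu, mu_one, mu_self z, hz]
        module
      · simp only [LinearMap.coprod_apply, LinearMap.toSpanSingleton_apply, map_add, map_smul,
          bar, hz, tr_one, smul_eq_mul]
        module
      · have h3 := ha (1, 0)
        have h4 := ha (0, 1)
        have h5 : bil z z = 0 := by
          have := nrm_add z z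
          rw [← two_smul F, nrm_smul, ← two_mul, h2] at this
          simpa using this.symm
        simp [bil_one, bil_comm e1 z, tr_one, hz, h2, h5] at h3 h4
        exact Prod.ext h4 h3
    obtain ⟨v, a1, a2⟩ := h0.exists_v (by simp)
    obtain ⟨w, b1, b2⟩ := (h0.dbl a1 a2).exists_v (by simp)
    obtain ⟨ψ, h3, h4⟩ : ∃ ψ, Emb _ _ ψ ∧ ψ (((0, 1), 0), 0) = z :=
      ⟨_, (h0.dbl a1 a2).dbl b1 b2, by simp⟩
    exact ⟨.ofInjectiveOfFinrankEq ψ ((injective_iff_map_eq_zero _).2 fun a ha => h3.nd a fun b =>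
      by rw [ha, map_zero, LinearMap.zero_apply]) (by simp), h4, h3.mul⟩
  obtain ⟨Θ, a1, a2⟩ := key x hx
  obtain ⟨Θ', b1, b2⟩ := key y hy
  let T := Θ.symm.trans Θ'
  refine ⟨⟨⟨LinearMap.toMatrix' T.toLinearMap, LinearMap.toMatrix' T.symm.toLinearMap, by
    rw [← LinearMap.toMatrix'_comp]; simp, by rw [← LinearMap.toMatrix'_comp]; simp⟩,
    mem_G2.2 fun u v => ?_⟩, by simp [T, ← a1, b1]⟩
  obtain ⟨p, rfl⟩ := Θ.surjective u
  obtain ⟨q, rfl⟩ := Θ.surjective v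
  simp [T, a2, b2, hn]

theorem g2_surj (g : G2 F) (y : Fin 8 → F) : g.1.1 *ᵥ ((g⁻¹).1.1 *ᵥ y) = y := by
  rw [mulVec_mulVec]; simp

theorem g2_one (g : G2 F) : g.1.1 *ᵥ e1 = e1 := by
  have := mem_G2.1 g.2 e1 ((g⁻¹).1.1 *ᵥ e1)
  rwa [one_mu, g2_surj, mu_one, eq_comm] at this

theorem g2_tr_nrm (g : G2 F) (x : Fin 8 → F) :
    tr (g.1.1 *ᵥ x) = tr x ∧ nrm (g.1.1 *ᵥ x) = nrm x := by
  have h := mem_G2.1 g.2 x x
  rw [mu_self, mu_self, mulVec_sub, mulVec_smul, mulVec_smul, g2_one] at h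
  have h1 : (tr x - tr (g.1.1 *ᵥ x)) • g.1.1 *ᵥ x = (nrm x - nrm (g.1.1 *ᵥ x)) • e1 := by
    rw [sub_smul, sub_smul, sub_eq_sub_iff_sub_eq_sub, h]
  have h2 : tr x - tr (g.1.1 *ᵥ x) = 0 := by
    by_contra h2
    have h3 := congrArg ((g⁻¹).1.1 *ᵥ ·) ((eq_inv_smul_iff₀ h2).2 h1)
    have h4 := g2_surj g⁻¹ x
    rw [inv_inv] at h4
    simp only [h4, mulVec_smul, g2_one] at h3
    exact h2 (by rw [← (eq_inv_smul_iff₀ h2).2 h1] at h3; rw [← h3, sub_self])
  rw [h2, zero_smul, eq_comm, smul_eq_zero, sub_eq_zero] at h1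
  exact ⟨(sub_eq_zero.1 h2).symm, (h1.resolve_right e1_ne).symm⟩

theorem exists_fixed (g : G2 F) : ∃ x, tr x = 1 ∧ ∃ c : F, g.1.1 *ᵥ x = x + c • e1 := by
  have hb : ∀ x y, bil (g.1.1 *ᵥ x) (g.1.1 *ᵥ y) = bil x y := fun x y => by
    have := nrm_add (g.1.1 *ᵥ x) (g.1.1 *ᵥ y)
    rw [← mulVec_add, (g2_tr_nrm g _).2, (g2_tr_nrm g _).2, (g2_tr_nrm g _).2, nrm_add] at this
    exact (add_left_cancel this).symm
  have h1 : e1 ∉ (LinearMap.ker tr).map (mulVecLin g.1.1 - LinearMap.id) := by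
    rintro ⟨y, hy, e⟩
    have h2 := (g2_tr_nrm g y).2
    rw [show g.1.1 *ᵥ y = y + e1 from eq_add_of_sub_eq' e, nrm_add, bil_one,
      show tr y = 0 from hy] at h2
    simp [nrm, e_co] at h2
  obtain ⟨φ, h2, h3⟩ := Submodule.exists_dual_map_eq_bot_of_notMem h1 inferInstance
  obtain ⟨x, rfl⟩ := (LinearMap.injective_iff_surjective_of_finrank_eq_finrank (f := bil (F := F))
    Subspace.dual_finrank_eq.symm).1 ((injective_iff_map_eq_zero _).2 fun a ha =>
      bil_nondeg fun b => by rw [ha, LinearMap.zero_apply]) φ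
  rw [bil_one] at h2
  have h4 : ∀ y, tr y = 0 → bil (g.1.1 *ᵥ x - x) y = 0 := fun y hy => by
    have h5 : bil x (g.1.1 *ᵥ ((g⁻¹).1.1 *ᵥ y) - (g⁻¹).1.1 *ᵥ y) = 0 :=
      h3.le ⟨_, ⟨_, (g2_tr_nrm g⁻¹ y).1.trans hy, rfl⟩, rfl⟩
    rw [map_sub, ← hb x ((g⁻¹).1.1 *ᵥ y), g2_surj] at h5
    rw [map_sub, LinearMap.sub_apply, sub_eq_zero, sub_eq_zero.1 h5]
  have h5 : g.1.1 *ᵥ x - x = (g.1.1 *ᵥ x - x) 0 • e1 := by
    generalize g.1.1 *ᵥ x - x = z at h4
    apply vec8_ext <;> simp only [Pi.smul_apply, e_co, smul_eq_mul, mul_one, mul_zero]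
    exacts [by simpa [bil_def, tr_def] using h4 (Pi.single 4 1),
      by simpa [bil_def, tr_def] using h4 (Pi.single 5 1),
      by simpa [bil_def, tr_def] using h4 (Pi.single 6 1),
      by simpa [bil_def, tr_def] using h4 (Pi.single 1 1),
      by simpa [bil_def, tr_def] using h4 (Pi.single 2 1),
      by simpa [bil_def, tr_def] using h4 (Pi.single 3 1),
      Eq.symm (by simpa [bil_def, tr_def, neg_add_eq_zero] using h4 ![1, 0, 0, 0, 0, 0, 0, -1])]
  refine ⟨(tr x)⁻¹ • x, by simp [h2], (tr x)⁻¹ * (g.1.1 *ᵥ x - x) 0, ?_⟩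
  rw [mulVec_smul, mul_smul, ← h5, ← smul_add, add_sub_cancel]

/-- the stabilizer of a quadratic subalgebra -/
def stab (x : Fin 8 → F) : Subgroup (G2 F) where
  carrier := {g | ∃ c : F, g.1.1 *ᵥ x = x + c • e1}
  one_mem' := ⟨0, by simp⟩
  mul_mem' := by
    rintro a b ⟨c, hc⟩ ⟨d, hd⟩
    refine ⟨c + d, ?_⟩
    rw [Subgroup.coe_mul, Units.val_mul, ← mulVec_mulVec, hd, mulVec_add, mulVec_smul, g2_one, hc,
      add_smul, add_assoc]
  inv_mem' := by
    rintro a ⟨c, hc⟩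
    refine ⟨-c, ?_⟩
    have := g2_surj a⁻¹ x
    rw [inv_inv, hc, mulVec_add, mulVec_smul, g2_one] at this
    rw [neg_smul, ← sub_eq_add_neg, eq_sub_iff_add_eq, this]

theorem cover_G2 [Fintype F] (a : ℕ) (ha : 2 ≤ a) (hF : Fintype.card F = 2 ^ a) :
    ∃ H K : Subgroup (Cfsg.Lie.G2 F), H ≠ ⊤ ∧ K ≠ ⊤ ∧ ∀ g : (Cfsg.Lie.G2 F),
      ∃ x : (Cfsg.Lie.G2 F), x * g * x⁻¹ ∈ H ∨ x * g * x⁻¹ ∈ K := by
  classical
  have h2 : (2 : F) = 0 := by
    have := FiniteField.cast_card_eq_zero F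
    rw [hF] at this
    simpa using pow_eq_zero_iff (by omega) |>.1 (by simpa using this : (2 : F) ^ a = 0)
  let f : F →+ F := ⟨⟨fun c => c ^ 2 + c, by simp⟩, fun c d => by linear_combination (c * d) * h2⟩
  have hk : Nat.card f.ker = 2 := by
    rw [Nat.card_eq_two_iff' (0 : f.ker)]
    refine ⟨⟨1, by change (1 : F) ^ 2 + 1 = 0; linear_combination h2⟩, by
      simp [Subtype.ext_iff], fun c hc => Subtype.ext ?_⟩
    have h3 : c.1 * (c.1 - 1) = 0 := by
      have : c.1 ^ 2 + c.1 = 0 := c.2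
      linear_combination this - c.1 * h2
    exact sub_eq_zero.1 ((mul_eq_zero.1 h3).resolve_left fun h => hc (by simp [Subtype.ext_iff, h]))
  have hi : f.range.index = 2 := by
    have h3 := f.ker.index_mul_card
    rw [AddSubgroup.index_ker, hk, ← f.range.index_mul_card, mul_comm] at h3
    exact (Nat.eq_of_mul_eq_mul_right Nat.card_pos h3).symm
  obtain ⟨d, -, hd⟩ := AddSubgroup.index_eq_two_iff_exists_notMem_and.1 hi
  let z : F → Fin 8 → F := fun n => ![1, 1, 0, 0, -n, 0, 0, 0]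
  have hz : ∀ n, tr (z n) = 1 ∧ nrm (z n) = n := fun n => by simp [z, tr_def, nrm]
  have hp : ∀ n, stab (z n) ≠ ⊤ := fun n h => by
    obtain ⟨g, hg⟩ := exists_aut h2 (hz n).1 (y := ![1, 0, 1, 0, 0, -n, 0, 0])
      (by simp [tr_def]) (by simp [z, nrm])
    obtain ⟨c, hc⟩ : g ∈ stab (z n) := h ▸ Subgroup.mem_top g
    simpa [z, e_co] using congrFun (hg.symm.trans hc) 1
  refine ⟨stab (z d), stab (z 0), hp d, hp 0, fun g => ?_⟩
  obtain ⟨x, h3, c, h4⟩ := exists_fixed g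
  have key : ∀ n u : F, u ^ 2 + u = nrm x + n → ∃ y : G2 F, y * g * y⁻¹ ∈ stab (z n) := by
    intro n u hu
    obtain ⟨y, hy⟩ := exists_aut h2 (x := x + u • e1) (by simp [h3, tr_one, h2]) (hz n).1 (by
      rw [nrm_add, nrm_smul, map_smul, bil_one, h3, (hz n).2]
      simp only [nrm.eq_1 e1, e_co, smul_eq_mul]
      linear_combination hu + nrm x * h2)
    refine ⟨y, c, ?_⟩
    have h5 := g2_surj y⁻¹ (x + u • e1)
    rw [inv_inv, hy] at h5
    rw [Subgroup.coe_mul, Subgroup.coe_mul, Units.val_mul, Units.val_mul, ← mulVec_mulVec,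
      ← mulVec_mulVec, h5, mulVec_add g.1.1, h4, mulVec_smul, g2_one, add_right_comm, mulVec_add,
      hy, mulVec_smul, g2_one]
  rcases hd (nrm x) with ⟨u, hu⟩ | ⟨u, hu⟩
  · exact (key d u hu).imp fun _ => .inl
  · exact (key 0 u (hu.trans (add_zero _).symm)).imp fun _ => .inr

end Cfsg.Agent.H19.Oc
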