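import Cfsg.Agent.H19.Dbl
import Cfsg.Prelude.Def_KGroupFacts

/-! # Outer automorphisms of the Fischer groups -/

set_option autoImplicit false
set_option maxRecDepth 100000
set_option maxHeartbeats 400000

namespace Cfsg.Agent.H19

open Cfsg.Agent.H14 Cfsg.Agent.H15 Subgroup

variable {G H : Type*} [Group G] [Group H]

section map
variable {f : G →* H} (inj : Function.Injective f)
include inj

theorem commute_map_inj {x y : G} : Commute (f x) (f y) ↔ Commute x y :=
  ⟨fun k => inj (by simpa using k.eq), fun k => k.map f⟩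

theorem image_Dd_inj (E : Set G) (x : G) : Dd (f '' E) (f x) = f '' Dd E x := by
  ext y
  constructor
  · rintro ⟨⟨y, hy, rfl⟩, n, c⟩
    exact ⟨y, ⟨hy, fun e => n (congrArg f e), (commute_map_inj inj).1 c⟩, rfl⟩
  · rintro ⟨y, ⟨hy, n, c⟩, rfl⟩
    exact ⟨⟨y, hy, rfl⟩, inj.ne n, c.map f⟩

theorem Lb.map {R : Raw} {E : Set G} (l : Lb R E) : Lb R (f '' E) := by
  obtain ⟨c, l, rfl⟩ := l
  exact ⟨_, l.map f fun _ _ _ _ e => inj e, (Set.image_comp f c _)⟩

theorem Lev.map {n : ℕ} {E : Set G} (h : Lev n E) : Lev n (f '' E) := by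
  induction h with
  | zero l => exact .zero (l.map inj)
  | @succ n E t c k ne cen lb pp _ ih =>
    refine .succ (t.image f fun d hd e => t.ne d hd (inj (e.trans (map_one f).symm))) ?_ ?_ (ne.image f)
      ?_ (fun e => (lb e).map inj) ?_ ?_
    · rintro _ ⟨x, hx, rfl⟩ _ ⟨y, hy, rfl⟩
      exact ⟨_, c x hx y hy, map_J f x y⟩
    · rintro _ ⟨x, hx, rfl⟩ _ ⟨y, hy, rfl⟩
      obtain ⟨g, hg, rfl⟩ := k x hx y hy
      exact ⟨f g, MonoidHom.map_closure f E ▸ mem_map_of_mem f hg, (map_J f g x).symm⟩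
    · rintro _ ⟨x, hx, rfl⟩ g hg cm
      obtain ⟨g, hg', rfl⟩ := (MonoidHom.map_closure f E).ge hg
      obtain ⟨a, ha, z⟩ := cen x hx g hg' ((commute_map_inj inj).1 cm)
      refine ⟨f a, closure_mono ?_ ((MonoidHom.map_closure f _).le (mem_map_of_mem f ha)), zc_iff.2 ?_⟩
      · rintro _ ⟨y, hy, rfl⟩
        exact ⟨⟨y, hy.1, rfl⟩, hy.2.map f⟩
      · rintro _ ⟨y, hy, rfl⟩
        simpa using (zc_iff.1 z y hy).map f
    · rintro _ ⟨x, hx, rfl⟩ _ ⟨y, hy, rfl⟩ n
      obtain ⟨z, hz⟩ := pp x hx y hy fun k => n (k.map f)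
      exact ⟨f z, (image_Dd_inj inj E x).ge ⟨z, hz.1, rfl⟩, (image_Dd_inj inj E y).ge ⟨z, hz.2, rfl⟩⟩
    · rintro _ ⟨x, hx, rfl⟩
      exact (image_Dd_inj inj E x).symm ▸ ih x hx

end map

/-- every element normalising `E` acts as an element of the group generated by `E` -/
def InnE (E : Set G) : Prop := ∀ u : G, (∀ e ∈ E, J u e ∈ E) → ∃ g ∈ closure E, g * u ∈ centralizer E

theorem Lev.inn {n : ℕ} {E : Set G} (h : Lev n E) {d : G} (hd : d ∈ E)
    (k : ∀ u : G, (∀ e ∈ E, J u e ∈ E) → Commute u d →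
      ∃ g ∈ closure (Dd E d), g * u ∈ centralizer (Dd E d)) : InnE E := fun u hu => by
  obtain ⟨a, ha, e⟩ := h.con _ (hu d hd) d hd
  have n1 : ∀ e ∈ E, J (a * u) e ∈ E := fun e he => J_mul a u e ▸ h.J_mem ha _ (hu e he)
  have c1 : Commute (a * u) d := J_eq_self.1 ((J_mul a u d).trans e)
  obtain ⟨g, hg, z⟩ := k _ n1 c1
  have hg' := closure_mono (fun _ k => k.1) hg
  rcases h.lc.zc h.t3 h.cl hd (fun e he => J_mul g _ e ▸ h.J_mem hg' _ (n1 e he))
    ((commute_of_mem_closure (fun y hy => hy.2.2) hg).symm.mul_left c1) z with q | q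
  · exact ⟨g * a, mul_mem hg' ha, by simpa only [mul_assoc] using q⟩
  · exact ⟨d * g * a, mul_mem (mul_mem (subset_closure hd) hg') ha, by simpa only [mul_assoc] using q⟩

theorem Lab.im_J {R : Raw} {c : ℕ → G} (l : Lab R c) {u : G} (k : ∀ x ∈ Im R c, J u x ∈ Im R c) :
    (Im R fun x => J u (c x)) = Im R c :=
  Set.eq_of_subset_of_ncard_le (by rintro _ ⟨x, hx, rfl⟩; exact k _ (mem_Im hx))
    (l.ncard.trans (l.conj u).ncard.symm).le ((Set.finite_lt_nat _).image c)

theorem zc_J_mem [Finite G] {E : Set G} {u z : G} (hu : ∀ e ∈ E, J u e ∈ E) (hz : z ∈ centralizer E) :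
    J u z ∈ centralizer E :=
  zc_iff.2 fun e he => commute_J_left.2 (zc_iff.1 hz _ (inv_mem (s := nrm E) hu e he))

theorem inn23 [Finite G] {E : Set G} (t : T3 E) (l : Lb R23 E) : InnE E := by
  have h := lev23 t l
  obtain ⟨c, l, rfl⟩ := l
  have m0 : c 0 ∈ Im R23 c := mem_Im (by decide)
  refine h.inn m0 fun u hu cm => ?_
  obtain ⟨l2, i⟩ := sub22 l
  rw [← i]
  have n2 : ∀ x ∈ Im R22 fun x => c (beta x), J u x ∈ Im R22 fun x => c (beta x) := fun x hx => by
    rw [i, ← J_of_commute cm]; exact J_mem_Dd hu (i.subset hx)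
  obtain ⟨L, hL, g, hg, e⟩ := Aut.stF l2 (l2.conj u) (l2.im_J n2)
  simp only [Aut.flv, List.mem_cons, List.not_mem_nil, or_false] at hL
  simp only [← J_mul] at e
  rcases hL with rfl | rfl
  · refine ⟨g, hg, zc_iff.2 (l2.commute_all fun a ha => ?_)⟩
    obtain ⟨j, hj, q⟩ := exists_nthN ((by decide +kernel : ∀ a < R22.L, R22.lp a ∈ Aut.zF) a ha)
    exact q ▸ J_eq_self.1 (e j hj)
  · exfalso
    have a := l.trivP (w := (repL [0, 9, 1, 2, 3, 4, 6] 9).map fun i => beta (nthN Aut.zF i))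
      (by decide +kernel)
    have b := l.trivP (w := 0 :: (repL [0, 9, 1, 2, 3, 4, 6] 9).map fun i =>
      beta (nthN [0, 1, 3, 11, 29, 45, 322, 33, 95, 695] i)) (by decide +kernel)
    have hg' : g ∈ closure (Im R23 c) := closure_mono (fun _ k => (i.subset k).1) hg
    have := zc_J_mem (u := g * u) (fun e he => J_mul g u e ▸ l.J_mem hg' _ (hu e he)) a
    simp only [J_prod, List.map_map, List.map_cons, List.prod_cons, Function.comp_def] at this b
    rw [List.map_congr_left fun j hj => e j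
      ((by decide +kernel : ∀ j ∈ repL [0, 9, 1, 2, 3, 4, 6] 9, j < 10) j hj)] at this
    obtain ⟨y, hy, n⟩ := h.noiso m0
    exact n (zc_iff.1 ((mul_mem_cancel_right this).1 b) y hy)

theorem card_aut_eq (z : center G = ⊥) : Nat.card (MulAut G) = Nat.card (Out G) * Nat.card G := by
  rw [card_eq_card_quotient_mul_card_subgroup (Inn G), Nat.card_congr (MonoidHom.ofInjective
    (f := (MulAut.conj : G →* MulAut G)) ?_).toEquiv]
  rw [injective_iff_map_eq_one]
  intro g hg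
  exact mem_bot.1 (z ▸ mem_center_iff.2 fun x => (J_eq_self.1 (DFunLike.congr_fun hg x)).eq.symm)

theorem conj_inj (z : center G = ⊥) : Function.Injective (MulAut.conj : G →* MulAut G) := by
  rw [injective_iff_map_eq_one]
  intro g hg
  exact mem_bot.1 (z ▸ mem_center_iff.2 fun x => (J_eq_self.1 (DFunLike.congr_fun hg x)).eq.symm)

theorem out23 : Nat.card (Out Spor.Fi23) = 1 := by
  have : Finite Spor.Fi23 := Nat.finite_of_card_ne_zero (by rw [Fi23.card]; norm_num)
  obtain ⟨c, l, f⟩ := model23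
  have inj := conj_inj f.z
  have : Inn Spor.Fi23 = ⊤ := eq_top_iff.2 fun φ _ => by
    have q : ∀ x, J φ (MulAut.conj x) = MulAut.conj (φ x) := fun x => by ext; simp [J]
    obtain ⟨g, hg, z⟩ := inn23 (f.lev.map inj).t3 (Lb.map inj ⟨c, l, rfl⟩) φ (by
      rintro _ ⟨x, hx, rfl⟩
      exact ⟨_, f.aut_mem (by omega) f.lev.inv2 φ hx, (q x).symm⟩)
    rw [← MonoidHom.map_closure] at hg
    obtain ⟨g, -, rfl⟩ := hg
    have : MulAut.conj g * φ = 1 := MulEquiv.ext fun x => by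
      refine (closure_le (MonoidHom.eqLocus (MulAut.conj g * φ).toMonoidHom (MonoidHom.id _))).2
        (fun y hy => inj ?_) (f.pg.top ▸ mem_top x)
      refine .trans ?_ (J_of_commute (zc_iff.1 z _ ⟨y, hy, rfl⟩))
      ext; simp [J]
    exact (mul_mem_cancel_left (MonoidHom.mem_range.2 ⟨g, rfl⟩)).1 (this ▸ one_mem _)
  rw [← index_eq_card, this, index_top]

theorem out22 : Nat.card (Out Spor.Fi22) = 2 := by
  have : Finite Spor.Fi22 := Nat.finite_of_card_ne_zero (by rw [Fi22.card]; norm_num)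
  obtain ⟨c, l, f⟩ := model22
  have up := card_aut_fi22
  rw [card_aut_eq f.z] at up
  have up := Nat.le_of_mul_le_mul_right up Nat.card_pos
  have p := Nat.card_pos (α := Out Spor.Fi22)
  suffices Nat.card (Out Spor.Fi22) ≠ 1 by omega
  rw [← index_eq_card, Ne, index_eq_one]
  intro top
  obtain ⟨l', i⟩ := l.aut Dbl.dl_ok
  obtain ⟨e1, k1⟩ := l.qt_model l f.pg.top f.z
  obtain ⟨e2, k2⟩ := l.qt_model l' (i ▸ f.pg.top) f.z
  obtain ⟨g, hg⟩ : e1.symm.trans e2 ∈ Inn Spor.Fi22 := top ▸ mem_top _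
  have k : ∀ x < R22.n, J g (c x) = c (Dbl.dl x) := fun x hx => by
    rw [← k2 x hx, ← (e1.symm_apply_eq.2 (k1 x hx).symm)]
    exact DFunLike.congr_fun hg (c x)
  obtain ⟨c2, l2, f2⟩ := model23
  obtain ⟨l3, i⟩ := sub22 l2
  obtain ⟨γ, m, rfl⟩ := (closure_fst c (fun x => c2 (beta x)) {x | x < R22.n}).ge
    (f.pg.top ▸ mem_top g : g ∈ closure (Im R22 c))
  have k' : ∀ x < R22.n, J γ.2 (c2 (beta x)) = c2 (beta (Dbl.dl x)) := fun x hx => by
    obtain ⟨y, hy, a, b⟩ := l.J_pair l3 m hx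
    rw [b, l.inj y hy _ (embAt_inv Dbl.dl_ok x hx).1 (a.symm.trans (k x hx))]
  have a := f2.one (l2.trivP (w := [0, 1, 11, 14, 18, 131, 143].map beta) (by decide +kernel))
  have b := f2.one (l2.trivP (w := 0 :: [0, 1, 11, 14, 18, 131, 143].map fun x => beta (Dbl.dl x))
    (by decide +kernel))
  have := J_prod γ.2 (([0, 1, 11, 14, 18, 131, 143].map beta).map c2)
  rw [a, J_map_one, List.map_map, List.map_map] at this
  rw [List.map_cons, List.prod_cons, List.map_map] at b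
  simp only [Function.comp_def] at this b
  rw [List.map_congr_left fun j hj => k' j
    ((by decide : ∀ j ∈ [0, 1, 11, 14, 18, 131, 143], j < 3510) j hj)] at this
  rw [← this, mul_one] at b
  exact f2.pg.ne _ (mem_Im (x := 0) (by decide)) b

end Cfsg.Agent.H19
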