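import Cfsg.Agent.H19.Out

/-! # The automorphism group of `Fi₂₄'` -/

set_option autoImplicit false
set_option maxRecDepth 100000
set_option maxHeartbeats 400000

namespace Cfsg.Agent.H19

open Cfsg.Agent.H14 Cfsg.Agent.H15 Subgroup
open scoped commutatorElement

variable {G : Type*} [Group G] {D : Set G}

theorem Lev.conn {n : ℕ} (h : Lev n D) : Conn D := fun B s ⟨b, hb⟩ k y hy => by
  by_cases c : Commute b y
  · exact k b hb y hy c
  · obtain ⟨u, hu, -⟩ := h.perp (s hb) hy c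
    exact k u (k b hb u hu.1.1 hu.1.2.2) y hy hu.2.2.2.symm

theorem cl_pair {x y : G} (hx : x ∈ D) (hy : y ∈ Dd D x) : CL D [x, y] :=
  cl_two hx hy.1 hy.2.1.symm hy.2.2

theorem FG.pair_eq {n : ℕ} (h : FG (n + 1) D) {p q r s : G} (hp : p ∈ D) (hq : q ∈ Dd D p) (hr : r ∈ D)
    (hs : s ∈ Dd D r) (e : p * q = r * s) : r = p ∨ r = q := by
  simpa using h.uniq (cl_pair hp hq) (cl_pair hr hs) (by simp) (by simp) (by simpa) r (by simp)

theorem FG.swap {n : ℕ} (h : FG (n + 1) D) {p q g : G} (hp : p ∈ D) (hq : q ∈ Dd D p)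
    (c : Commute g (p * q)) : J g p = p ∧ J g q = q ∨ J g p = q ∧ J g q = p := by
  have := h.J_mem_of (cl_pair hp hq) (by simp) (by simp) (g := g) (by simpa)
  simp only [List.mem_cons, List.not_mem_nil, or_false, forall_eq_or_imp, forall_eq] at this
  obtain ⟨a | a, b | b⟩ := this
  exacts [absurd (J_injective g (b.trans a.symm)) hq.2.1, .inl ⟨a, b⟩, .inr ⟨a, b⟩,
    absurd (J_injective g (b.trans a.symm)) hq.2.1]

variable [Finite G]

namespace F24
variable (h : F24 D)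
include h

theorem not_central {x y : G} (hx : x ∈ D) (hy : y ∈ Dd D x) :
    ¬ 2 ^ 21 ∣ Nat.card (centralizer {x * y}) := fun k => by
  have a := (h.toFG.pair_index (cl_pair hx hy) (L := ⊤) (by simp)).1
  have b := (centralizer {x}).card_mul_index
  rw [h.toFG.index_cent hx, h.ncard, h.card] at b
  rw [top_inf_eq] at a
  have c := ((centralizer {x}).subgroupOf (centralizer {x * y})).card_mul_index
  rw [← relIndex, a, ← inf_subgroupOf_right, Nat.card_congr (subgroupOfEquivOfLe inf_le_right).toEquiv] at c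
  have := k.trans (c ▸ Nat.mul_dvd_mul_right (card_dvd_of_le (H := centralizer {x} ⊓ centralizer {x * y})
    inf_le_left) 2)
  omega

theorem len {t : G} (m : t ∈ commutator G) (sq : t * t = 1) (ne : t ≠ 1) :
    ∃ l, CL D l ∧ l.prod = t ∧ (l.length = 2 ∨ l.length = 4) := by
  obtain ⟨l, a, ln, z⟩ := h.lev.inv3 t (h.pg.top ▸ mem_top t) (sq ▸ one_mem _)
  have e : l.prod = t := by rw [mul_eq_one_iff_eq_inv.1 (h.toFG.one z), inv_of_sq sq]
  refine ⟨l, a, e, ?_⟩
  subst e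
  rcases l with _ | ⟨x, _ | ⟨y, _ | ⟨v, _ | ⟨w, _ | _⟩⟩⟩⟩
  · simp at ne
  · exact absurd (by simpa using m) (h.not_mem (a.mem x (by simp)))
  · simp
  · exact absurd ((mul_mem_cancel_right (h.mulm (a.mem y (by simp)) (a.mem v (by simp)))).1
      (by simpa using m)) (h.not_mem (a.mem x (by simp)))
  · simp
  · simp at ln; omega

theorem two (α : MulAut (commutator G)) {x y : G} (hx : x ∈ D) (hy : y ∈ Dd D x) :
    ∃ p ∈ D, ∃ q ∈ Dd D p, (α ⟨x * y, h.mulm hx hy.1⟩ : G) = p * q := by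
  have W : ∀ (β : MulAut (commutator G)) (t : commutator G), 2 ^ 21 ∣ Nat.card (centralizer {t}) →
      2 ^ 21 ∣ Nat.card (centralizer {β t}) := fun β t k => k.trans (card_dvd_of_injective
    ((β.toMonoidHom.comp (Subgroup.subtype _)).codRestrict _ fun g =>
      mem_cent1.2 ((mem_cent1.1 g.2).map β.toMonoidHom)) fun a b e =>
        Subtype.ext (β.injective (congrArg Subtype.val e)))
  have N : ∀ (t : commutator G) {x y : G}, x ∈ D → y ∈ Dd D x → t = x * y →
      ¬ 2 ^ 21 ∣ Nat.card (centralizer {t}) := fun t x y hx hy e k => h.not_central hx hy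
    (k.trans (card_dvd_of_injective (((Subgroup.subtype _).comp (Subgroup.subtype _)).codRestrict _
      fun g => mem_cent1.2 (e ▸ commute_coe.1 (mem_cent1.1 g.2))) fun a b e =>
        Subtype.ext (Subtype.ext (congrArg Subtype.val e :))))
  have pr : ∀ {l : List G}, CL D l → l.length = 2 → ∃ p ∈ D, ∃ q ∈ Dd D p, l.prod = p * q := fun a e => by
    obtain ⟨p, q, rfl⟩ := List.length_eq_two.1 e
    exact ⟨p, (cl_cons.1 a).1, q, (cl_cons.1 a).2.mem q (by simp), by simp⟩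
  obtain ⟨l, a, e, k | k⟩ := h.len (α ⟨x * y, h.mulm hx hy.1⟩).2
    (by rw [← coe_mul, ← map_mul, show (_ * _ : commutator G) = 1 from
      Subtype.ext (h.pg.mul_sq hx hy.1 hy.2.2), map_one, coe_one])
    fun e => hy.2.1 ((h.pg.mul_eq_one hy.1).1 (congrArg Subtype.val
      (α.injective ((Subtype.ext e).trans (map_one α).symm)))).symm
  · exact e ▸ pr a k
  exfalso
  obtain ⟨P⟩ : Nonempty (Sylow 2 (commutator G)) := inferInstance
  have cP : Nat.card P = 2 ^ 21 := by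
    have := (commutator G).card_mul_index
    rw [h.index, h.card] at this
    rw [P.card_eq_multiplicity, show Nat.card (commutator G) = 1255205709190661721292800 by omega]
    congr 1
    exact (Nat.factorization_eq_of_coprime_left (a := 2 ^ 21) (b := 598528723330813275) (p := 2)
      (by norm_num) (by simp [-Nat.reducePow, Nat.prime_two])).trans (Nat.factorization_pow_self Nat.prime_two)
  have : Nontrivial P := Finite.one_lt_card_iff_nontrivial.1 (by omega)
  have := P.isPGroup'.center_nontrivial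
  obtain ⟨z, o⟩ := exists_prime_orderOf_dvd_card' (G := center P) 2
    (((P.isPGroup'.to_subgroup _).card_eq_or_dvd).resolve_left Finite.one_lt_card.ne')
  have o' : orderOf (z.1.1.1 : G) = 2 := by simpa only [orderOf_coe] using o
  have Wz : 2 ^ 21 ∣ Nat.card (centralizer {z.1.1}) := cP ▸ card_dvd_of_le fun g hg =>
    mem_cent1.2 (congrArg Subtype.val (mem_center_iff.1 z.2 ⟨g, hg⟩))
  obtain ⟨l', a', e', k' | k'⟩ := h.len z.1.1.2 (H20.mul_self_of_orderOf_two o') (H20.ne_one_of_orderOf_two o')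
  · obtain ⟨p, hp, q, hq, e⟩ := pr a' k'
    exact N _ hp hq (e'.symm.trans e) Wz
  obtain ⟨g, rfl⟩ := h.toFG.trc a' a (k'.trans k.symm) (by omega)
  have := W α.symm _ (W (MulAut.conjNormal g) _ Wz)
  rw [show MulAut.conjNormal g z.1.1 = α ⟨x * y, h.mulm hx hy.1⟩ from Subtype.ext
    (by rw [← e, ← J_prod, e']; rfl), α.symm_apply_apply] at this
  exact N _ hx hy rfl this

end F24

/-- an automorphism of the derived group -/
structure A24 (D : Set G) (A : G → G) : Prop extends F24 D where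
  mul : ∀ {g k}, g ∈ commutator G → k ∈ commutator G → A (g * k) = A g * A k
  inj : ∀ {g k}, g ∈ commutator G → k ∈ commutator G → A g = A k → g = k
  two : ∀ {x y}, x ∈ D → y ∈ Dd D x → ∃ p ∈ D, ∃ q ∈ Dd D p, A (x * y) = p * q

namespace A24
variable {A : G → G} (h : A24 D A)
include h

theorem mm {x y : G} (hx : x ∈ D) (hy : y ∈ D) : x * y ∈ commutator G := h.toF24.mulm hx hy

theorem tri {x y z : G} (hx : x ∈ D) (hy : y ∈ Dd D x) (hz : z ∈ D) :
    A (y * z) = A (x * y) * A (x * z) := by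
  rw [← h.mul (h.mm hx hy.1) (h.mm hx hz), hy.2.2.eq, mul_assoc, h.pg.cancel hx]

theorem share {x y z p q r s : G} (hx : x ∈ D) (hy : y ∈ Dd D x) (hz : z ∈ Dd (Dd D x) y) (hp : p ∈ D)
    (hq : q ∈ Dd D p) (hr : r ∈ D) (hs : s ∈ Dd D r) (e1 : A (x * y) = p * q) (e2 : A (x * z) = r * s) :
    p = r ∨ p = s ∨ q = r ∨ q = s := by
  have k := cl_pair hx hy
  have pf := (h.toF24.loc_list (n := 1) rfl k (h.toF24.mem2 k) rfl).1
  set K := commutator G ⊓ centralizer {a | a ∈ [x, y]}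
  let φ : K →* G := MonoidHom.mk' (fun g => A g) fun a b => h.mul a.2.1 b.2.1
  have c : ∀ g : K, Commute (φ g) (p * q) := fun g => by
    have : Commute (g : G) (x * y) := (zc_iff.1 g.2.2 x (by simp)).mul_right (zc_iff.1 g.2.2 y (by simp))
    rw [← e1, Commute, SemiconjBy]
    exact (h.mul g.2.1 (h.mm hx hy.1)).symm.trans (this.eq ▸ h.mul (h.mm hx hy.1) g.2.1)
  have all : commutator K ≤ (centralizer {p, q}).comap φ := commutator_le.2 fun a _ b _ => by
    have k : ∀ u, u = p ∨ u = q → J (φ a * φ b) u = J (φ b * φ a) u := by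
      rcases h.toFG.swap hp hq (c a) with ⟨a1, a2⟩ | ⟨a1, a2⟩ <;>
      rcases h.toFG.swap hp hq (c b) with ⟨b1, b2⟩ | ⟨b1, b2⟩ <;> simp [J_mul, a1, a2, b1, b2]
    have := h.toFG.swap hp hq ((c b).mul_left (c a)).inv_left
    rw [mem_comap, map_commutatorElement, mem_cent2, ← J_eq_self, ← J_eq_self, commutatorElement_def,
      mul_assoc, ← mul_inv_rev, J_mul, J_mul _ _⁻¹, k _ (this.imp And.left And.left),
      k _ (this.symm.imp And.right And.right), J_J_inv, J_J_inv]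
    exact ⟨rfl, rfl⟩
  have m : x * z ∈ K := ⟨h.mm hx hz.1.1, zc_iff.2 (by
    simpa using ⟨(Commute.refl x).mul_left hz.1.2.2.symm, hy.2.2.mul_left hz.2.2.symm⟩)⟩
  have := mem_cent2.1 (all (pf.commutator_eq_top ▸ mem_top (⟨_, m⟩ : K)))
  rw [show φ ⟨_, m⟩ = r * s from e2] at this
  have c1 := h.pg.commute_mul hr hs.1 hp hs.2.1.symm this.1.symm
  have c2 := h.pg.commute_mul hr hs.1 hq.1 hs.2.1.symm this.2.symm
  by_contra n
  simp only [not_or] at n
  obtain ⟨u, hu, v, hv, e⟩ := h.two hy.1 ⟨hz.1.1, hz.2⟩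
  rw [h.tri hx hy hz.1.1, e1, e2] at e
  have := h.toFG.length_eq (k := 4) (by omega) (cl_pair hu hv) (l' := [p, q, r, s])
    (cl_cons.2 ⟨hp, cl_three hq ⟨hr, Ne.symm n.1, c1.1⟩ ⟨hs.1, Ne.symm n.2.1, c1.2⟩ n.2.2.1 n.2.2.2
      hs.2.1.symm c2.1 c2.2 hs.2.2⟩) (by simp [← e, mul_assoc]) (by simp) (by simp)
  simp at this

theorem third {x y z w p q r : G} (hx : x ∈ D) (hy : y ∈ Dd D x) (hz : z ∈ Dd (Dd D x) y)
    (hw : w ∈ Dd (Dd D x) y) (zw : w ∈ Dd D z) (hp : p ∈ D) (hq : q ∈ Dd D p) (hr : r ∈ Dd D p)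
    (e1 : A (x * y) = p * q) (e2 : A (x * z) = p * r) : ∃ s ∈ Dd D p, A (x * w) = p * s := by
  obtain ⟨u, hu, v, hv, e⟩ := h.two hx hw.1
  by_cases pu : p = u
  · exact ⟨v, pu ▸ hv, pu ▸ e⟩
  by_cases pv : p = v
  · exact ⟨u, pv ▸ Dd_symm hu hv, pv ▸ e.trans hv.2.2⟩
  have a := h.share hx hy hw hp hq hu hv e1 e
  have b := h.share hx hz.1 ⟨hw.1, zw.2⟩ hp hr hu hv e2 e
  have qr : q ≠ r := fun k => hz.2.1 (mul_left_cancel (h.inj (h.mm hx hz.1.1) (h.mm hx hy.1)
    (by rw [e1, e2, k])))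
  have : A (x * w) = A (y * z) := by
    rw [h.tri hx hy hz.1.1, e1, e2, hq.2.2.eq, mul_assoc, h.pg.cancel hp, e]
    simp only [pu, pv, false_or] at a b
    rcases a with rfl | rfl <;> rcases b with rfl | rfl
    exacts [absurd rfl qr, rfl, hv.2.2, absurd rfl qr]
  rcases h.toFG.pair_eq hy.1 ⟨hz.1.1, hz.2⟩ hx hw.1 (h.inj (h.mm hx hw.1.1) (h.mm hy.1 hz.1.1) this).symm
    with k | k
  exacts [absurd k.symm hy.2.1, absurd k.symm hz.1.2.1]

/-- the image of a point -/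
def Star (D : Set G) (A : G → G) (x p : G) : Prop := p ∈ D ∧ ∀ y ∈ Dd D x, ∃ q ∈ Dd D p, A (x * y) = p * q

theorem ex_star {x : G} (hx : x ∈ D) : ∃ p, Star D A x p := by
  obtain ⟨l, a, e⟩ := (h.lev.loc hx).ex (m := 2) (by omega)
  obtain ⟨y, z, rfl⟩ := List.length_eq_two.1 e
  obtain ⟨hy, a⟩ := cl_cons.1 a
  have hz := a.mem z (by simp)
  obtain ⟨p, hp, q, hq, r, hr, e1, e2⟩ : ∃ p ∈ D, ∃ q ∈ Dd D p, ∃ r ∈ Dd D p, A (x * y) = p * q ∧
      A (x * z) = p * r := by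
    obtain ⟨p, hp, q, hq, e1⟩ := h.two hx hy
    obtain ⟨r, hr, s, hs, e2⟩ := h.two hx hz.1
    rcases h.share hx hy hz hp hq hr hs e1 e2 with rfl | rfl | rfl | rfl
    exacts [⟨_, hp, _, hq, _, hs, e1, e2⟩, ⟨_, hp, _, hq, _, Dd_symm hr hs, e1, e2.trans hs.2.2⟩,
      ⟨_, hr, _, Dd_symm hp hq, _, hs, e1.trans hq.2.2, e2⟩,
      ⟨_, hq.1, _, Dd_symm hp hq, _, Dd_symm hr hs, e1.trans hq.2.2, e2.trans hs.2.2⟩]
  let B : Set G := {y | y ∈ Dd D x ∧ ∃ q ∈ Dd D p, A (x * y) = p * q}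
  have nb : ∀ y ∈ B, ∀ z ∈ B, z ∈ Dd D y → Dd (Dd D x) y ⊆ B := fun y ⟨hy, q, hq, e1⟩ z hz k =>
    (((h.lev.loc hx).loc hy).conn (Dd (Dd D x) y ∩ B) Set.inter_subset_left ⟨z, ⟨hz.1, k.2⟩, hz⟩
      fun z ⟨hz, _, r, hr, e2⟩ w hw c => ⟨hw, hw.1, by
        by_cases e : w = z
        · exact ⟨r, hr, e ▸ e2⟩
        · exact h.third hx hy hz hw ⟨hw.1.1, e, c⟩ hp hq hr e1 e2⟩).trans Set.inter_subset_right
  have := (h.lev.loc hx).conn {y | y ∈ B ∧ Dd (Dd D x) y ⊆ B} (fun _ k => k.1.1)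
    ⟨y, ⟨hy, q, hq, e1⟩, nb y ⟨hy, q, hq, e1⟩ z ⟨hz.1, r, hr, e2⟩ ⟨hz.1.1, hz.2⟩⟩ fun y k w hw c => by
      by_cases e : w = y
      · exact e ▸ k
      · exact ⟨k.2 ⟨hw, e, c⟩, nb w (k.2 ⟨hw, e, c⟩) y k.1 ⟨k.1.1.1, Ne.symm e, c.symm⟩⟩
  exact ⟨p, hp, fun y hy => (this hy).1.2⟩

theorem star_eq {x p p' : G} (hx : x ∈ D) (s : Star D A x p) (s' : Star D A x p') : p' = p := by
  obtain ⟨l, a, e⟩ := (h.lev.loc hx).ex (m := 2) (by omega)
  obtain ⟨y, z, rfl⟩ := List.length_eq_two.1 e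
  have k : ∀ y ∈ Dd D x, p' ≠ p → A (x * y) = p * p' := fun y hy n => by
    obtain ⟨q, hq, e⟩ := s.2 y hy
    obtain ⟨q', hq', e'⟩ := s'.2 y hy
    rw [e, (h.toFG.pair_eq s.1 hq s'.1 hq' (e.symm.trans e')).resolve_left n]
  by_contra n
  have hy := a.mem y (by simp)
  have hz := a.mem z (by simp)
  simpa [mul_left_cancel (h.inj (h.mm hx hy.1) (h.mm hx hz.1) ((k y hy n).trans (k z hz n).symm))]
    using a.nd

theorem star_mul {x y p q : G} (hx : x ∈ D) (hy : y ∈ Dd D x) (s : Star D A x p) (s' : Star D A y q) :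
    q ∈ Dd D p ∧ A (x * y) = p * q := by
  obtain ⟨r, hr, e⟩ := s.2 y hy
  obtain ⟨r', hr', e'⟩ := s'.2 x (Dd_symm hx hy)
  rcases h.toFG.pair_eq s.1 hr s'.1 hr' (e.symm.trans (hy.2.2.eq ▸ e')) with rfl | rfl
  swap
  · exact ⟨hr, e⟩
  obtain ⟨_ | ⟨z, _⟩, a, ln⟩ := ((h.lev.loc hx).loc hy).ex (m := 1) (by omega)
  · simp at ln
  have hz := a.mem z (by simp)
  obtain ⟨u, hu, e1⟩ := s.2 z hz.1
  obtain ⟨v, hv, e2⟩ := s'.2 z ⟨hz.1.1, hz.2⟩
  have c : Commute (A (x * y)) (A (x * z)) := by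
    rw [Commute, SemiconjBy, ← h.tri hx hy hz.1.1, ← h.tri hx hz.1 hy.1, hz.2.2.eq]
  rw [h.tri hx hy hz.1.1, e, e1, hr.2.2.eq, mul_assoc, h.pg.cancel s.1] at e2
  have ru : u ≠ r := fun k => h.pg.ne _ hv.1 (by
    have := hv.2.1; rw [k, h.pg.sq r hr.1, eq_comm, h.pg.mul_eq_one hv.1] at e2; exact absurd e2.symm this)
  have : Commute r u := by
    rw [e, e1] at c
    simpa using hr.2.2.symm.inv_right.mul_right (by
      simpa using ((Commute.refl q).mul_right hu.2.2).inv_left.mul_left c : Commute r (q * u))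
  rcases h.toFG.pair_eq hr.1 ⟨hu.1, ru, this⟩ s.1 hv e2 with k | k
  exacts [absurd k.symm hr.2.1, absurd k.symm hu.2.1]

theorem A_J {g k : G} (hg : g ∈ commutator G) (hk : k ∈ commutator G) : A (J g k) = J (A g) (A k) := by
  rw [J, J, eq_mul_inv_iff_mul_eq, ← h.mul (mul_mem (mul_mem hg hk) (inv_mem hg)) hg, ← h.mul hg hk,
    inv_mul_cancel_right]

theorem star_J {x p g : G} (hx : x ∈ D) (hg : g ∈ commutator G) (s : Star D A x p) :
    Star D A (J g x) (J (A g) p) := ⟨h.pg.conj _ _ s.1, fun y hy => by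
  have := J_mem_Dd (h.pg.conj g⁻¹) hy
  rw [J_inv_J] at this
  obtain ⟨q, hq, e⟩ := s.2 _ this
  refine ⟨_, J_mem_Dd (h.pg.conj (A g)) hq, ?_⟩
  rw [← J_map_mul, ← e, ← h.A_J hg (h.mm hx this.1), J_map_mul, J_J_inv]⟩

theorem star_conj {x y p q : G} (hx : x ∈ D) (hy : y ∈ D) (s : Star D A x p) (s' : Star D A y q) :
    Star D A (J x y) (J p q) := by
  by_cases c : Commute x y
  · by_cases e : y = x
    · subst e
      rwa [h.star_eq hx s s', J_of_commute c, J_of_commute (Commute.refl p)]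
    · rwa [J_of_commute c, J_of_commute (h.star_mul hx ⟨hy, e, c⟩ s s').1.2.2]
  obtain ⟨w, hw, -⟩ := h.lev.perp hx hy c
  obtain ⟨r, s''⟩ := h.ex_star hw.1.1
  have := h.star_J hy (h.mm hx hw.1.1) s'
  rwa [(h.star_mul hx hw.1 s s'').2, J_mul, J_mul, J_of_commute hw.2.2.2.symm,
    J_of_commute (h.star_mul hy hw.2 s' s'').1.2.2.symm] at this

theorem star_act {x p g : G} (hx : x ∈ D) (s : Star D A x p) (hg : g ∈ commutator G) :
    A (J x g) = J p (A g) := by
  have A1 : A 1 = 1 := by simpa using h.mul (one_mem _) (one_mem _)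
  let M : Subgroup G :=
    { carrier := {g | g ∈ commutator G ∧ ∀ x p, x ∈ D → Star D A x p → A (J x g) = J p (A g)}
      one_mem' := ⟨one_mem _, fun _ _ _ _ => by simp [J_map_one, A1]⟩
      mul_mem' := fun {a b} ha hb => ⟨mul_mem ha.1 hb.1, fun x p hx s => by
        rw [J_map_mul, h.mul (J_mem_normal _ ha.1) (J_mem_normal _ hb.1), h.mul ha.1 hb.1, J_map_mul,
          ha.2 x p hx s, hb.2 x p hx s]⟩
      inv_mem' := fun {a} ha => ⟨inv_mem ha.1, fun x p hx s => by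
        have : ∀ a ∈ commutator G, A a⁻¹ = (A a)⁻¹ := fun a ha =>
          eq_inv_of_mul_eq_one_left (by rw [← h.mul (inv_mem ha) ha, inv_mul_cancel, A1])
        rw [J_map_inv, this _ (J_mem_normal _ ha.1), this _ ha.1, J_map_inv, ha.2 x p hx s]⟩ }
  have a : ∀ y ∈ D, ∀ z ∈ D, Commute y z → y * z ∈ M := fun y hy z hz c => by
    by_cases e : z = y
    · rw [e, h.pg.sq y hy]; exact one_mem _
    refine ⟨h.mm hy hz, fun x p hx s => ?_⟩
    obtain ⟨q, s1⟩ := h.ex_star hy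
    obtain ⟨r, s2⟩ := h.ex_star hz
    rw [J_map_mul, (h.star_mul hy ⟨hz, e, c⟩ s1 s2).2, J_map_mul, (h.star_mul (h.pg.conj _ _ hy)
      (J_mem_Dd (h.pg.conj x) ⟨hz, e, c⟩) (h.star_conj hx hy s s1) (h.star_conj hx hz s s2)).2]
  have b : ∀ y ∈ D, x * y ∈ M := fun y hy => by
    by_cases c : Commute x y
    · exact a x hx y hy c
    obtain ⟨w, hw, -⟩ := h.lev.perp hx hy c
    simpa [mul_assoc, h.pg.cancel hw.1.1] using
      mul_mem (a x hx w hw.1.1 hw.1.2.2) (a w hw.1.1 y hy hw.2.2.2.symm)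
  have k : ∀ g, g ∈ M ∨ x * g ∈ M := fun g => by
    induction (h.pg.top ▸ mem_top g : g ∈ closure D) using closure_induction_left with
    | one => exact .inl (one_mem _)
    | mul_left y hy g _ ih =>
      exact ih.symm.imp (fun k => by
        simpa [mul_assoc, h.pg.cancel hx, h.pg.inv hx, h.pg.inv hy] using mul_mem (inv_mem (b y hy)) k)
        fun k => mul_assoc x y g ▸ mul_mem (b y hy) k
    | inv_mul_cancel y hy g _ ih =>
      rw [h.pg.inv hy]
      exact ih.symm.imp (fun k => by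
        simpa [mul_assoc, h.pg.cancel hx, h.pg.inv hx, h.pg.inv hy] using mul_mem (inv_mem (b y hy)) k)
        fun k => mul_assoc x y g ▸ mul_mem (b y hy) k
  exact ((k g).resolve_right fun q => h.toF24.not_mem hx ((mul_mem_cancel_right hg).1 q.1)).2 x p hx s

end A24

theorem F24.card_aut (h : F24 D) : Nat.card (MulAut (commutator G)) = Nat.card G := by
  classical
  let κ : G →* MulAut (commutator G) := MulAut.conjNormal
  have inj : Function.Injective κ := (injective_iff_map_eq_one _).2 fun g hg =>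
    h.toFG.one (zc_iff.2 fun x hx => by
      have k : ∀ y ∈ Dd D x, ¬ Commute g x → J g x = y := fun y hy n =>
        ((h.toFG.swap hx hy (J_eq_self.1 (congrArg Subtype.val
          (DFunLike.congr_fun hg ⟨_, h.mulm hx hy.1⟩) :))).resolve_left fun q => n (J_eq_self.1 q.1)).1
      obtain ⟨l, a, e⟩ := (h.lev.loc hx).ex (m := 2) (by omega)
      obtain ⟨y, z, rfl⟩ := List.length_eq_two.1 e
      by_contra n
      simpa [← k y (a.mem y (by simp)) n, ← k z (a.mem z (by simp)) n] using a.nd)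
  refine (Nat.card_eq_of_bijective κ ⟨inj, fun α => ?_⟩).symm
  let A : G → G := fun g => if k : g ∈ commutator G then α ⟨g, k⟩ else 1
  have e : ∀ g : commutator G, A g = α g := fun g => dif_pos g.2
  have a : A24 D A := ⟨h, fun {g k} hg hk => by
    rw [e ⟨g, hg⟩, e ⟨k, hk⟩, e ⟨_, mul_mem hg hk⟩, ← coe_mul, ← map_mul]; rfl,
    fun {g k} hg hk q => by
      rw [e ⟨g, hg⟩, e ⟨k, hk⟩] at q
      exact congrArg Subtype.val (α.injective (Subtype.ext q)),
    fun hx hy => (e ⟨_, h.mulm hx hy.1⟩).symm ▸ h.two α hx hy⟩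
  have lv := h.lev.map inj
  obtain ⟨d, hd, -⟩ := h.pg.two
  obtain ⟨g, hg, z⟩ := lv.inn (d := κ d) ⟨d, hd, rfl⟩ (fun u hu c => inn23 (lv.loc ⟨d, hd, rfl⟩).t3
    ((image_Dd_inj inj D d).symm ▸ Lb.map inj (h.loc d hd)) u fun e he => J_of_commute c ▸ J_mem_Dd hu he)
    α (by
      rintro _ ⟨x, hx, rfl⟩
      obtain ⟨p, s⟩ := a.ex_star hx
      refine ⟨p, s.1, MulEquiv.ext fun g => Subtype.ext ?_⟩
      obtain ⟨g, rfl⟩ := α.surjective g
      have := a.star_act hx s g.2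
      rw [e g, e ⟨_, J_mem_normal x g.2⟩] at this
      simp only [J, κ, MulAut.mul_apply, MulAut.inv_apply, MulEquiv.symm_apply_apply]
      exact this.symm)
  rw [← MonoidHom.map_closure] at hg
  obtain ⟨g, -, rfl⟩ := hg
  have : κ g * α = 1 := MulEquiv.ext fun u => Subtype.ext (inj (by
    refine .trans ?_ (J_of_commute (zc_mul_comm (g := κ u) (by
      rw [← MonoidHom.map_closure, h.pg.top]; exact mem_map_of_mem _ (mem_top _)) z))
    generalize κ g * α = β
    refine MulEquiv.ext fun v => ?_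
    obtain ⟨v, rfl⟩ := β.surjective v
    simp only [J, κ, MulAut.mul_apply, MulAut.inv_apply, MulEquiv.symm_apply_apply,
      MulAut.conjNormal_val, MulAut.conj_apply, map_mul, map_inv, MulAut.one_apply]))
  exact ⟨g⁻¹, by rw [map_inv, inv_eq_iff_mul_eq_one, this]⟩

theorem out24 : Nat.card (Out Spor.Fi24') = 2 := by
  have : Finite Spor.Fi24 := Nat.finite_of_card_ne_zero (by rw [Fi24.card]; norm_num)
  obtain ⟨c, h, -⟩ := M24.c24
  have h := h.f24
  have := h.simple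
  have z : center Spor.Fi24' = ⊥ := by
    have := h.qs.1
    exact (IsSimpleGroup.eq_bot_or_eq_top_of_normal _ inferInstance).resolve_right fun q => by
      have := commutator_eq_bot_iff_le_centralizer.2 (show (⊤ : Subgroup Spor.Fi24') ≤ centralizer (⊤ : Subgroup Spor.Fi24') by
        rw [coe_top, centralizer_univ, q])
      exact bot_ne_top (this.symm.trans Group.IsPerfect.commutator_eq_top)
  have a := card_aut_eq z
  have b := (commutator Spor.Fi24).card_mul_index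
  rw [h.card_aut, ← b, h.index, mul_comm] at a
  exact (Nat.eq_of_mul_eq_mul_right Nat.card_pos a).symm

end Cfsg.Agent.H19
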