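import Mathlib
import Cfsg.Agent.L0.PSL2
import Cfsg.Agent.H10.SL2b
import Cfsg.Agent.H16.SmallAut
import Cfsg.Agent.H19.Sm1

/-! # Tori and Sylow subgroups of `SL₂(q)` -/

set_option autoImplicit false

namespace Cfsg.Agent.H19

open Cfsg.Agent.L0 Subgroup

variable {F : Type*} [Field F] [Fintype F]

theorem cyc_cent {G : Type*} [Group G] [Finite G] {d g u : G} (h : IsConj g d) (c : Commute u g)
    (o : orderOf u = Nat.card (centralizer ({d} : Set G))) : IsCyclic (centralizer ({d} : Set G)) := by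
  obtain ⟨x, rfl⟩ := isConj_iff.1 h
  refine isCyclic_of_orderOf_eq_card ⟨x * u * x⁻¹, mem_centralizer_singleton_iff.2
    (c.map (MulAut.conj x))⟩ ?_
  rw [← o, ← orderOf_coe]
  exact (MulAut.conj x).orderOf_eq u

theorem norm_le_norm_cent {G : Type*} [Group G] [Finite G] (P : Subgroup G) :
    normalizer (P : Set G) ≤ normalizer (centralizer (P : Set G) : Set G) := fun g hg =>
  mem_normalizer_fintype fun x hx y hy => by
    have := hx _ ((mem_normalizer_iff.1 (inv_mem hg) y).1 hy)
    calc _ = g * (g⁻¹ * y * g⁻¹⁻¹ * x) * g⁻¹ := by group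
    _ = _ := by rw [this]; group

theorem torus_info (hodd : Odd (Fintype.card F)) {d : S2 F} (hd : ¬ orderOf d ∣ 2 * Fintype.card F) :
    IsCyclic (centralizer ({d} : Set (S2 F))) ∧ (d : M2 F).trace ^ 2 ≠ 4 ∧ DetFull (tG d) ∧
      (Nat.card (centralizer ({d} : Set (S2 F))) = Fintype.card F - 1 ∨
        Nat.card (centralizer ({d} : Set (S2 F))) = Fintype.card F + 1) := by
  rcases s2_cases d with h | ⟨z, h⟩ | ⟨a, ha, h⟩ | ⟨c, hc, h⟩
  · refine absurd (Dvd.dvd.mul_right (orderOf_dvd_of_pow_eq_one ?_) _) hd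
    rcases isScal_iff_sq.1 h with rfl | rfl <;> simp
  · obtain ⟨p, hp⟩ := CharP.exists F
    haveI : Fact p.Prime := ⟨CharP.char_is_prime F p⟩
    refine absurd ((orderOf_dvd_two_mul d).trans (Nat.mul_dvd_mul_left 2
      ((orderOf_dvd_of_pow_eq_one (pj_pow_char_of_jb p h)).trans ?_))) hd
    exact (prime_dvd_char_iff_dvd_card p).1 (by rw [ringChar.eq F p])
  · have k := card_centralizer_s2_split ha (tG_ds a ▸ tG.map_isConj h)
    obtain ⟨u, hu⟩ := exists_orderOf_ds (F := F)
    refine ⟨cyc_cent h ((Commute.all u a).map dsHom) (hu.trans k.symm), ?_,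
      detFull_of_isConj_ds h, .inl k⟩
    rw [← trace_of_isConj_s2 h, ds_val, Matrix.trace_fin_two_of]
    intro e
    have : (a : F) * (a⁻¹ : Fˣ) = 1 := by simp
    exact ha (Units.ext (sub_eq_zero.1 (pow_eq_zero_iff two_ne_zero |>.1 (by
      linear_combination e - 4 * this))))
  · have nr : ∀ r : F, r ^ 2 - (d : M2 F).trace * r + (d : M2 F).det ≠ 0 := fun r => by
      have := elS_no_root hc r
      rw [trace_of_isConj_s2 h, (elS F c).2] at this
      rwa [d.2]
    have k := card_centralizer_s2_elliptic nr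
    obtain ⟨u, hu⟩ := exists_orderOf_elS (F := F)
    exact ⟨cyc_cent h ((Commute.all u c).map (elS F)) (hu.trans k.symm),
      disc_ne_of_no_root (two_ne_zero_of_odd hodd) nr, detFull_of_isConj_elS h, .inr k⟩

theorem sylow_odd (hodd : Odd (Fintype.card F)) (ℓ : ℕ) [hl : Fact ℓ.Prime] (hℓ : ℓ ≠ 2)
    (P : Sylow ℓ (S2 F)) {m : ℕ} (hm : m = Fintype.card F - 1 ∨ m = Fintype.card F + 1) (h : ℓ ∣ m) :
    Nat.card (centralizer (P : Set (S2 F))) = m ∧ IsCyclic (centralizer (P : Set (S2 F))) ∧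
      Nat.card (normalizer (P : Set (S2 F))) = 2 * m := by
  have q1 := Fintype.one_lt_card (α := F)
  have nq : ¬ ℓ ∣ Fintype.card F := fun k => hl.1.one_lt.ne' (by
    rcases hm with rfl | rfl
    · have := (Nat.dvd_sub_iff_right q1.le k).1 h
      simpa using this
    · simpa using (Nat.dvd_add_right k).1 h)
  obtain ⟨p, hp⟩ := CharP.exists F
  haveI : Fact p.Prime := ⟨CharP.char_is_prime F p⟩
  have cy : IsCyclic P := H10.sl2_isCyclic_of_isPGroup (p := p) (fun e => nq (by
    rw [e]; exact (prime_dvd_char_iff_dvd_card p).1 (by rw [ringChar.eq F p]))) hℓ P.isPGroup'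
  obtain ⟨d, hd⟩ := isCyclic_iff_exists_zpowers_eq_top.1 cy
  have e : (P : Subgroup (S2 F)) = zpowers (d : S2 F) := by
    have := MonoidHom.map_zpowers (P : Subgroup (S2 F)).subtype d
    rwa [hd, ← MonoidHom.range_eq_map, range_subtype] at this
  have dv : ℓ ∣ orderOf (d : S2 F) := by
    rw [← Nat.card_zpowers, ← e]
    refine P.dvd_card_of_dvd_card ?_
    rw [card_s2, sq_sub_one_eq]
    rcases hm with rfl | rfl
    exacts [(h.mul_right _).mul_left _, (h.mul_left _).mul_left _]
  obtain ⟨c1, c2, c3, c4⟩ := torus_info hodd (d := d) fun k => by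
    rcases (Nat.Prime.dvd_mul hl.1).1 (dv.trans k) with k | k
    exacts [hℓ ((Nat.prime_dvd_prime_iff_eq hl.1 Nat.prime_two).1 k), nq k]
  have e1 : centralizer (P : Set (S2 F)) = centralizer {(d : S2 F)} := by
    rw [show (P : Set (S2 F)) = zpowers (d : S2 F) from congrArg SetLike.coe e, zpowers_eq_closure,
      centralizer_closure]
  have dc : ℓ ∣ Nat.card (centralizer {(d : S2 F)}) :=
    dv.trans (orderOf_dvd_natCard _ (mem_centralizer_singleton_iff.2 rfl))
  have cm : Nat.card (centralizer {(d : S2 F)}) = m := by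
    by_contra n
    refine hℓ ((Nat.prime_dvd_prime_iff_eq hl.1 Nat.prime_two).1 ?_)
    have : ℓ ∣ Fintype.card F - 1 ∧ ℓ ∣ Fintype.card F + 1 := by
      rcases hm with rfl | rfl <;> rcases c4 with k | k <;> rw [k] at dc n <;> tauto
    have := Nat.dvd_sub this.2 this.1
    rwa [show Fintype.card F + 1 - (Fintype.card F - 1) = 2 by omega] at this
  have e2 : normalizer (P : Set (S2 F)) = normalizer (centralizer {(d : S2 F)} : Set (S2 F)) := by
    refine le_antisymm (e1 ▸ norm_le_norm_cent _) fun g hg => ?_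
    rw [show (P : Set (S2 F)) = zpowers (d : S2 F) from congrArg SetLike.coe e]
    refine mem_normalizer_fintype fun x ⟨n, hn⟩ => ?_
    rw [← hn, ← conj_zpow]
    rcases (mem_normalizer_cent_iff (two_ne_zero_of_odd hodd) c2).1 hg with k | k <;> rw [k]
    exacts [⟨n, rfl⟩, zpow_mem (inv_mem (mem_zpowers _)) _]
  rw [e1, e2, (torus_normalizer (two_ne_zero_of_odd hodd) c2 c3 rfl).1, cm]
  exact ⟨rfl, c1, rfl⟩

theorem cent_of_nc {S : Subgroup (S2 F)} {a b : S2 F} (ha : a ∈ S) (hb : b ∈ S) (n : a * b ≠ b * a) :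
    centralizer (S : Set (S2 F)) = center _ := by
  refine le_antisymm (fun g hg => mem_center_s2.2 (by_contra fun k => n ?_)) (center_le_centralizer _)
  exact comm_of_mem_cent k (mem_centralizer_singleton_iff.2 (hg a ha))
    (mem_centralizer_singleton_iff.2 (hg b hb))

theorem exists_w (h2 : (2 : F) ≠ 0) {a b : S2 F} (ha : a * a = -1) (hb : b * b = -1)
    (n : b * a = -(a * b)) : ∃ w : S2 F, w * a = b * w ∧ w * b = a * b * w := by
  have tr : ∀ {a : S2 F}, a * a = -1 → (a : M2 F).trace = 0 := fun {a} ha =>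
    (trace_eq_zero_iff_pow h2).2 ⟨by rw [show 4 = 2 * 2 from rfl, pow_mul, pow_two a, ha]; simp,
      by rw [pow_two, ha]; exact neg_one_ne_one_s2 h2⟩
  have t3 := tr (a := a * b) (by
    rw [mul_assoc, ← mul_assoc b, n, neg_mul, mul_assoc, hb]; simp [ha])
  have t1 := tr ha
  have t2 := tr hb
  have e1 : (a : M2 F) * a = -1 := congrArg Subtype.val ha
  have e2 : (b : M2 F) * b = -1 := congrArg Subtype.val hb
  have e3 : (b : M2 F) * a = -(a * b) := congrArg Subtype.val n
  rw [Matrix.SpecialLinearGroup.coe_mul] at t3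
  suffices h : ∃ W : M2 F, W.det = 1 ∧ W * a = b * W ∧ W * b = a * b * W from
    let ⟨W, h1, h2, h3⟩ := h
    ⟨⟨W, h1⟩, Subtype.ext h2, Subtype.ext h3⟩
  generalize (a : M2 F) = A at *
  generalize (b : M2 F) = B at *
  have e1' : ∀ X, A * (A * X) = -X := fun X => by rw [← mul_assoc, e1, neg_one_mul]
  have e2' : ∀ X, B * (B * X) = -X := fun X => by rw [← mul_assoc, e2, neg_one_mul]
  have e3' : ∀ X, B * (A * X) = -(A * (B * X)) := fun X => by
    rw [← mul_assoc, e3, neg_mul, mul_assoc]
  have hf : (2 : F)⁻¹ * 2 = 1 := inv_mul_cancel₀ h2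
  refine ⟨(2 : F)⁻¹ • (1 + A + B + A * B), ?_, ?_, ?_⟩
  · have t : ((2 : F)⁻¹ • (1 + A + B + A * B)).trace = 1 := by simp [t1, t2, t3, hf]
    have k : ((2 : F)⁻¹ • (1 + A + B + A * B)) * ((2 : F)⁻¹ • (1 + A + B + A * B)) =
        (2 : F)⁻¹ • (1 + A + B + A * B) - 1 := by
      simp only [smul_mul_smul_comm, mul_add, add_mul, mul_assoc, e1, e2, e3, e1', e2', e3', mul_one,
        one_mul, mul_neg, neg_neg]
      match_scalars <;> field_simp <;> ring
    generalize (2 : F)⁻¹ • (1 + A + B + A * B) = W at t k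
    have k0 := congrFun (congrFun k 0) 0
    rw [Matrix.trace_fin_two] at t
    simp only [Matrix.mul_apply, Fin.sum_univ_two, Matrix.sub_apply, Matrix.one_apply_eq] at k0
    rw [Matrix.det_fin_two]
    linear_combination W 0 0 * t - k0
  · simp only [smul_mul_assoc, mul_smul_comm, mul_add, add_mul, mul_assoc, e1, e2, e3, e1', e2', e3',
      mul_one, one_mul, mul_neg, neg_neg]
    module
  · simp only [smul_mul_assoc, mul_smul_comm, mul_add, add_mul, mul_assoc, e1, e2, e3, e1', e2', e3',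
      mul_one, one_mul, mul_neg, neg_neg]
    module

open QuaternionGroup in
theorem sylow_two (hodd : Odd (Fintype.card F)) (S : Sylow 2 (S2 F)) :
    centralizer (S : Set (S2 F)) = center _ ∧
    ((Fintype.card F % 8 = 1 ∨ Fintype.card F % 8 = 7) → normalizer (S : Set (S2 F)) = S) ∧
    ((Fintype.card F % 8 = 3 ∨ Fintype.card F % 8 = 5) →
      Nat.card (normalizer (S : Set (S2 F))) = 3 * Nat.card S) := by
  have h2 := two_ne_zero_of_odd hodd
  obtain ⟨k, hk, ⟨e⟩⟩ := (H10.sl2_two_group h2 S.isPGroup').resolve_left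
    (H10.not_isCyclic_sylow_two h2 S)
  have k2 : 2 ≤ 2 ^ k := Nat.le_self_pow (by omega) 2
  haveI : NeZero (2 ^ k) := ⟨by omega⟩
  let f : QuaternionGroup (2 ^ k) →* S2 F := (S : Subgroup (S2 F)).subtype.comp e.symm.toMonoidHom
  have fi : Function.Injective f := Subtype.val_injective.comp e.symm.injective
  have fm : ∀ x, f x ∈ (S : Subgroup (S2 F)) := fun x => (e.symm x).2
  have fs : ∀ s ∈ (S : Subgroup (S2 F)), ∃ x, f x = s := fun s hs => ⟨e ⟨s, hs⟩, by simp [f]⟩
  have od : orderOf (f (a 1)) = 2 * 2 ^ k := by rw [orderOf_injective f fi, orderOf_a_one]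
  have iv : f (xa 0) * f (a 1) * (f (xa 0))⁻¹ = (f (a 1))⁻¹ := by
    rw [← map_inv, ← map_mul, ← map_mul, ← map_inv]
    congr 1
    rw [mul_inv_eq_iff_eq_mul, eq_inv_mul_iff_mul_eq]; simp
  have nc : f (xa 0) * f (a 1) ≠ f (a 1) * f (xa 0) := fun r => by
    rw [r, mul_inv_cancel_right, eq_inv_iff_mul_eq_one, ← pow_two] at iv
    have := Nat.le_of_dvd two_pos (orderOf_dvd_of_pow_eq_one iv)
    omega
  have c1 := cent_of_nc (fm _) (fm _) nc
  have cS : Nat.card S = 4 * 2 ^ k := by rw [Nat.card_congr e.toEquiv, Nat.card_eq_fintype_card, card]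
  have cG := (S : Subgroup (S2 F)).card_mul_index
  have oi := S.not_dvd_index
  rw [card_s2, cS] at cG
  obtain ⟨r, hr⟩ := hodd
  have q1 := Fintype.one_lt_card (α := F)
  have e8 : Fintype.card F * (Fintype.card F ^ 2 - 1) = 4 * ((2 * r + 1) * (r * (r + 1))) := by
    rw [hr, show (2 * r + 1) ^ 2 = 4 * (r * (r + 1)) + 1 by ring, Nat.add_sub_cancel]; ring
  rw [e8, mul_assoc, Nat.mul_right_inj (by decide)] at cG
  refine ⟨c1, fun h => ?_, fun h => ?_⟩
  · have k4 : 2 ≤ k := by
      by_contra n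
      obtain rfl : k = 1 := by omega
      have : 4 ∣ (2 * r + 1) * (r * (r + 1)) := Dvd.dvd.mul_left (by
        rcases h with h | h
        exacts [Dvd.dvd.mul_right (by omega) _, Dvd.dvd.mul_left (by omega) _]) _
      omega
    have p4 : 4 ∣ 2 ^ k := pow_dvd_pow 2 k4
    obtain ⟨-, c2, -, -⟩ := torus_info ⟨r, hr⟩ (d := f (a 1)) (by
      rw [od, Nat.mul_dvd_mul_iff_left two_pos]
      intro k
      have := p4.trans k
      omega)
    have A : ∀ g ∈ normalizer (S : Set (S2 F)), g ∈ centralizer {f (a 1)} → g ∈ (S : Subgroup _) := by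
      intro g hg hc
      have := conj_eq_inv_of_mem_cent (not_isScal_of_disc c2) hc iv
      have m : g * g ∈ (S : Subgroup _) := by
        have m := mul_mem ((mem_normalizer_iff.1 hg _).1 (inv_mem (fm (xa 0)))) (fm (xa 0))
        rwa [← this, show g * (f (xa 0))⁻¹ * (f (xa 0) * g * (f (xa 0))⁻¹) * f (xa 0) = g * g by group] at m
      obtain ⟨j, hj⟩ := S.isPGroup' ⟨_, m⟩
      have := isPGroup_sup_zpowers S.isPGroup' (g := g) (k := j + 1)
        (by rw [pow_succ', pow_mul, pow_two]; exact congrArg Subtype.val hj) hg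
      exact (S.is_maximal' this le_sup_right).le (mem_sup_left (mem_zpowers g))
    refine le_antisymm (fun g hg => ?_) le_normalizer
    obtain ⟨x, hx⟩ := fs _ ((mem_normalizer_iff.1 hg _).1 (fm (a 1)))
    rcases x with i | i
    · have := eq_or_eq_inv_of_mem_cent h2 c2 (t := f (a i)) (mem_centralizer_singleton_iff.2 (by
        rw [← map_mul, ← map_mul, a_mul_a, a_mul_a, add_comm])) (by rw [hx, trace_conj_s2])
      rw [hx] at this
      rcases this with k | k
      · exact A g hg (mem_centralizer_singleton_iff.2 (mul_inv_eq_iff_eq_mul.1 k))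
      · have := A _ (mul_mem (inv_mem (le_normalizer (fm (xa 0)))) hg)
          (mem_centralizer_singleton_iff.2 (by
            rw [← iv] at k
            calc _ = (f (xa 0))⁻¹ * (g * f (a 1) * g⁻¹) * g := by group
            _ = _ := by rw [k]; group))
        simpa using mul_mem (fm (xa 0)) this
    · have : orderOf (f (xa i)) = orderOf (f (a 1)) := by
        rw [hx]; exact (MulAut.conj g).orderOf_eq _
      rw [od, orderOf_injective f fi, orderOf_xa] at this
      omega
  · obtain rfl : k = 1 := by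
      by_contra n
      have p4 : 4 ∣ 2 ^ k := pow_dvd_pow 2 (by omega : 2 ≤ k)
      have := p4.mul_right (S : Subgroup (S2 F)).index
      rw [cG] at this
      have := Nat.Coprime.dvd_of_dvd_mul_left (by
        exact (Nat.coprime_two_left.2 ⟨r, rfl⟩).pow_left 2) this
      obtain ⟨u, hu⟩ : ∃ u, r = 4 * u + 1 ∨ r = 4 * u + 2 := ⟨r / 4, by omega⟩
      rcases hu with rfl | rfl
      · rw [show (4 * u + 1) * (4 * u + 1 + 1) = 4 * (4 * u * u + 3 * u) + 2 by ring] at this; omega
      · rw [show (4 * u + 2) * (4 * u + 2 + 1) = 4 * (4 * u * u + 5 * u + 1) + 2 by ring] at this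
        omega
    have i1 := (S : Subgroup (S2 F)).normalizerMonoidHom.ker.card_mul_index
    rw [index_ker, normalizerMonoidHom_ker, Nat.card_congr (subgroupOfEquivOfLe
      (centralizer_le_normalizer _)).toEquiv] at i1
    have i2 := card_subgroup_dvd_card (S : Subgroup (S2 F)).normalizerMonoidHom.range
    obtain ⟨e2⟩ := H16.nonempty_autQ8
    rw [Nat.card_congr ((MulAut.congr e).trans e2).toEquiv, Nat.card_perm, Nat.card_fin,
      show Nat.factorial 4 = 24 from rfl] at i2
    have i3 : Nat.card (centralizer ((S : Subgroup (S2 F)) : Set (S2 F))) = 2 := by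
      rw [show centralizer ((S : Subgroup (S2 F)) : Set (S2 F)) = center _ from c1]
      exact Nat.card_eq_two_iff.2 ⟨⟨1, one_mem _⟩, ⟨-1, mem_center_s2'.2 (.inr rfl)⟩,
        fun r => neg_one_ne_one_s2 h2 (congrArg Subtype.val r).symm, Set.eq_univ_of_forall fun x =>
          (mem_center_s2'.1 x.2).imp Subtype.ext Subtype.ext⟩
    have i4 := ((S : Subgroup (S2 F)).subgroupOf (normalizer ((S : Subgroup (S2 F)) : Set (S2 F)))).card_mul_index
    rw [Nat.card_congr (subgroupOfEquivOfLe le_normalizer).toEquiv, cS] at i4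
    have i5 : ¬ 2 ∣ ((S : Subgroup (S2 F)).subgroupOf (normalizer ((S : Subgroup (S2 F)) : Set (S2 F)))).index := fun k =>
      oi (k.trans (relIndex_dvd_index_of_le le_normalizer))
    have i6 : ((S : Subgroup (S2 F)).subgroupOf (normalizer ((S : Subgroup (S2 F)) : Set (S2 F)))).index ≠ 1 := fun k => by
      have sq : ∀ x : QuaternionGroup (2 ^ 1), x * x ≠ 1 → x * x * (x * x) = 1 → f x * f x = -1 :=
        fun x h1 h3 => (eq_or_eq_neg_of_sq_s2 h2 (by rw [← map_mul, pow_two, ← map_mul, h3, map_one])).resolve_left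
          fun r => h1 (fi (by rw [map_mul, r, map_one]))
      have s1 := sq (a 1) (by decide) (by decide)
      have s2 := sq (xa 0) (by decide) (by decide)
      obtain ⟨w, w1, w2⟩ := exists_w h2 s1 s2 (by
        rw [← neg_one_mul_s2, ← s1]; simp only [← map_mul]; congr 1)
      have : w ∈ normalizer ((S : Subgroup (S2 F)) : Set (S2 F)) := mem_normalizer_fintype fun x hx => by
        obtain ⟨x, rfl⟩ := fs x hx
        have : ∀ x : QuaternionGroup (2 ^ 1), ∃ i : Fin 4, x = a 1 ^ i.1 ∨ x = a 1 ^ i.1 * xa 0 := by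
          decide
        have m1 : J w (f (a 1)) ∈ (S : Subgroup (S2 F)) := by
          rw [J_def, w1, mul_inv_cancel_right]; exact fm _
        have m2 : J w (f (xa 0)) ∈ (S : Subgroup (S2 F)) := by
          rw [J_def, w2, mul_inv_cancel_right]; exact mul_mem (fm _) (fm _)
        obtain ⟨i, rfl | rfl⟩ := this x
        · rw [map_pow, ← conj_pow]; exact pow_mem m1 _
        · rw [map_mul, ← J_def, J_map_mul, map_pow, J_def, ← conj_pow]
          exact mul_mem (pow_mem m1 _) m2
      obtain ⟨x, rfl⟩ := fs w ((index_eq_one.1 k).ge (mem_top ⟨w, this⟩))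
      rw [← map_mul, ← map_mul, fi.eq_iff] at w1
      exact (by decide : ∀ x : QuaternionGroup (2 ^ 1), x * a 1 ≠ xa 0 * x) x w1
    rw [i3] at i1
    rw [cS]
    change Nat.card (normalizer ((S : Subgroup (S2 F)) : Set (S2 F))) = _
    have := Nat.le_of_dvd (by decide) i2
    generalize Nat.card (S : Subgroup (S2 F)).normalizerMonoidHom.range = R at *
    interval_cases R <;> omega

end Cfsg.Agent.H19
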