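import Cfsg.Agent.H19.TA5

/-! Tensor products of two symplectic spaces, small dimensions. -/

set_option autoImplicit false
set_option maxHeartbeats 400000

namespace Cfsg.Agent.H19.TA

open Module H10 H11 H26 H26.MX Cfsg.Geo Matrix Kronecker

variable {F : Type*} [Field F] {ι : Type} [Fintype ι] [DecidableEq ι] {a b : ℕ}

theorem spsp_max5 [Fintype F] {Q : (ι → F) → F} (hQ : IsNondegenerateQuadraticForm Q)
    (ha : 2 ≤ a) (hab : a < b) (hb : 5 ≤ b) (hq : ¬ (Fintype.card F = 2 ∧ a = 2))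
    (e : ι ≃ Fin a × Fin b) (P : GL ι F) {f₁ : (Fin a → F) → (Fin a → F) → F}
    {f₂ : (Fin b → F) → (Fin b → F) → F} (h₁ : IsSymplecticForm f₁) (h₂ : IsSymplecticForm f₂)
    (hT : IsTensorFormStructure id (QuadraticMap.polar Q) f₁ f₂ e P)
    (hp : ∀ (x : Fin a → F) (y : Fin b → F), Q (P.val *ᵥ ((fun p => x p.1 * y p.2) ∘ e)) = 0) :
    IsMaximalIn (omegaGL Q) (tensorProductSubgroup a b e P ⊓ omegaGL Q) := by
  classical
  obtain ⟨c, hc, hT⟩ := hT
  have s₁ := sep_of h₁.bilinear h₁.nondegenerate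
  have s₂ := sep_of h₂.bilinear h₂.nondegenerate
  obtain ⟨θ, hθ⟩ := exists_theta s₂
  have h1 := tensor_form h₁.bilinear h₂.bilinear hT hθ
  have h : TF (c • bilinOf h₁.bilinear) _ _ _ := ⟨clAlt (fun x => by simp [h₁.alternating])
    fun x hx => s₁ x fun y => by simpa [hc] using hx y, (clAlt (B := bilinOf h₂.bilinear) h₂.alternating s₂).pullback θ,
    (clO hQ).pullback (tenE e P), fun x w v => (h1 x w v).2, fun x w => by rw [(h1 x w 0).1, hp]⟩
  have a₁ : (bilinOf h₁.bilinear).IsAlt := h₁.alternating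
  have a₂ : (bilinOf h₂.bilinear).IsAlt := h₂.alternating
  obtain ⟨a', ha'⟩ := even_finrank_of_alt (a₁.isRefl.nondegenerate_iff_separatingLeft.mpr s₁) a₁
  obtain ⟨b', hb'⟩ := even_finrank_of_alt (a₂.isRefl.nondegenerate_iff_separatingLeft.mpr s₂) a₂
  simp only [finrank_fintype_fun_eq_card, Fintype.card_fin] at ha' hb'
  have : Nontrivial (Fin a → F) := Module.nontrivial_of_finrank_pos (R := F) (by simp; omega)
  let φ := (glEquiv ι F).trans (cjE (tenE e P))
  have h2 : ∀ g, g ∈ omegaGL Q ↔ φ g ∈ h.hV.Om := fun g => (mem_omegaGL_iff (clO hQ) (by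
    rw [Fintype.card_congr e]; simp; nlinarith) g).trans (mem_om_cjE _ _ _)
  refine MaxP.isMaximalIn (fun M hM hM' g hg hg' x hx => ?_) fun hle => ?_
  · have h3 : ∀ k ∈ h.hV.Om, Tn k → k ∈ M.map φ.toMonoidHom := fun k hk hk' => ⟨φ.symm k, hM
      ⟨mem_ten_of_tn (by rwa [← φ.apply_symm_apply k] at hk'), (h2 _).2 (by simpa)⟩, by simp⟩
    have h4 : TM _ _ _ _ (M.map φ.toMonoidHom) := ⟨h, by
      rintro _ ⟨y, hy, rfl⟩; exact h.hV.om_le_isom ((h2 y).1 (hM' hy)),
      fun s hs => h3 _ (h.lf_mem hs) ⟨s, 1, fun β z => by ext; simp⟩,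
      fun t ht => h3 _ (h.rt_mem ht) ⟨1, t⁻¹.dualMap, fun β z => by ext; simp⟩⟩
    by_contra h5
    refine hg' (mem_ten_of_tn (h4.tn_of_mem (by simpa) ?_ (fun h6 => h5 ?_) (by simp; omega) ⟨g, hg, rfl⟩))
    · by_cases h : a = 2
      · obtain ⟨c, hc⟩ := exists_not_mem_card (F := F) (n := 2) (by
          have := Fintype.one_lt_card (α := F); rw [Nat.card_eq_fintype_card]; omega) {0, 1}
          Finset.card_le_two
        exact Or.inr ⟨c, by simpa using hc⟩
      · exact Or.inl (by simp; omega)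
    · obtain ⟨y, hy, h7⟩ := h6 ((h2 x).1 hx)
      rwa [← φ.injective h7]
  · obtain ⟨k, h3, h4⟩ := h.exists_not_tn (by simpa)
    exact h4 ((φ.apply_symm_apply k).subst (tn_of_mem_ten (hle ((h2 (φ.symm k)).2 (by simpa)))))

end Cfsg.Agent.H19.TA
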