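import Mathlib
import Cfsg.Agent.H2.Components
import Cfsg.Agent.H2.Fitting

set_option autoImplicit false
open Cfsg

namespace Cfsg.Agent.H19

open Cfsg.Agent.H2 in
theorem mem_pCore_of_ring {C R : Type*} [Group C] [Ring R] (f : C →* R) (hf : Function.Injective f)
    (h2 : (2 : R) = 0) {N : R} (hN : N * N = 0) (hc : ∀ c, f c * N = N * f c) {c : C} {M : R}
    (h : f c = 1 + N * M) : c ∈ pCore 2 C := by
  have sq : ∀ {c M}, f c = 1 + N * M → c * c = 1 := fun {c M} h => hf (by
    have k := hc c
    rw [h, add_mul, mul_add, ← mul_assoc, hN, zero_mul, add_zero, one_mul, mul_one, add_eq_left] at k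
    rw [map_mul, map_one, h, add_mul, mul_add, mul_add, ← mul_assoc (N * M), k, one_mul, one_mul, mul_one,
      zero_mul, add_zero, add_assoc, ← two_mul, h2, zero_mul, add_zero])
  let Q : Subgroup C :=
    { carrier := {c | ∃ M, f c = 1 + N * M}
      one_mem' := ⟨0, by simp⟩
      mul_mem' := fun ⟨M, h⟩ ⟨M', h'⟩ => ⟨M + M' + M * N * M', by rw [map_mul, h, h']; noncomm_ring⟩
      inv_mem' := fun ⟨M, h⟩ => ⟨M, by rw [inv_eq_of_mul_eq_one_left (sq h), h]⟩ }
  have : Q.Normal := ⟨fun c ⟨M, h⟩ g => ⟨f g * M * f g⁻¹, by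
    rw [map_mul, map_mul, h, mul_add, add_mul, mul_one, ← map_mul, ← mul_assoc, hc]; simp [mul_assoc]⟩⟩
  exact le_pCore (N := Q) (fun ⟨c, M, h⟩ => ⟨1, Subtype.ext (by simpa [pow_two] using sq h)⟩) ⟨M, h⟩

theorem mem_pCore_of_ring' {C R : Type*} [Group C] [Ring R] (f : C →* R) (hf : Function.Injective f)
    (h2 : (2 : R) = 0) {N : R} (hN : N * N = 0) (hc : ∀ c, f c * N = N * f c) {c : C} {M : R}
    (h : f c = 1 + M * N) : c ∈ pCore 2 C := by
  have := mem_pCore_of_ring (R := Rᵐᵒᵖ) ((MonoidHom.op f).comp (MulEquiv.inv' C : C →* Cᵐᵒᵖ))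
    (fun a b r => by simpa [hf.eq_iff] using r) (by rw [← MulOpposite.op_ofNat, h2]; rfl)
    (N := .op N) (by rw [← MulOpposite.op_mul, hN]; rfl)
    (fun c => by simp [← MulOpposite.op_mul, hc]) (c := c⁻¹) (M := .op M) (by simp [h])
  simpa using inv_mem this

open Matrix in
/-- The centraliser of `O₂(C(t))` in `C(t)`, `t` a transvection over the field with two elements. -/
theorem cent_tv {F : Type*} [Field F] [Fintype F] [DecidableEq F] (hF : Fintype.card F = 2) {n : ℕ}
    {i j : Fin n} (hij : i ≠ j) {t : SpecialLinearGroup (Fin n) F} (ht : t.1 = transvection i j 1)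
    (g : Subgroup.centralizer ({t} : Set _)) (hg : ∀ x ∈ pCore 2 _, x * g = g * x) :
    g.1 = 1 ∨ g.1 = t := by
  have u : ∀ a : F, a = 0 ∨ a = 1 := fun a => (em (a = 0)).imp_right fun r => by
    simpa [hF] using FiniteField.pow_card_sub_one_eq_one a r
  have h2 : (2 : Matrix (Fin n) (Fin n) F) = 0 := by
    rw [← one_add_one_eq_two, ← one_smul F (1 : Matrix _ _ F), ← add_smul, (u (1 + 1)).resolve_right (by simp),
      zero_smul]
  let f : Subgroup.centralizer ({t} : Set _) →* Matrix (Fin n) (Fin n) F :=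
    SpecialLinearGroup.coeMonoidHom.comp (Subgroup.subtype _)
  have hf : Function.Injective f := fun a b r => Subtype.ext (Subtype.ext r)
  have cm : ∀ {a b : SpecialLinearGroup (Fin n) F} {k l : Fin n}, b.1 = transvection k l 1 →
      (a * b = b * a ↔ a.1 * single k l 1 = single k l 1 * a.1) := fun {a b k l} h => by
    refine Subtype.ext_iff.trans ?_
    change a.1 * b.1 = b.1 * a.1 ↔ _
    rw [h, transvection, mul_add, add_mul,
      mul_one, one_mul, add_right_inj]
  have hc : ∀ c, f c * single i j 1 = single i j 1 * f c := fun c =>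
    (cm ht).1 (Subgroup.mem_centralizer_singleton_iff.1 c.2)
  have hN : (single i j 1 : Matrix _ _ F) * single i j 1 = 0 := single_mul_single_of_ne _ _ _ _ hij.symm _
  have mk : ∀ k l, k ≠ l → k ≠ j → l ≠ i → ∃ c, f c = transvection k l 1 := fun k l h a b =>
    ⟨⟨⟨transvection k l 1, det_transvection_of_ne _ _ h _⟩, Subgroup.mem_centralizer_singleton_iff.2 ((cm ht).2 (by
      simp [transvection, mul_add, add_mul, single_mul_single_of_ne, a.symm, b]))⟩, rfl⟩
  have ent : ∀ {k l}, g.1.1 * single k l 1 = single k l 1 * g.1.1 → ∀ a b,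
      (if l = b then g.1.1 a k else 0) = if k = a then g.1.1 l b else 0 := fun {k l} h a b => by
    have := congrFun (congrFun h a) b
    simpa [Matrix.mul_apply, single_apply, ite_and] using this
  have e1 : ∀ l, l ≠ i → ∀ a b, (if l = b then g.1.1 a i else 0) = if i = a then g.1.1 l b else 0 := fun l h => by
    obtain ⟨c, k⟩ := mk i l h.symm hij h
    exact ent ((cm k).1 (congrArg Subtype.val (hg c (mem_pCore_of_ring f hf h2 hN hc (M := single j l 1)
      (by simp [k, transvection]))).symm))
  have e2 : ∀ k, k ≠ j → ∀ a b, (if j = b then g.1.1 a k else 0) = if k = a then g.1.1 j b else 0 := fun l h => by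
    obtain ⟨c, k⟩ := mk l j h h hij.symm
    exact ent ((cm k).1 (congrArg Subtype.val (hg c (mem_pCore_of_ring' f hf h2 hN hc (M := single l i 1)
      (by simp [k, transvection]))).symm))
  have ii : g.1.1 i i = 1 := (u _).resolve_left fun r => by
    have := det_eq_zero_of_column_eq_zero (A := g.1.1) i fun a => by
      have := e1 j hij.symm a j
      by_cases h : i = a
      · exact h ▸ r
      · simpa [h] using this
    simp at this
  have row : ∀ a b, a ≠ i → g.1.1 a b = (1 : Matrix _ _ F) a b := fun a b h => by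
    simpa [ii, one_apply] using (e1 a h i b).symm
  have col : ∀ a b, b ≠ j → g.1.1 a b = (1 : Matrix _ _ F) a b := fun a b h => by
    simpa [row j j hij.symm, one_apply, eq_comm] using e2 b h a j
  refine (u (g.1.1 i j)).imp (fun r => Subtype.ext ?_) fun r => Subtype.ext (ht ▸ ?_) <;> ext a b <;>
    by_cases h1 : a = i <;> by_cases h2 : b = j <;> simp_all [transvection, single_apply, eq_comm]

end Cfsg.Agent.H19
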